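import Cfsg.Agent.Lib.Classical.OrthOmega

/-!
# Decompositions into pairwise isometric orthogonal planes

The components of a vector, the isometries permuting the planes, and the shape of a product of two
reflections permuting the planes.
-/

set_option autoImplicit false
set_option linter.unusedSectionVars false

namespace Cfsg.Agent.Classical.OPlanes

open Module QuadraticMap OCount ORefl OOmega

variable {F : Type*} [Field F] {V : Type*} [AddCommGroup V] [Module F V] {Q : QuadraticForm F V} {t : ℕ}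

/-- A decomposition into at least five pairwise isometric orthogonal non-degenerate planes. -/
structure Planes (Q : QuadraticForm F V) (t : ℕ) where
  D : Fin t → Submodule F V
  rank : ∀ i, finrank F (D i) = 2
  orth : ∀ i j, i ≠ j → ∀ x ∈ D i, ∀ y ∈ D j, polar Q x y = 0
  nd : ∀ i, ∀ x ∈ D i, x ≠ 0 → ∃ y ∈ D i, polar Q x y ≠ 0
  top : ⨆ i, D i = ⊤
  five : 5 ≤ t
  iso : ∀ i j, ∃ e : D i ≃ₗ[F] D j, ∀ x, Q (e x : V) = Q (x : V)

variable (B : Planes Q t)

theorem Planes.components (x : V) : ∃ c : Fin t → V, (∀ i, c i ∈ B.D i) ∧ ∑ i, c i = x := by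
  classical
  have h : x ∈ ⨆ i, B.D i := by rw [B.top]; exact Submodule.mem_top
  obtain ⟨f, hf⟩ := (Submodule.mem_iSup_iff_exists_dfinsupp' B.D x).mp h
  refine ⟨fun a => f a, fun a => (f a).2, ?_⟩
  rw [← hf, DFinsupp.sum]
  refine (Finset.sum_subset (Finset.subset_univ _) fun a _ ha => ?_).symm
  rw [DFinsupp.notMem_support_iff] at ha
  rw [ha, Submodule.coe_zero]

theorem Planes.eq_of_polar {i : Fin t} {c c' : V} (hc : c ∈ B.D i) (hc' : c' ∈ B.D i)
    (h : ∀ u ∈ B.D i, polar Q c u = polar Q c' u) : c = c' := by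
  by_contra hne
  obtain ⟨u, hu, hne'⟩ := B.nd i _ (sub_mem hc hc') (sub_ne_zero.mpr hne)
  exact hne' (by rw [polar_sub_left, h u hu, sub_self])

theorem Planes.polar_sum {c : Fin t → V} (hc : ∀ i, c i ∈ B.D i) {i : Fin t} {u : V} (hu : u ∈ B.D i) :
    polar Q (∑ j, c j) u = polar Q (c i) u := by
  rw [← polarBilin_apply_apply, map_sum, LinearMap.sum_apply, Finset.sum_eq_single i]
  · rfl
  · intro j _ hj
    exact B.orth j i hj _ (hc j) _ hu
  · exact fun h => absurd (Finset.mem_univ i) h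

theorem Planes.exists_pr (i : Fin t) (x : V) : ∃ c ∈ B.D i, ∀ u ∈ B.D i, polar Q x u = polar Q c u := by
  obtain ⟨c, hc, rfl⟩ := B.components x
  exact ⟨c i, hc i, fun u hu => B.polar_sum hc hu⟩

/-- The component of a vector in a plane. -/
noncomputable def Planes.pr (i : Fin t) : V →ₗ[F] V where
  toFun x := (B.exists_pr i x).choose
  map_add' x y := B.eq_of_polar (B.exists_pr i (x + y)).choose_spec.1
    (add_mem (B.exists_pr i x).choose_spec.1 (B.exists_pr i y).choose_spec.1) fun u hu => by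
      rw [← (B.exists_pr i (x + y)).choose_spec.2 u hu, polar_add_left, polar_add_left,
        (B.exists_pr i x).choose_spec.2 u hu, (B.exists_pr i y).choose_spec.2 u hu]
  map_smul' r x := B.eq_of_polar (B.exists_pr i (r • x)).choose_spec.1
    ((B.D i).smul_mem r (B.exists_pr i x).choose_spec.1) fun u hu => by
      rw [← (B.exists_pr i (r • x)).choose_spec.2 u hu, RingHom.id_apply, polar_smul_left, polar_smul_left,
        (B.exists_pr i x).choose_spec.2 u hu]

theorem Planes.pr_mem (i : Fin t) (x : V) : B.pr i x ∈ B.D i := (B.exists_pr i x).choose_spec.1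

theorem Planes.polar_pr {i : Fin t} {x u : V} (hu : u ∈ B.D i) : polar Q x u = polar Q (B.pr i x) u :=
  (B.exists_pr i x).choose_spec.2 u hu

theorem Planes.pr_self {i : Fin t} {x : V} (hx : x ∈ B.D i) : B.pr i x = x :=
  B.eq_of_polar (B.pr_mem i x) hx fun _ hu => (B.polar_pr hu).symm

theorem Planes.pr_ne {i j : Fin t} (h : j ≠ i) {x : V} (hx : x ∈ B.D i) : B.pr j x = 0 :=
  B.eq_of_polar (B.pr_mem j x) (B.D j).zero_mem fun u hu => by
    rw [← B.polar_pr hu, polar_zero_left]; exact B.orth i j h.symm x hx u hu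

theorem Planes.pr_sum {c : Fin t → V} (hc : ∀ i, c i ∈ B.D i) (i : Fin t) : B.pr i (∑ j, c j) = c i :=
  B.eq_of_polar (B.pr_mem i _) (hc i) fun u hu => by rw [← B.polar_pr hu, B.polar_sum hc hu]

theorem Planes.sum_pr (x : V) : ∑ i, B.pr i x = x := by
  obtain ⟨c, hc, rfl⟩ := B.components x
  exact Finset.sum_congr rfl fun i _ => B.pr_sum hc i

theorem Planes.ext_pr {x y : V} (h : ∀ i, B.pr i x = B.pr i y) : x = y := by
  rw [← B.sum_pr x, ← B.sum_pr y, Finset.sum_congr rfl fun i _ => h i]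

theorem Planes.eq_zero_of_mem {i j : Fin t} (h : i ≠ j) {x : V} (hi : x ∈ B.D i) (hj : x ∈ B.D j) : x = 0 := by
  rw [← B.pr_self hi, B.pr_ne h hj]

theorem Planes.polar_eq (x y : V) : polar Q x y = ∑ i, polar Q (B.pr i x) (B.pr i y) := by
  conv_lhs => rw [← B.sum_pr y]
  rw [← polarBilin_apply_apply, map_sum]
  exact Finset.sum_congr rfl fun i _ => B.polar_pr (B.pr_mem i y)

theorem Planes.val_eq (x : V) : Q x = ∑ i, Q (B.pr i x) := by
  classical
  suffices ∀ s : Finset (Fin t), Q (∑ i ∈ s, B.pr i x) = ∑ i ∈ s, Q (B.pr i x) by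
    conv_lhs => rw [← B.sum_pr x]
    exact this _
  intro s
  induction s using Finset.cons_induction with
  | empty => simp
  | cons a s ha ih =>
    rw [Finset.sum_cons, Finset.sum_cons, OCount.map_two, ih, ← polarBilin_apply_apply, map_sum,
      Finset.sum_eq_zero (fun b hb => (polarBilin_apply_apply ..).trans (B.orth a b (fun e => ha (by rwa [e])) _ (B.pr_mem a x) _ (B.pr_mem b x))),
      add_zero]

include B in
theorem Planes.pnd : PND Q := fun v hv => B.ext_pr fun i => by
  rw [map_zero]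
  exact B.eq_of_polar (B.pr_mem i v) (B.D i).zero_mem fun u hu => by
    rw [← B.polar_pr hu, hv, polar_zero_left]

/-- The planes met by a vector. -/
noncomputable def Planes.supp (x : V) : Finset (Fin t) := by
  classical exact Finset.univ.filter fun i => B.pr i x ≠ 0

theorem Planes.mem_supp {x : V} {i : Fin t} : i ∈ B.supp x ↔ B.pr i x ≠ 0 := by
  classical simp [Planes.supp]

/-- An anisotropic vector of one of the planes. -/
def Planes.Ax (v : V) : Prop := Q v ≠ 0 ∧ ∃ i, v ∈ B.D i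

theorem Planes.mem_of_supp {x : V} {i : Fin t} (h : ∀ j, j ≠ i → B.pr j x = 0) : x ∈ B.D i := by
  rw [← B.sum_pr x, Finset.sum_eq_single i (fun j _ hj => h j hj) (fun h' => absurd (Finset.mem_univ i) h')]
  exact B.pr_mem i x

theorem Planes.pr_pair_zero {p q : Fin t} {x : V} (hx : x ∈ B.D p ⊔ B.D q) {i : Fin t} (hp : i ≠ p) (hq : i ≠ q) :
    B.pr i x = 0 := by
  obtain ⟨y, hy, z, hz, rfl⟩ := Submodule.mem_sup.mp hx
  rw [map_add, B.pr_ne hp hy, B.pr_ne hq hz, add_zero]

theorem Planes.mem_pair {p q : Fin t} {x : V} (h : ∀ j, j ≠ p → j ≠ q → B.pr j x = 0) :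
    x ∈ B.D p ⊔ B.D q := by
  classical
  by_cases hpq : q = p
  · exact Submodule.mem_sup_left (B.mem_of_supp fun j hj => h j hj (by rw [hpq]; exact hj))
  rw [← B.sum_pr x, ← Finset.sum_subset (Finset.subset_univ ({p, q} : Finset (Fin t))) (fun j _ hj => by
    simp only [Finset.mem_insert, Finset.mem_singleton, not_or] at hj
    exact h j hj.1 hj.2), Finset.sum_pair (Ne.symm hpq)]
  exact Submodule.add_mem_sup (B.pr_mem p x) (B.pr_mem q x)

/-- An isometry permuting the planes. -/
def Planes.IsSt (g : ↥(Iso Q)) : Prop := ∀ i, ∃ j, ∀ x ∈ B.D i, g.1 x ∈ B.D j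

theorem Planes.isSt_one : B.IsSt 1 := fun i => ⟨i, fun _ hx => hx⟩

theorem Planes.IsSt.mul {g h : ↥(Iso Q)} (hg : B.IsSt g) (hh : B.IsSt h) : B.IsSt (g * h) := fun i => by
  obtain ⟨j, hj⟩ := hh i
  obtain ⟨l, hl⟩ := hg j
  exact ⟨l, fun x hx => hl _ (hj x hx)⟩

theorem Planes.IsSt.inv [Finite ↥(Iso Q)] {g : ↥(Iso Q)} (h : B.IsSt g) : B.IsSt g⁻¹ := by
  have hp : ∀ n : ℕ, B.IsSt (g ^ n) := fun n => by
    induction n with
    | zero => rw [pow_zero]; exact B.isSt_one
    | succ n ih => rw [pow_succ]; exact ih.mul B h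
  have := hp (orderOf g - 1)
  rwa [← inv_eq_of_mul_eq_one_right (a := g) (b := g ^ (orderOf g - 1)) (by
    rw [← pow_succ', Nat.sub_add_cancel (orderOf_pos g), pow_orderOf_eq_one])] at this

/-- A reflection of a plane permutes the planes. -/
theorem Planes.isSt_rf {i : Fin t} {v : V} (hv : v ∈ B.D i) : B.IsSt (rf Q v) := fun j => ⟨j, fun x hx => by
  show refl Q v x ∈ B.D j
  by_cases h : j = i
  · subst h; rw [refl_apply]; exact sub_mem hx ((B.D j).smul_mem _ hv)
  · rw [refl_fix (B.orth i j (Ne.symm h) v hv x hx)]; exact hx⟩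

/-- A product of two reflections permuting the planes has its two centres in two planes. -/
theorem Planes.small_of_isSt [FiniteDimensional F V] {u w : V} (hu : Q u ≠ 0) (hw : Q w ≠ 0)
    (hind : ∀ a b : F, a • u + b • w = 0 → a = 0 ∧ b = 0) (h : B.IsSt (rf Q u * rf Q w)) :
    ∃ p q, u ∈ B.D p ⊔ B.D q ∧ w ∈ B.D p ⊔ B.D q := by
  classical
  obtain ⟨g, hg⟩ : ∃ g : V →ₗ[F] V, g = ((rf Q u * rf Q w).1 : V →ₗ[F] V) - LinearMap.id := ⟨_, rfl⟩
  have hgv : ∀ x, g x = (rf Q u * rf Q w).1 x - x := fun x => by rw [hg]; rfl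
  have hcomb : ∀ x, ∃ a b : F, g x = a • u + b • w ∧ b = -((Q w)⁻¹ * polar Q w x) ∧
      a = -((Q u)⁻¹ * (polar Q u x + b * polar Q u w)) := fun x => by
    refine ⟨_, _, ?_, rfl, rfl⟩
    rw [hgv]
    show refl Q u (refl Q w x) - x = _
    rw [refl_apply, refl_apply, polar_sub_right, polar_smul_right, smul_eq_mul]
    module
  -- the two centres are images
  have himg : ∀ a b : F, ∃ x, g x = a • u + b • w := by
    intro a b
    obtain ⟨x₁, hx₁⟩ : ∃ x, polar Q u x = 1 ∧ polar Q w x = 0 := by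
      obtain ⟨v, hv, hv1⟩ := exists_polar_sep B.pnd (H := Submodule.span F {w}) (x := u) (fun hm => by
        obtain ⟨s, hs⟩ := Submodule.mem_span_singleton.mp hm
        exact one_ne_zero (hind 1 (-s) (by rw [neg_smul, hs, one_smul, add_neg_cancel])).1) 1
      exact ⟨v, by rw [polar_comm, hv1], by rw [polar_comm, hv w (Submodule.mem_span_singleton_self w)]⟩
    obtain ⟨x₂, hx₂⟩ : ∃ x, polar Q u x = 0 ∧ polar Q w x = 1 := by
      obtain ⟨v, hv, hv1⟩ := exists_polar_sep B.pnd (H := Submodule.span F {u}) (x := w) (fun hm => by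
        obtain ⟨s, hs⟩ := Submodule.mem_span_singleton.mp hm
        exact one_ne_zero (hind (-s) 1 (by rw [neg_smul, hs, one_smul, neg_add_cancel])).2) 1
      exact ⟨v, by rw [polar_comm, hv u (Submodule.mem_span_singleton_self u)], by rw [polar_comm, hv1]⟩
    obtain ⟨a', b', e, hb', ha'⟩ := hcomb ((-(a * Q u) - b * polar Q u w) • x₁ + (-(b * Q w)) • x₂)
    refine ⟨_, e.trans ?_⟩
    simp only [polar_add_right, polar_smul_right, hx₁.1, hx₁.2, hx₂.1, hx₂.2, smul_eq_mul, mul_zero, mul_one,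
      add_zero, zero_add] at hb' ha'
    have eb : b' = b := by rw [hb']; field_simp
    have ea : a' = a := by rw [ha', eb]; field_simp; ring
    rw [eb, ea]
  choose π hπ using h
  by_cases hmove : ∃ i, π i ≠ i
  · obtain ⟨i, hi⟩ := hmove
    refine ⟨i, π i, ?_⟩
    have hinj : Function.Injective (g.domRestrict (B.D i)) := by
      rw [← LinearMap.ker_eq_bot, Submodule.eq_bot_iff]
      intro x hx
      rw [LinearMap.mem_ker, LinearMap.domRestrict_apply, hgv, sub_eq_zero] at hx
      have := hπ i x x.2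
      rw [hx] at this
      exact Subtype.ext (B.eq_zero_of_mem (Ne.symm hi) x.2 this)
    have hle : (B.D i).map g ≤ Submodule.span F {u, w} := by
      rintro _ ⟨x, -, rfl⟩
      obtain ⟨a, b, e, -, -⟩ := hcomb x
      rw [e]; exact Submodule.mem_span_pair.mpr ⟨a, b, rfl⟩
    have heq : (B.D i).map g = Submodule.span F {u, w} := by
      refine Submodule.eq_of_le_of_finrank_le hle ?_
      have h1 : finrank F ↥((B.D i).map g) = 2 := by
        rw [← B.rank i, ← LinearMap.range_domRestrict, LinearMap.finrank_range_of_inj hinj]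
      have h2 := finrank_span_finset_le_card (R := F) ({u, w} : Finset V)
      rw [Finset.coe_insert, Finset.coe_singleton, Set.finrank] at h2
      have := Finset.card_le_two (a := u) (b := w)
      omega
    have key : ∀ z ∈ Submodule.span F ({u, w} : Set V), z ∈ B.D i ⊔ B.D (π i) := fun z hz => by
      rw [← heq] at hz
      obtain ⟨x, hx, rfl⟩ := hz
      rw [hgv, sub_eq_add_neg, add_comm]
      exact Submodule.add_mem_sup (neg_mem hx) (hπ i x hx)
    exact ⟨key u (Submodule.subset_span (by simp)), key w (Submodule.subset_span (by simp))⟩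
  push Not at hmove
  have hmem : ∀ i, ∀ x ∈ B.D i, g x ∈ B.D i := fun i x hx => by
    have h := hπ i x hx
    rw [hmove i] at h
    rw [hgv]; exact sub_mem h hx
  have hpr : ∀ i x, B.pr i (g x) = g (B.pr i x) := fun i x => by
    conv_lhs => rw [← B.sum_pr x, map_sum, map_sum]
    rw [Finset.sum_eq_single i (fun j _ hj => B.pr_ne hj.symm (hmem j _ (B.pr_mem j x)))
      (fun h' => absurd (Finset.mem_univ i) h'), B.pr_self (hmem i _ (B.pr_mem i x))]
  -- the planes on which the product is non-trivial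
  obtain ⟨S, hS⟩ : ∃ S : Finset (Fin t), S = Finset.univ.filter fun i => ∃ x ∈ B.D i, g x ≠ 0 := ⟨_, rfl⟩
  have hcard : S.card ≤ 2 := by
    have hy : ∀ i : S, ∃ x ∈ B.D i.1, g x ≠ 0 := fun i => by
      have := i.2; simp only [hS, Finset.mem_filter] at this; exact this.2
    choose y hy hy0 using hy
    have hli : LinearIndependent F fun i : S => g (y i) := by
      refine Fintype.linearIndependent_iff.2 fun c hc i => ?_
      have h1 := congrArg (B.pr i.1) hc
      rw [map_sum, map_zero, Finset.sum_eq_single i (fun j _ hj => by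
        rw [map_smul, B.pr_ne (fun e => hj (Subtype.ext e.symm)) (hmem _ _ (hy j)), smul_zero])
        (fun h' => absurd (Finset.mem_univ i) h'), map_smul, B.pr_self (hmem _ _ (hy i))] at h1
      exact (smul_eq_zero.mp h1).resolve_right (hy0 i)
    have hle : Submodule.span F (Set.range fun i : S => g (y i)) ≤ Submodule.span F ({u, w} : Set V) := by
      rw [Submodule.span_le]
      rintro _ ⟨i, rfl⟩
      obtain ⟨a, b, e, -, -⟩ := hcomb (y i)
      simp only [SetLike.mem_coe, e]; exact Submodule.mem_span_pair.mpr ⟨a, b, rfl⟩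
    have h1 := Submodule.finrank_mono hle
    have h2 := finrank_span_finset_le_card (R := F) ({u, w} : Finset V)
    rw [Finset.coe_insert, Finset.coe_singleton, Set.finrank] at h2
    rw [finrank_span_eq_card hli, Fintype.card_coe] at h1
    have := Finset.card_le_two (a := u) (b := w)
    omega
  obtain ⟨p, q, hpq⟩ : ∃ p q : Fin t, S ⊆ {p, q} := by
    have hf := B.five
    rcases S.eq_empty_or_nonempty with h0 | ⟨p, hp⟩
    · exact ⟨⟨0, by omega⟩, ⟨0, by omega⟩, by simp [h0]⟩
    by_cases h1 : ∀ x ∈ S, x = p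
    · exact ⟨p, p, fun x hx => by simp [h1 x hx]⟩
    push Not at h1
    obtain ⟨q, hq, hqp⟩ := h1
    refine ⟨p, q, (Finset.eq_of_subset_of_card_le ?_ ?_).ge⟩
    · simp [Finset.insert_subset_iff, hp, hq]
    · rw [Finset.card_pair (Ne.symm hqp)]; exact hcard
  refine ⟨p, q, ?_⟩
  have key : ∀ a b : F, a • u + b • w ∈ B.D p ⊔ B.D q := fun a b => by
    obtain ⟨x, hx⟩ := himg a b
    rw [← hx]
    refine B.mem_pair fun j hjp hjq => ?_
    rw [hpr]
    by_contra hne
    have := hpq (show j ∈ S from hS ▸ Finset.mem_filter.mpr ⟨Finset.mem_univ j, _, B.pr_mem j x, hne⟩)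
    simp [hjp, hjq] at this
  exact ⟨by simpa using key 1 0, by simpa using key 0 1⟩

/-- Exchanging two planes. -/
theorem Planes.exists_swap (i j : Fin t) :
    ∃ g : ↥(Iso Q), (∀ x ∈ B.D i, g.1 x ∈ B.D j) ∧ (∀ x ∈ B.D j, g.1 x ∈ B.D i) ∧
      (∀ l, l ≠ i → l ≠ j → ∀ x ∈ B.D l, g.1 x = x) ∧ B.IsSt g := by
  classical
  by_cases hij : i = j
  · subst hij; exact ⟨1, fun _ h => h, fun _ h => h, fun _ _ _ _ _ => rfl, B.isSt_one⟩
  obtain ⟨e, he⟩ := B.iso i j
  let pi : V →ₗ[F] B.D i := (B.pr i).codRestrict (B.D i) (B.pr_mem i)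
  let pj : V →ₗ[F] B.D j := (B.pr j).codRestrict (B.D j) (B.pr_mem j)
  let L : V →ₗ[F] V := LinearMap.id - B.pr i - B.pr j + (B.D j).subtype.comp (e.toLinearMap.comp pi) +
    (B.D i).subtype.comp (e.symm.toLinearMap.comp pj)
  have hL : ∀ x, L x = x - B.pr i x - B.pr j x + (e (pi x) : V) + (e.symm (pj x) : V) := fun x => rfl
  have hLi : ∀ x ∈ B.D i, L x = (e (pi x) : V) ∧ (pi x : V) = x := fun x hx => by
    have h1 : pj x = 0 := Subtype.ext (B.pr_ne (Ne.symm hij) hx)
    refine ⟨?_, B.pr_self hx⟩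
    rw [hL, h1, map_zero, Submodule.coe_zero, B.pr_self hx, B.pr_ne (Ne.symm hij) hx]; abel
  have hLj : ∀ x ∈ B.D j, L x = (e.symm (pj x) : V) ∧ (pj x : V) = x := fun x hx => by
    have h1 : pi x = 0 := Subtype.ext (B.pr_ne hij hx)
    refine ⟨?_, B.pr_self hx⟩
    rw [hL, h1, map_zero, Submodule.coe_zero, B.pr_self hx, B.pr_ne hij hx]; abel
  have hLo : ∀ l, l ≠ i → l ≠ j → ∀ x ∈ B.D l, L x = x := fun l hli hlj x hx => by
    have h1 : pi x = 0 := Subtype.ext (B.pr_ne (Ne.symm hli) hx)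
    have h2 : pj x = 0 := Subtype.ext (B.pr_ne (Ne.symm hlj) hx)
    rw [hL, h1, h2, map_zero, map_zero, Submodule.coe_zero, Submodule.coe_zero, B.pr_ne (Ne.symm hli) hx,
      B.pr_ne (Ne.symm hlj) hx]; abel
  have hmem : ∀ l, ∀ x ∈ B.D l, L x ∈ B.D (Equiv.swap i j l) ∧ Q (L x) = Q x ∧ L (L x) = x := fun l x hx => by
    by_cases hli : l = i
    · subst hli
      obtain ⟨h1, h2⟩ := hLi x hx
      rw [Equiv.swap_apply_left, h1]
      refine ⟨(e _).2, by rw [he, h2], ?_⟩
      obtain ⟨h3, h4⟩ := hLj _ (e (pi x)).2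
      rw [h3, show pj (e (pi x) : V) = e (pi x) from Subtype.ext h4, LinearEquiv.symm_apply_apply, h2]
    by_cases hlj : l = j
    · subst hlj
      obtain ⟨h1, h2⟩ := hLj x hx
      rw [Equiv.swap_apply_right, h1]
      refine ⟨(e.symm _).2, by rw [← he, LinearEquiv.apply_symm_apply, h2], ?_⟩
      obtain ⟨h3, h4⟩ := hLi _ (e.symm (pj x)).2
      rw [h3, show pi (e.symm (pj x) : V) = e.symm (pj x) from Subtype.ext h4, LinearEquiv.apply_symm_apply, h2]
    rw [Equiv.swap_apply_of_ne_of_ne hli hlj, hLo l hli hlj x hx]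
    exact ⟨hx, rfl, hLo l hli hlj x hx⟩
  have hinv : Function.Involutive L := fun x => by
    conv_lhs => rw [← B.sum_pr x, map_sum, map_sum]
    conv_rhs => rw [← B.sum_pr x]
    exact Finset.sum_congr rfl fun l _ => (hmem l _ (B.pr_mem l x)).2.2
  have hpr : ∀ x l, B.pr (Equiv.swap i j l) (L x) = L (B.pr l x) := fun x l => by
    conv_lhs => rw [← B.sum_pr x, map_sum, map_sum]
    rw [Finset.sum_eq_single l (fun m _ hm => B.pr_ne ((Equiv.swap i j).injective.ne hm.symm)
      (hmem m _ (B.pr_mem m x)).1) (fun h' => absurd (Finset.mem_univ l) h'), B.pr_self (hmem l _ (B.pr_mem l x)).1]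
  refine ⟨⟨LinearEquiv.ofInvolutive L hinv, fun x => ?_⟩, fun x hx => ?_, fun x hx => ?_, hLo, fun l => ?_⟩
  · show Q (L x) = Q x
    rw [B.val_eq (L x), B.val_eq x, ← Equiv.sum_comp (Equiv.swap i j)]
    exact Finset.sum_congr rfl fun l _ => by rw [hpr]; exact (hmem l _ (B.pr_mem l x)).2.1
  · show L x ∈ _
    rw [(hLi x hx).1]; exact (e _).2
  · show L x ∈ _
    rw [(hLj x hx).1]; exact (e.symm _).2
  · exact ⟨Equiv.swap i j l, fun x hx => (hmem l x hx).1⟩

end Cfsg.Agent.Classical.OPlanes
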