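import Cfsg.Agent.Lib.Classical.OPlanes.Second

/-!
# A reflection whose centre lies in two planes
-/

set_option autoImplicit false
set_option linter.unusedSectionVars false

namespace Cfsg.Agent.Classical.OPlanes

open Module QuadraticMap OCount ORefl OOmega
open scoped Pointwise

variable {F : Type*} [Field F] [Fintype F] {V : Type*} [AddCommGroup V] [Module F V] [Finite V]
  [FiniteDimensional F V] {Q : QuadraticForm F V} {t : ℕ}
variable (B : Planes Q t)

/-- A subgroup containing every isometry permuting the planes. -/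
structure Planes.Big (G : Subgroup ↥(Iso Q)) : Prop where
  ok : B.Ok
  st : ∀ g, B.IsSt g → g ∈ G

/-- The centres of the reflections in a subgroup. -/
def InG (G : Subgroup ↥(Iso Q)) (r : V) : Prop := Q r ≠ 0 ∧ rf Q r ∈ G

theorem InG.map {G : Subgroup ↥(Iso Q)} {g : ↥(Iso Q)} (hg : g ∈ G) {r : V} (hr : InG G r) : InG G (g.1 r) :=
  ⟨(g.2 r).trans_ne hr.1, conj_rf g r ▸ mul_mem (mul_mem hg hr.2) (inv_mem hg)⟩

theorem InG.smul {G : Subgroup ↥(Iso Q)} {r : V} (hr : InG G r) {s : F} (hs : s ≠ 0) : InG G (s • r) :=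
  ⟨by rw [QuadraticMap.map_smul, smul_eq_mul]; exact mul_ne_zero (mul_ne_zero hs hs) hr.1,
    (rf_smul hs r).symm ▸ hr.2⟩

variable {B} {G : Subgroup ↥(Iso Q)}

theorem Planes.Big.inG_axis (S : B.Big G) {a : V} (ha : B.Ax a) : InG G a := by
  obtain ⟨haa, i, hi⟩ := ha
  exact ⟨haa, S.st _ (B.isSt_rf hi)⟩

/-- The products with the axis reflections of a subgroup they normalise. -/
theorem Planes.Adm.exists_big {J : Subgroup ↥(Iso Q)} (S : B.Adm J) (hn : ∀ v, B.Ax v → NormBy J v)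
    {x : ↥(Iso Q)} (hx : x ∈ J) (hxs : ¬ B.IsSt x) :
    ∃ G : Subgroup ↥(Iso Q), B.Big G ∧ (∃ r, InG G r ∧ ∀ j, r ∉ B.D j) ∧
      (G = ⊤ → commutator ↥(Iso Q) ≤ J) := by
  classical
  obtain ⟨A, hA⟩ : ∃ A : Subgroup ↥(Iso Q), A = Subgroup.closure {g | ∃ v, B.Ax v ∧ g = rf Q v} := ⟨_, rfl⟩
  have hAn : A ≤ Subgroup.normalizer (J : Set ↥(Iso Q)) := by
    rw [hA, Subgroup.closure_le]
    rintro _ ⟨v, hv, rfl⟩
    refine Subgroup.mem_normalizer_iff.mpr fun y => ?_
    rw [rf_inv]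
    refine ⟨hn v hv y, fun hy => ?_⟩
    have h := hn v hv _ hy
    rwa [show rf Q v * (rf Q v * y * rf Q v) * rf Q v = (rf Q v * rf Q v) * y * (rf Q v * rf Q v) by group,
      rf_mul_self, one_mul, mul_one] at h
  have hAst : ∀ a ∈ A, B.IsSt a := fun a ha => by
    rw [hA] at ha
    induction ha using Subgroup.closure_induction with
    | mem y hy =>
      obtain ⟨v, ⟨-, i, hi⟩, rfl⟩ := hy
      exact B.isSt_rf hi
    | one => exact B.isSt_one
    | mul y z _ _ hy hz => exact hy.mul B hz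
    | inv y _ hy => exact hy.inv B
  have hSt : ∀ g, B.IsSt g → g ∈ J ⊔ A := fun g hg => by
    have hf := B.five
    obtain ⟨a, ha, hga⟩ := B.exists_factor S.ok.weak ⟨0, by omega⟩ g
    have haA : a ∈ A := by
      rw [hA]
      refine (Subgroup.closure_mono ?_) ha
      rintro _ ⟨v, hv, hvv, rfl⟩
      exact ⟨v, ⟨hvv, _, hv⟩, rfl⟩
    have := mul_mem (Subgroup.mem_sup_left (T := A) (S.st _ hga (hg.mul B (hAst a haA))))
      (Subgroup.mem_sup_right (S := J) (inv_mem haA))
    simpa using this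
  refine ⟨J ⊔ A, ⟨S.ok, hSt⟩, ?_, fun htop g hg => ?_⟩
  · obtain ⟨i, d, hd, hdv, hdn⟩ := B.exists_nonaxis_image S.ok hxs one_ne_zero
    exact ⟨x.1 d, InG.map (Subgroup.mem_sup_left hx) ⟨hdv.trans_ne one_ne_zero, hSt _ (B.isSt_rf hd)⟩, hdn⟩
  · have hsub : ((J ⊔ A : Subgroup ↥(Iso Q)) : Set ↥(Iso Q)) = (J : Set ↥(Iso Q)) * (A : Set ↥(Iso Q)) :=
      Subgroup.coe_mul_of_right_le_normalizer_left J A hAn
    have hgm : g ∈ ((J ⊔ A : Subgroup ↥(Iso Q)) : Set ↥(Iso Q)) := by rw [htop]; trivial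
    rw [hsub] at hgm
    obtain ⟨j, hj, a, ha, rfl⟩ := hgm
    refine mul_mem hj (S.st a ?_ (hAst a ha))
    simpa using mul_mem (inv_mem (S.le hj)) hg

/-- A reflection centre in two planes. -/
def Planes.Out (B : Planes Q t) (G : Subgroup ↥(Iso Q)) : Prop :=
  ∃ r k l, k ≠ l ∧ InG G r ∧ r ∈ B.D k ⊔ B.D l ∧ B.pr k r ≠ 0 ∧ B.pr l r ≠ 0

/-- Two anisotropic vectors in two planes make a centre. -/
theorem Planes.Big.out_of_move (S : B.Big G) {r : V} (hr : InG G r) {k l : Fin t} (hkl : k ≠ l) {w w' : V}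
    (hw : w ∈ B.D k) (hw' : w' ∈ B.D l) (hwB : polar Q r w = Q w) (hwB' : polar Q r w' = Q w')
    (hw0 : Q w ≠ 0) (hw0' : Q w' ≠ 0) (hsum : Q w + Q w' = Q r) : B.Out G := by
  have h := InG.map hr.2 (InG.map (S.inG_axis ⟨hw0, k, hw⟩).2 (InG.map (S.inG_axis ⟨hw0', l, hw'⟩).2 hr))
  have h1 : (rf Q w).1 ((rf Q w').1 r) = r - (w + w') := by
    show refl Q w (refl Q w' r) = _
    rw [refl_apply, refl_apply, polar_comm Q w' r, hwB', inv_mul_cancel₀ hw0', one_smul, polar_sub_right,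
      polar_comm Q w r, hwB, B.orth k l hkl w hw w' hw', sub_zero, inv_mul_cancel₀ hw0, one_smul]
    abel
  have h2 : (rf Q r).1 (r - (w + w')) = -(w + w') := by
    show refl Q r (r - (w + w')) = _
    rw [refl_apply, polar_sub_right, polar_self_two, polar_add_right, hwB, hwB', hsum,
      show (2 : F) * Q r - Q r = Q r by ring, inv_mul_cancel₀ hr.1, one_smul]
    abel
  rw [h1, h2] at h
  have h3 := h.smul (s := -1) (neg_ne_zero.mpr one_ne_zero)
  rw [neg_one_smul, neg_neg] at h3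
  refine ⟨w + w', k, l, hkl, h3, Submodule.add_mem_sup hw hw', ?_, ?_⟩
  · rw [map_add, B.pr_self hw, B.pr_ne hkl hw', add_zero]
    exact fun e => hw0 (by rw [e, QuadraticMap.map_zero])
  · rw [map_add, B.pr_self hw', B.pr_ne hkl.symm hw, zero_add]
    exact fun e => hw0' (by rw [e, QuadraticMap.map_zero])

/-- The sums of the squares and the elements. -/
noncomputable def artin (F : Type*) [Field F] [Fintype F] : Finset F := by
  classical exact Finset.univ.image fun y : F => y * y + y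

theorem mem_artin {x : F} : x ∈ artin F ↔ ∃ y, y * y + y = x := by
  classical simp [artin]

theorem artin_add (h2 : (2 : F) = 0) {x y : F} (hx : x ∈ artin F) (hy : y ∈ artin F) : x + y ∈ artin F := by
  rw [mem_artin] at *
  obtain ⟨a, rfl⟩ := hx
  obtain ⟨b, rfl⟩ := hy
  exact ⟨a + b, by linear_combination a * b * h2⟩

theorem artin_add_of_not (h2 : (2 : F) = 0) {x y : F} (hx : x ∉ artin F) (hy : y ∉ artin F) :
    x + y ∈ artin F := by
  classical
  obtain ⟨S, hS⟩ : ∃ S : Finset F, S = (artin F).image fun z => x + z := ⟨_, rfl⟩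
  have hcard : Fintype.card F ≤ 2 * (artin F).card := by
    rw [← Finset.card_univ]
    refine Finset.card_le_mul_card_image (f := fun y : F => y * y + y) Finset.univ 2 fun c hc => ?_
    obtain ⟨a, -, rfl⟩ := Finset.mem_image.mp hc
    refine (Finset.card_le_card (t := {a, a + 1}) fun b hb => ?_).trans Finset.card_le_two
    have h := (Finset.mem_filter.mp hb).2
    rcases mul_eq_zero.mp (by linear_combination h + (a - b) * 0 : (b - a) * (b + a + 1) = 0) with e | e
    · exact Finset.mem_insert.mpr (Or.inl (sub_eq_zero.mp e))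
    · exact Finset.mem_insert.mpr (Or.inr (Finset.mem_singleton.mpr (by linear_combination e - (a + 1) * h2)))
  have hdis : Disjoint (artin F) S := by
    rw [Finset.disjoint_left]
    intro z hz hzS
    rw [hS, Finset.mem_image] at hzS
    obtain ⟨z', hz', rfl⟩ := hzS
    refine hx ?_
    have := artin_add h2 hz hz'
    rwa [add_assoc, ← two_mul, h2, zero_mul, add_zero] at this
  have hU : artin F ∪ S = Finset.univ := by
    refine Finset.eq_univ_of_card _ (le_antisymm (Finset.card_le_univ _) ?_)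
    rw [Finset.card_union_of_disjoint hdis, hS, Finset.card_image_of_injective _ (add_right_injective x)]
    omega
  have hyU := Finset.mem_univ y
  rw [← hU, Finset.mem_union, hS, Finset.mem_image] at hyU
  obtain ⟨z, hz, rfl⟩ := hyU.resolve_left hy
  rwa [← add_assoc, ← two_mul, h2, zero_mul, zero_add]

/-- The scalars of an anisotropic plane in characteristic two. -/
theorem Planes.mem_cset_two (B : Planes Q t) (hA : B.Aniso) (h2 : (2 : F) = 0) {i : Fin t} {x : V} (hx : x ∈ B.D i)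
    (hx0 : x ≠ 0) {c : F} (hc : c ≠ 0) : c ∈ B.cset i x ↔ Q x / c ∉ artin F := by
  have hxx : Q x ≠ 0 := fun e => hx0 (hA i x hx e)
  obtain ⟨d, hd, hxd, hind⟩ := B.exists_dual hx hx0
  have hε : Q x * Q d ∉ artin F := fun h => by
    obtain ⟨y, hy⟩ := mem_artin.mp h
    have h0 : Q ((y / Q x) • x + (1 : F) • d) = 0 := by
      rw [val_comb, hxd]; field_simp; linear_combination hy + Q x * Q d * h2
    exact one_ne_zero (hind _ _ (hA i _ (add_mem ((B.D i).smul_mem _ hx) ((B.D i).smul_mem _ hd)) h0)).2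
  rw [B.mem_cset]
  constructor
  · rintro ⟨w, hw, hwv, hwB⟩ h
    obtain ⟨s, r, rfl⟩ := B.span_two hx hd hind hw
    rw [val_comb, hxd] at hwv
    rw [polar_add_right, polar_smul_right, polar_smul_right, polar_self_two, h2, hxd] at hwB
    simp only [zero_mul, mul_zero, smul_zero, zero_add, smul_eq_mul, mul_one] at hwB
    subst hwB
    refine hε ?_
    have h1 : Q x * Q d + Q x / r ∈ artin F :=
      mem_artin.mpr ⟨Q x * s / r, by field_simp; linear_combination hwv - Q d * r * r * h2⟩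
    have := artin_add h2 h1 h
    rwa [add_assoc, ← two_mul, h2, zero_mul, add_zero] at this
  · intro h
    obtain ⟨y, hy⟩ := mem_artin.mp (artin_add_of_not h2 hε h)
    refine ⟨(y * c / Q x) • x + c • d, add_mem ((B.D i).smul_mem _ hx) ((B.D i).smul_mem _ hd), ?_, ?_⟩
    · rw [val_comb, hxd]
      field_simp at hy ⊢
      linear_combination hy + Q x * Q d * c * h2
    · rw [polar_add_right, polar_smul_right, polar_smul_right, polar_self_two, h2, hxd]; simp

/-- Anisotropic planes: a centre in two planes unless all norms of the components agree. -/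
theorem Planes.Big.out_or_equal (S : B.Big G) (hA : B.Aniso) {r : V} (hr : InG G r) (hrn : ∀ j, r ∉ B.D j) :
    B.Out G ∨ (2 : F) = 0 ∧ ∃ a : F, a ≠ 0 ∧ Q r = a ∧
      (∀ k, B.pr k r ≠ 0 → Q (B.pr k r) = a) ∧ ∃ k l, k ≠ l ∧ B.pr k r ≠ 0 ∧ B.pr l r ≠ 0 := by
  classical
  obtain ⟨k, hk⟩ : ∃ k, B.pr k r ≠ 0 := by
    by_contra hcon
    push Not at hcon
    have hf := B.five
    exact hrn ⟨0, by omega⟩ (B.mem_of_supp fun j _ => hcon j)
  obtain ⟨l, hlk, hl⟩ : ∃ l, l ≠ k ∧ B.pr l r ≠ 0 := by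
    by_contra hcon
    push Not at hcon
    exact hrn k (B.mem_of_supp hcon)
  by_contra hcon
  rw [not_or] at hcon
  obtain ⟨hout, heq⟩ := hcon
  have hbad : ∀ i j, i ≠ j → ∀ c, c ≠ 0 → c ≠ Q r → c ∈ B.cset i (B.pr i r) →
      Q r - c ∈ B.cset j (B.pr j r) → False := by
    intro i j hij c hc0 hcN hci hcj
    obtain ⟨w, hw, hwv, hwB⟩ := B.mem_cset.mp hci
    obtain ⟨w', hw', hwv', hwB'⟩ := B.mem_cset.mp hcj
    rw [← B.polar_pr hw] at hwB
    rw [← B.polar_pr hw'] at hwB'
    exact hout (S.out_of_move hr hij hw hw' (hwB.trans hwv.symm) (hwB'.trans hwv'.symm) (hwv.trans_ne hc0)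
      (hwv'.trans_ne (sub_ne_zero.mpr (Ne.symm hcN))) (by rw [hwv, hwv']; ring))
  -- the sets of scalars are half of the field and complementary
  have key : ∀ i j, i ≠ j → B.pr i r ≠ 0 → B.pr j r ≠ 0 → (2 : F) = 0 ∧ Q r ∈ B.cset i (B.pr i r) ∧
      ∀ c, c ≠ 0 → c ≠ Q r → (c ∈ B.cset i (B.pr i r) ↔ Q r - c ∉ B.cset j (B.pr j r)) := by
    intro i j hij hi hj
    obtain ⟨T, hT⟩ : ∃ T : Finset F, T = (B.cset j (B.pr j r)).image fun c => Q r - c := ⟨_, rfl⟩
    have hTc : T.card = (B.cset j (B.pr j r)).card := by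
      rw [hT, Finset.card_image_of_injective _ sub_right_injective]
    have hTm : ∀ c, c ∈ T ↔ Q r - c ∈ B.cset j (B.pr j r) := fun c => by
      rw [hT, Finset.mem_image]
      exact ⟨by rintro ⟨d, hd, rfl⟩; rwa [sub_sub_cancel], fun h => ⟨_, h, sub_sub_cancel _ _⟩⟩
    have hsub : B.cset i (B.pr i r) ∩ T ⊆ {0, Q r} := fun c hc => by
      rw [Finset.mem_inter, hTm] at hc
      by_contra hne
      simp only [Finset.mem_insert, Finset.mem_singleton, not_or] at hne
      exact hbad i j hij c hne.1 hne.2 hc.1 hc.2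
    have h1 := Finset.card_union_add_card_inter (B.cset i (B.pr i r)) T
    have h3 := (Finset.card_le_card hsub).trans Finset.card_le_two
    have h4 := B.card_cset hA (B.pr_mem i r) hi
    have h5 := B.card_cset hA (B.pr_mem j r) hj
    have h6 := Finset.card_le_univ (B.cset i (B.pr i r) ∪ T)
    refine ⟨?_, ?_, fun c hc0 hcN => ⟨fun h h' => hbad i j hij c hc0 hcN h h', fun h => ?_⟩⟩
    · by_contra h2
      have hodd : Fintype.card F % 2 = 1 := FiniteField.odd_card_of_char_ne_two fun h => h2 (by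
        haveI := ringChar.of_eq h
        exact CharTwo.two_eq_zero)
      omega
    · have he := Finset.eq_of_subset_of_card_le hsub (Finset.card_le_two.trans (by omega))
      exact (Finset.mem_inter.mp (he ▸ Finset.mem_insert_of_mem (Finset.mem_singleton_self _))).1
    · have hU : B.cset i (B.pr i r) ∪ T = Finset.univ :=
        Finset.eq_univ_of_card _ (by omega)
      rcases Finset.mem_union.mp (hU ▸ Finset.mem_univ c) with h' | h'
      · exact h'
      · exact absurd ((hTm c).mp h') h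
  obtain ⟨h2, -, -⟩ := key k l hlk.symm hk hl
  by_cases hsupp : ∀ m, m ≠ k → m ≠ l → B.pr m r = 0
  · exact hout ⟨r, k, l, hlk.symm, hr, B.mem_pair hsupp, hk, hl⟩
  push Not at hsupp
  obtain ⟨m, hmk, hml, hm⟩ := hsupp
  have hthird : ∀ i j, ∃ o, o ≠ i ∧ o ≠ j ∧ B.pr o r ≠ 0 := by
    intro i j
    by_contra hcon
    push Not at hcon
    by_cases h1 : k = i ∨ k = j
    · by_cases h2' : l = i ∨ l = j
      · by_cases h3 : m = i ∨ m = j
        · grind
        · push Not at h3; exact hm (hcon m h3.1 h3.2)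
      · push Not at h2'; exact hl (hcon l h2'.1 h2'.2)
    · push Not at h1; exact hk (hcon k h1.1 h1.2)
  have hsame : ∀ i, B.pr i r ≠ 0 → Q (B.pr i r) = Q (B.pr k r) := by
    intro i hi
    by_cases hik : i = k
    · rw [hik]
    obtain ⟨o, hoi, hok, ho⟩ := hthird i k
    obtain ⟨-, hNi, hi'⟩ := key i o hoi.symm hi ho
    obtain ⟨-, hNk, hk'⟩ := key k o hok.symm hk ho
    by_contra hne
    have ha : Q (B.pr i r) ≠ 0 := fun e => hi (hA i _ (B.pr_mem i r) e)
    have ha' : Q (B.pr k r) ≠ 0 := fun e => hk (hA k _ (B.pr_mem k r) e)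
    obtain ⟨ρ, hρ⟩ : ∃ ρ, ρ = Q (B.pr k r) / Q (B.pr i r) := ⟨_, rfl⟩
    have hρ1 : ρ + 1 ≠ 0 := fun e => hne (by
      rw [hρ] at e; field_simp at e; linear_combination -e + Q (B.pr i r) * h2)
    have hzero : (0 : F) ∈ artin F := mem_artin.mpr ⟨0, by ring⟩
    have hiff : ∀ x : F, x ∈ artin F ↔ ρ * x ∈ artin F := by
      intro x
      by_cases hx : x = 0
      · rw [hx, mul_zero]
      have hc : Q (B.pr i r) / x ≠ 0 := div_ne_zero ha hx
      have h7 : Q (B.pr i r) / x ∈ B.cset i (B.pr i r) ↔ Q (B.pr i r) / x ∈ B.cset k (B.pr k r) := by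
        by_cases hN : Q (B.pr i r) / x = Q r
        · rw [hN]; exact iff_of_true hNi hNk
        · exact (hi' _ hc hN).trans (hk' _ hc hN).symm
      rw [B.mem_cset_two hA h2 (B.pr_mem i r) hi hc, B.mem_cset_two hA h2 (B.pr_mem k r) hk hc,
        show Q (B.pr i r) / (Q (B.pr i r) / x) = x by field_simp,
        show Q (B.pr k r) / (Q (B.pr i r) / x) = ρ * x by rw [hρ]; field_simp] at h7
      exact not_iff_not.mp h7
    have hall : ∀ x : F, (ρ + 1) * x ∈ artin F := fun x => by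
      rw [add_mul, one_mul]
      by_cases hx : x ∈ artin F
      · exact artin_add h2 ((hiff x).mp hx) hx
      · exact artin_add_of_not h2 (mt (hiff x).mpr hx) hx
    obtain ⟨d, hd, hxd, hind⟩ := B.exists_dual (B.pr_mem i r) hi
    obtain ⟨y, hy⟩ := mem_artin.mp (hall (Q (B.pr i r) * Q d / (ρ + 1)))
    rw [mul_div_cancel₀ _ hρ1] at hy
    have h0 : Q ((y / Q (B.pr i r)) • B.pr i r + (1 : F) • d) = 0 := by
      rw [val_comb, hxd]; field_simp; linear_combination hy + Q (B.pr i r) * Q d * h2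
    exact one_ne_zero (hind _ _ (hA i _ (add_mem ((B.D i).smul_mem _ (B.pr_mem i r)) ((B.D i).smul_mem _ hd)) h0)).2
  refine heq ⟨h2, Q (B.pr k r), fun e => hk (hA k _ (B.pr_mem k r) e), ?_, hsame, k, l, hlk.symm, hk, hl⟩
  -- an odd number of components
  have hsum : Q r = (B.supp r).card • Q (B.pr k r) := by
    rw [B.val_eq, ← Finset.sum_subset (Finset.subset_univ (B.supp r)) (fun i _ hi => by
      rw [B.mem_supp, not_not] at hi; rw [hi, QuadraticMap.map_zero]), ← Finset.sum_const]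
    exact Finset.sum_congr rfl fun i hi => hsame i (B.mem_supp.mp hi)
  rw [hsum, nsmul_eq_mul]
  rcases Nat.even_or_odd (B.supp r).card with ⟨n, hn⟩ | ⟨n, hn⟩
  · exact absurd (hsum.trans (by rw [nsmul_eq_mul, hn, Nat.cast_add]; linear_combination (n : F) * Q (B.pr k r) * h2)) hr.1
  · rw [hn]; push_cast; linear_combination (n : F) * Q (B.pr k r) * h2

/-- A centre in two planes, anisotropic planes. -/
theorem Planes.Big.out_aniso (S : B.Big G) (hA : B.Aniso) (hq : 4 ≤ Fintype.card F) {r : V} (hr : InG G r)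
    (hrn : ∀ j, r ∉ B.D j) : B.Out G := by
  classical
  rcases S.out_or_equal hA hr hrn with h | ⟨h2, a, ha, hN, hall, k, l, hkl, hk, hl⟩
  · exact h
  obtain ⟨c, hc, hcn⟩ := Finset.exists_mem_notMem_of_card_lt_card (s := ({0, Q r} : Finset F))
    (t := B.cset k (B.pr k r))
    (Finset.card_le_two.trans_lt (by have := B.card_cset hA (B.pr_mem k r) hk; omega))
  simp only [Finset.mem_insert, Finset.mem_singleton, not_or] at hcn
  obtain ⟨f, hf, hfv, hfB⟩ := B.mem_cset.mp hc
  rw [← B.polar_pr hf] at hfB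
  obtain ⟨s, hs⟩ : ∃ s, s = -((Q r)⁻¹ * c) := ⟨_, rfl⟩
  have hs0 : s ≠ 0 := hs ▸ neg_ne_zero.mpr (mul_ne_zero (inv_ne_zero hr.1) hcn.1)
  have hr' := InG.map hr.2 (S.inG_axis ⟨hfv.trans_ne hcn.1, k, hf⟩)
  have h1 : (rf Q r).1 f = f + s • r := by
    show refl Q r f = _
    rw [refl_apply, hfB, hs, neg_smul, sub_eq_add_neg]
  rw [h1] at hr'
  have hother : ∀ i, i ≠ k → B.pr i (f + s • r) = s • B.pr i r := fun i hi => by
    rw [map_add, map_smul, B.pr_ne hi hf, zero_add]
  have hself : B.pr k (f + s • r) = f + s • B.pr k r := by rw [map_add, map_smul, B.pr_self hf]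
  have hkv : Q (f + s • B.pr k r) = c := by
    rw [OCount.map_two, QuadraticMap.map_smul, polar_smul_right, polar_comm Q f, ← B.polar_pr hf, hfB, hfv,
      hall k hk, ← hN, smul_eq_mul, smul_eq_mul, hs]
    have := hr.1
    field_simp
    ring
  rcases S.out_or_equal hA hr' (fun j hj => by
    by_cases hjl : j = l
    · have h0 := B.pr_ne (show k ≠ j from hjl ▸ hkl) hj
      rw [hself] at h0
      exact hcn.1 (by rw [← hkv, h0, QuadraticMap.map_zero])
    · have h0 := B.pr_ne (Ne.symm hjl) hj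
      rw [hother l hkl.symm, smul_eq_zero] at h0
      exact h0.elim hs0 hl) with h | ⟨-, a', -, -, hall', -⟩
  · exact h
  exfalso
  have e1 := hall' k (by rw [hself]; exact fun e => hcn.1 (by rw [← hkv, e, QuadraticMap.map_zero]))
  have e2 := hall' l (by rw [hother l hkl.symm, smul_ne_zero_iff]; exact ⟨hs0, hl⟩)
  rw [hself, hkv] at e1
  rw [hother l hkl.symm, QuadraticMap.map_smul, hall l hl, ← hN, smul_eq_mul, ← e1, hs] at e2
  refine hcn.2 ?_
  have := hr.1
  field_simp at e2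
  have h3 : c * (c - Q r) = 0 := by linear_combination e2
  exact sub_eq_zero.mp ((mul_eq_zero.mp h3).resolve_left hcn.1)

/-- A centre in two planes, hyperbolic planes. -/
theorem Planes.Big.out_hyp (S : B.Big G) (hA : ¬ B.Aniso) (h7 : 7 ≤ Fintype.card F) {r : V} (hr : InG G r)
    (hrn : ∀ j, r ∉ B.D j) : B.Out G := by
  classical
  by_contra hout
  have hone : ∀ r, InG G r → ∀ k l, k ≠ l → B.pr k r ≠ 0 → B.pr l r ≠ 0 → Q (B.pr k r) = 0 →
      Q (B.pr l r) ≠ 0 := by
    intro r hr k l hkl hk hl hk0 hl0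
    obtain ⟨f, hf, hff, hef⟩ := B.exists_mate (B.pr_mem k r) hk hk0
    obtain ⟨f', hf', hff', hef'⟩ := B.exists_mate (B.pr_mem l r) hl hl0
    obtain ⟨c, hc⟩ := exists_field_avoid ({0, Q r} : Finset F) (Finset.card_le_two.trans_lt (by omega))
    simp only [Finset.mem_insert, Finset.mem_singleton, not_or] at hc
    have e1 : ∀ (i : Fin t) (f : V) (c : F), f ∈ B.D i → Q f = 0 → Q (B.pr i r) = 0 → polar Q (B.pr i r) f = 1 →
        Q (B.pr i r + c • f) = c ∧ polar Q r (B.pr i r + c • f) = c := by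
      intro i f c hf hff hi0 hef
      refine ⟨?_, ?_⟩
      · rw [OCount.map_two, QuadraticMap.map_smul, hi0, hff, polar_smul_right, hef]; simp
      · rw [B.polar_pr (add_mem (B.pr_mem i r) ((B.D i).smul_mem c hf)), polar_add_right, polar_smul_right, hef,
          polar_self_zero hi0]; simp
    obtain ⟨a1, a2⟩ := e1 k f c hf hff hk0 hef
    obtain ⟨b1, b2⟩ := e1 l f' (Q r - c) hf' hff' hl0 hef'
    exact hout (S.out_of_move hr hkl (add_mem (B.pr_mem k r) ((B.D k).smul_mem c hf))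
      (add_mem (B.pr_mem l r) ((B.D l).smul_mem _ hf')) (a2.trans a1.symm) (b2.trans b1.symm) (a1.trans_ne hc.1)
      (b1.trans_ne (sub_ne_zero.mpr (Ne.symm hc.2))) (by rw [a1, b1]; ring))
  have hthree : ∀ r, InG G r → (∀ j, r ∉ B.D j) → ∀ i j, ∃ o, o ≠ i ∧ o ≠ j ∧ B.pr o r ≠ 0 := by
    intro r hr hrn i j
    by_contra hcon
    push Not at hcon
    by_cases hij : i = j
    · exact hrn i (B.mem_of_supp fun m hm => hcon m hm (hij ▸ hm))
    refine hout ⟨r, i, j, hij, hr, B.mem_pair hcon, fun h => hrn j (B.mem_of_supp fun m hm => ?_),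
      fun h => hrn i (B.mem_of_supp fun m hm => ?_)⟩
    · by_cases hmi : m = i
      · rw [hmi, h]
      · exact hcon m hmi hm
    · by_cases hmj : m = j
      · rw [hmj, h]
      · exact hcon m hm hmj
  -- replacing an anisotropic component by a singular one
  have step : ∀ r, InG G r → (∀ j, r ∉ B.D j) → ∀ k, Q (B.pr k r) ≠ 0 → Q (B.pr k r) ≠ Q r →
      ∃ r', InG G r' ∧ (∀ j, r' ∉ B.D j) ∧
        (Finset.univ.filter fun i => Q (B.pr i r') ≠ 0) ⊂ Finset.univ.filter fun i => Q (B.pr i r) ≠ 0 := by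
    intro r hr hrn k ha haN
    obtain ⟨e, f0, he, hf0, hee, hff, hef, hsp⟩ := B.exists_hyp hA k
    obtain ⟨p, b, hpb⟩ := hsp _ (B.pr_mem k r)
    have hpbv : Q (B.pr k r) = p * b := by rw [hpb, val_comb, hee, hff, hef]; ring
    have hp0 : p ≠ 0 := fun h => ha (by rw [hpbv, h, zero_mul])
    obtain ⟨d, hd⟩ : ∃ d, d = Q r - Q (B.pr k r) := ⟨_, rfl⟩
    have hd0 : d ≠ 0 := hd ▸ sub_ne_zero.mpr (Ne.symm haN)
    obtain ⟨f, hf⟩ : ∃ f, f = (Q r * p / d) • e + (Q r / p) • f0 := ⟨_, rfl⟩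
    have hfD : f ∈ B.D k := hf ▸ add_mem ((B.D k).smul_mem _ he) ((B.D k).smul_mem _ hf0)
    have hfv : Q f = Q r * Q r / d := by rw [hf, val_comb, hee, hff, hef]; field_simp; ring
    have hfv0 : Q f ≠ 0 := hfv ▸ div_ne_zero (mul_ne_zero hr.1 hr.1) hd0
    have hfB : polar Q r f = Q r * Q r / d := by
      rw [B.polar_pr hfD, hpb, hf]
      simp only [polar_add_left, polar_add_right, polar_smul_left, polar_smul_right, hef, polar_comm Q f0 e,
        polar_self_zero hee, polar_self_zero hff, smul_eq_mul]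
      field_simp
      rw [hd, hpbv]; ring
    have hr' := InG.map hr.2 (S.inG_axis ⟨hfv0, k, hfD⟩)
    obtain ⟨r', hr'e⟩ : ∃ r', r' = f - (Q r / d) • r := ⟨_, rfl⟩
    have h1 : (rf Q r).1 f = r' := by
      rw [hr'e]
      show refl Q r f = _
      rw [refl_apply, hfB, show (Q r)⁻¹ * (Q r * Q r / d) = Q r / d by have := hr.1; field_simp]
    rw [h1] at hr'
    have hs0 : Q r / d ≠ 0 := div_ne_zero hr.1 hd0
    have hother : ∀ i, i ≠ k → B.pr i r' = (-(Q r / d)) • B.pr i r := fun i hi => by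
      rw [hr'e, map_sub, map_smul, B.pr_ne hi hfD, zero_sub, neg_smul]
    have hk' : Q (B.pr k r') = 0 := by
      have h2 : B.pr k r' = (Q r / p - Q r / d * b) • f0 := by
        rw [hr'e, map_sub, map_smul, B.pr_self hfD, hpb, hf]; module
      rw [h2, QuadraticMap.map_smul, hff, smul_zero]
    refine ⟨r', hr', fun j hj => ?_, ?_⟩
    · obtain ⟨o, hok, hoj, ho⟩ := hthree r hr hrn k j
      have h0 := B.pr_ne hoj hj
      rw [hother o hok, smul_eq_zero, neg_eq_zero] at h0
      exact h0.elim hs0 ho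
    · refine (Finset.ssubset_iff_of_subset fun i hi => ?_).mpr ⟨k, Finset.mem_filter.mpr ⟨Finset.mem_univ k, ha⟩,
        fun h => (Finset.mem_filter.mp h).2 hk'⟩
      simp only [Finset.mem_filter, Finset.mem_univ, true_and] at hi ⊢
      have hik : i ≠ k := fun e => hi (e ▸ hk')
      rw [hother i hik, QuadraticMap.map_smul, smul_eq_mul] at hi
      exact right_ne_zero_of_mul hi
  suffices H : ∀ n, ∀ r, InG G r → (∀ j, r ∉ B.D j) → (Finset.univ.filter fun i => Q (B.pr i r) ≠ 0).card = n →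
      False from H _ r hr hrn rfl
  intro n
  induction n using Nat.strong_induction_on with
  | _ n IH =>
  intro r hr hrn hn
  by_cases hex : ∃ k, Q (B.pr k r) ≠ 0 ∧ Q (B.pr k r) ≠ Q r
  · obtain ⟨k, hk, hkN⟩ := hex
    obtain ⟨r', hr', hrn', hlt⟩ := step r hr hrn k hk hkN
    exact IH _ (hn ▸ Finset.card_lt_card hlt) r' hr' hrn' rfl
  push Not at hex
  obtain ⟨k, hk⟩ : ∃ k, Q (B.pr k r) ≠ 0 := by
    by_contra hcon
    push Not at hcon
    exact hr.1 (by rw [B.val_eq]; exact Finset.sum_eq_zero fun i _ => hcon i)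
  obtain ⟨o, -, -, ho⟩ := hthree r hr hrn k k
  obtain ⟨l, hlk, hl⟩ : ∃ l, l ≠ k ∧ Q (B.pr l r) ≠ 0 := by
    by_contra hcon
    push Not at hcon
    obtain ⟨o, hok, -, ho⟩ := hthree r hr hrn k k
    obtain ⟨o', ho'k, ho'o, ho'⟩ := hthree r hr hrn k o
    exact hone r hr o o' ho'o.symm ho ho' (hcon o hok) (hcon o' ho'k)
  obtain ⟨e, f0, he, hf0, hee, hff, hef, hsp⟩ := B.exists_hyp hA k
  obtain ⟨p, b, hpb⟩ := hsp _ (B.pr_mem k r)
  have hpbv : p * b = Q r := by rw [← hex k hk, hpb, val_comb, hee, hff, hef]; ring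
  have hp0 : p ≠ 0 := fun h => hr.1 (by rw [← hpbv, h, zero_mul])
  obtain ⟨z₁, hz₁⟩ : ∃ z₁ : F, ∀ z : F, (b + p * z) * (b + p * z) = Q r * z → z = z₁ ∨ z = b * b / (p * p * z₁) := by
    by_cases h : ∃ z₁ : F, z₁ ≠ 0 ∧ (b + p * z₁) * (b + p * z₁) = Q r * z₁
    · obtain ⟨z₁, h0, h1⟩ := h
      refine ⟨z₁, fun z hz => ?_⟩
      rcases mul_eq_zero.mp (by linear_combination z₁ * hz - z * h1 :
        (z - z₁) * (p * p * z * z₁ - b * b) = 0) with h | h
      · exact Or.inl (sub_eq_zero.mp h)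
      · exact Or.inr (by field_simp; linear_combination h)
    · refine ⟨0, fun z hz => Or.inl ?_⟩
      by_contra hz0
      exact h ⟨z, hz0, hz⟩
  obtain ⟨z, hz⟩ := exists_field_avoid ({0, -(b / p), z₁, b * b / (p * p * z₁)} : Finset F)
    (Finset.card_le_four.trans_lt (by omega))
  simp only [Finset.mem_insert, Finset.mem_singleton, not_or] at hz
  obtain ⟨β, hβ⟩ : ∃ β, β = b + p * z := ⟨_, rfl⟩
  have hβ0 : β ≠ 0 := fun e => hz.2.1 (by rw [hβ] at e; field_simp; linear_combination e)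
  have hβz : β * β ≠ Q r * z := fun e => (hz₁ z (hβ ▸ e)).elim hz.2.2.1 hz.2.2.2
  obtain ⟨f, hf⟩ : ∃ f, f = (1 : F) • e + z • f0 := ⟨_, rfl⟩
  have hfD : f ∈ B.D k := hf ▸ add_mem ((B.D k).smul_mem _ he) ((B.D k).smul_mem _ hf0)
  have hfv : Q f = z := by rw [hf, val_comb, hee, hff, hef]; ring
  have hfB : polar Q r f = β := by
    rw [B.polar_pr hfD, hpb, hf, hβ]
    simp only [polar_add_left, polar_add_right, polar_smul_left, polar_smul_right, hef, polar_comm Q f0 e,
      polar_self_zero hee, polar_self_zero hff, smul_eq_mul]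
    ring
  have hfB' : polar Q (B.pr k r) f = β := by rw [← B.polar_pr hfD, hfB]
  obtain ⟨s, hs⟩ : ∃ s, s = -(Q r / β) := ⟨_, rfl⟩
  obtain ⟨r', hr'e⟩ : ∃ r', r' = r + s • f := ⟨_, rfl⟩
  have hs0 : s ≠ 0 := hs ▸ neg_ne_zero.mpr (div_ne_zero hr.1 hβ0)
  have hr' : InG G r' := by
    have h := (InG.map hr.2 (S.inG_axis ⟨hfv.trans_ne hz.1, k, hfD⟩)).smul hs0
    rwa [show s • (rf Q r).1 f = r' from by
      show s • refl Q r f = r'
      rw [refl_apply, hfB, hr'e, smul_sub, smul_smul,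
        show s * ((Q r)⁻¹ * β) = -1 by rw [hs]; have := hr.1; field_simp, neg_one_smul, sub_neg_eq_add, add_comm]] at h
  have hother : ∀ i, i ≠ k → B.pr i r' = B.pr i r := fun i hi => by
    rw [hr'e, map_add, map_smul, B.pr_ne hi hfD, smul_zero, add_zero]
  have hkv : Q (B.pr k r') = Q r' := by
    rw [hr'e, map_add, map_smul, B.pr_self hfD, OCount.map_two, OCount.map_two, hex k hk, QuadraticMap.map_smul,
      polar_smul_right, polar_smul_right, hfB, hfB']
  have hNv : Q r' * (β * β) = Q r * (Q r * z) := by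
    rw [hr'e, OCount.map_two, QuadraticMap.map_smul, polar_smul_right, hfB, hfv, smul_eq_mul, smul_eq_mul, hs]
    field_simp
    ring
  have hln : ∀ j, r' ∉ B.D j := fun j hj => by
    obtain ⟨o, hok, hoj, ho⟩ := hthree r hr hrn k j
    have h0 := B.pr_ne hoj hj
    rw [hother o hok] at h0
    exact ho h0
  obtain ⟨r'', hr'', hrn'', hlt⟩ := step r' hr' hln l (by rw [hother l hlk]; exact hl) (by
    rw [hother l hlk, hex l hl]
    intro e
    rw [← e] at hNv
    exact hβz (mul_left_cancel₀ hr.1 (by linear_combination hNv)))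
  refine IH _ (lt_of_lt_of_le (Finset.card_lt_card hlt) ?_) r'' hr'' hrn'' rfl
  rw [← hn]
  refine Finset.card_le_card fun i hi => ?_
  simp only [Finset.mem_filter, Finset.mem_univ, true_and] at hi ⊢
  by_cases hik : i = k
  · rw [hik]; exact hk
  · rwa [hother i hik] at hi

end Cfsg.Agent.Classical.OPlanes
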