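import Cfsg.Agent.Lib.Classical.OPlanes.Main
import Cfsg.Agent.Lib.Classical.OrthNotMax

/-!
# Stabilisers of decompositions into planes in matrix form
-/

set_option autoImplicit false
set_option linter.unusedSectionVars false

namespace Cfsg.Agent.Classical.OPlanes

open Module QuadraticMap OCount ORefl OOmega Matrix

/-- Some member of the derived group does not permute the planes. -/
theorem Planes.exists_nonSt {F : Type*} [Field F] [Fintype F] {V : Type*} [AddCommGroup V] [Module F V] [Finite V]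
    [FiniteDimensional F V] {Q : QuadraticForm F V} {t : ℕ} (B : Planes Q t) (hok : B.Ok) :
    ∃ g ∈ commutator ↥(Iso Q), ¬ B.IsSt g := by
  have hf := B.five
  obtain ⟨x, hx, hx1⟩ := B.exists_value hok.weak ⟨0, by omega⟩ one_ne_zero
  obtain ⟨y, hy, hy1⟩ := B.exists_value hok.weak ⟨1, by omega⟩ one_ne_zero
  obtain ⟨z, hz, hz1⟩ := B.exists_value hok.weak ⟨2, by omega⟩ (neg_ne_zero.mpr (one_ne_zero (α := F)))
  obtain ⟨c, hc, hc1⟩ := B.exists_value hok.weak ⟨3, by omega⟩ one_ne_zero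
  have hx0 : x ≠ 0 := fun e => one_ne_zero (by rw [← hx1, e, QuadraticMap.map_zero])
  have hy0 : y ≠ 0 := fun e => one_ne_zero (by rw [← hy1, e, QuadraticMap.map_zero])
  have hz0 : z ≠ 0 := fun e => neg_ne_zero.mpr (one_ne_zero (α := F)) (by rw [← hz1, e, QuadraticMap.map_zero])
  have hne : ∀ a b : ℕ, ∀ (ha : a < t) (hb : b < t), a ≠ b → (⟨a, ha⟩ : Fin t) ≠ ⟨b, hb⟩ :=
    fun a b _ _ h e => h (congrArg Fin.val e)
  have p0 : B.pr ⟨0, by omega⟩ (x + y + z) = x := by
    rw [map_add, map_add, B.pr_self hx, B.pr_ne (hne _ _ _ _ (by omega)) hy, B.pr_ne (hne _ _ _ _ (by omega)) hz,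
      add_zero, add_zero]
  have p1 : B.pr ⟨1, by omega⟩ (x + y + z) = y := by
    rw [map_add, map_add, B.pr_self hy, B.pr_ne (hne _ _ _ _ (by omega)) hx, B.pr_ne (hne _ _ _ _ (by omega)) hz,
      zero_add, add_zero]
  have p2 : B.pr ⟨2, by omega⟩ (x + y + z) = z := by
    rw [map_add, map_add, B.pr_self hz, B.pr_ne (hne _ _ _ _ (by omega)) hx, B.pr_ne (hne _ _ _ _ (by omega)) hy,
      zero_add, zero_add]
  have hQ : Q (x + y + z) = 1 := by
    rw [OCount.map_two, OCount.map_two, polar_add_left, B.orth _ _ (hne _ _ _ _ (by omega)) x hx y hy,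
      B.orth _ _ (hne _ _ _ _ (by omega)) x hx z hz, B.orth _ _ (hne _ _ _ _ (by omega)) y hy z hz, hx1, hy1, hz1]
    ring
  refine ⟨rf Q (x + y + z) * rf Q c, B.pair_mem (hc1.trans_ne one_ne_zero) (hQ.trans hc1.symm), fun hst => ?_⟩
  obtain ⟨s, s', h1, -⟩ := B.small_of_isSt (hQ.trans_ne one_ne_zero) (hc1.trans_ne one_ne_zero) (fun a b h => by
    have h2 := congrArg (B.pr ⟨0, by omega⟩) h
    rw [map_add, map_smul, map_smul, p0, B.pr_ne (hne _ _ _ _ (by omega)) hc, smul_zero, add_zero, map_zero,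
      smul_eq_zero] at h2
    have ha := h2.resolve_right hx0
    rw [ha, zero_smul, zero_add, smul_eq_zero] at h
    exact ⟨ha, h.resolve_right fun e => one_ne_zero (by rw [← hc1, e, QuadraticMap.map_zero])⟩) hst
  have key : ∀ (i : Fin t) (w : V), B.pr i (x + y + z) = w → w ≠ 0 → i = s ∨ i = s' := fun i w e hw => by
    by_contra hne'
    push Not at hne'
    exact hw (e ▸ B.pr_pair_zero h1 hne'.1 hne'.2)
  have e0 := key _ _ p0 hx0
  have e1 := key _ _ p1 hy0
  have e2 := key _ _ p2 hz0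
  simp only [Fin.ext_iff] at e0 e1 e2
  omega

variable {F : Type*} [Field F] [Fintype F] {ι : Type} [Fintype ι] [DecidableEq ι] {Q : QuadraticForm F (ι → F)}

/-- In at least five planes over the admitted fields the stabiliser is maximal. -/
theorem isMaximal (hQ : PND Q) {t : ℕ} (ht : 5 ≤ t) {D : Fin t → Submodule F (ι → F)}
    (hD : Cfsg.Geo.IsOrthogonalMDecomposition ⇑Q 2 D) (h3 : Fintype.card F ≠ 3)
    (h7 : (∀ i, Cfsg.Geo.IsPlusTypeOn ⇑Q (D i)) → 7 ≤ Fintype.card F) :
    Cfsg.Geo.IsMaximalIn (Cfsg.Geo.omegaGL ⇑Q) (Cfsg.Geo.decompositionStabilizer D ⊓ Cfsg.Geo.omegaGL ⇑Q) := by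
  classical
  obtain ⟨⟨hM, hnd, horth⟩, hiso⟩ := hD
  let B : Planes Q t :=
    { D := D, rank := hM.finrank_eq, orth := fun i j h => horth i j h, nd := fun i x hx h0 => (hnd i x hx h0).2
      top := hM.iSup_eq_top, five := ht, iso := hiso }
  have hok : B.Ok := Planes.Ok.of_card h3 fun hA => h7 fun i => by
    obtain ⟨e, f, he, -, hee, -, hef, -⟩ := B.exists_hyp hA i
    refine ⟨Submodule.span F {e}, (Submodule.span_singleton_le_iff_mem _ _).mpr he, fun x hx => ?_, ?_⟩
    · obtain ⟨c, rfl⟩ := Submodule.mem_span_singleton.mp hx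
      rw [QuadraticMap.map_smul, hee, smul_zero]
    · rw [finrank_span_singleton (fun h0 => by rw [h0, polar_zero_left] at hef; exact zero_ne_one hef), mul_one,
        hM.finrank_eq]
  obtain ⟨f, hfv⟩ : ∃ f : ↥(Iso Q) →* GL ι F, ∀ g, f g = (toMat Q g).1 :=
    ⟨(Cfsg.isometryGroup F ⇑Q).subtype.comp (toMat Q).toMonoidHom, fun _ => rfl⟩
  have hinj : Function.Injective f := fun a b h => (toMat Q).injective (Subtype.ext (by rw [← hfv, h, hfv]))
  have hΩ : Cfsg.Geo.omegaGL ⇑Q = (commutator ↥(Iso Q)).map f := by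
    rw [Cfsg.Geo.omegaGL, omega_eq_map, Subgroup.map_map]
    congr 1
    ext g
    rw [hfv]; rfl
  have hlin : ∀ (g : ↥(Iso Q)) (x : ι → F), Matrix.toLin' ((f g : Matrix ι ι F)) x = g.1 x := fun g x => by
    rw [Matrix.toLin'_apply, hfv, toMat_apply]
  have hinjl : ∀ g : ↥(Iso Q), Function.Injective (Matrix.toLin' ((f g : Matrix ι ι F))) := fun g a b h => by
    rw [hlin, hlin] at h; exact g.1.injective h
  have hstab : ∀ g : ↥(Iso Q), f g ∈ Cfsg.Geo.decompositionStabilizer D ↔ B.IsSt g := by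
    intro g
    constructor
    · rintro ⟨σ, hσ⟩ i
      exact ⟨σ i, fun x hx => by rw [← hlin g x]; exact (hσ i).le ⟨x, hx, rfl⟩⟩
    · intro h
      choose σ hσ using h
      have hσi : Function.Injective σ := by
        intro i j hij
        by_contra hne
        obtain ⟨x, hx, hx1⟩ := B.exists_value hok.weak i one_ne_zero
        obtain ⟨y, hy, hxy⟩ := B.nd i x hx (fun e => one_ne_zero (by rw [← hx1, e, QuadraticMap.map_zero]))
        have hle : (D i ⊔ D j).map (Matrix.toLin' ((f g : Matrix ι ι F))) ≤ D (σ i) := by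
          rw [Submodule.map_sup]
          refine sup_le ?_ ?_ <;> rintro _ ⟨z, hz, rfl⟩ <;> rw [hlin]
          · exact hσ i z hz
          · exact hij ▸ hσ j z hz
        have h1 := Submodule.finrank_mono hle
        rw [← LinearEquiv.finrank_eq (Submodule.equivMapOfInjective _ (hinjl g) _), hM.finrank_eq] at h1
        have h2 := Submodule.finrank_sup_add_finrank_inf_eq (D i) (D j)
        rw [hM.finrank_eq, hM.finrank_eq,
          show D i ⊓ D j = ⊥ from (Submodule.eq_bot_iff _).mpr fun z hz => B.eq_zero_of_mem hne hz.1 hz.2,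
          finrank_bot] at h2
        omega
      refine ⟨Equiv.ofBijective σ hσi.bijective_of_finite, fun i => Submodule.eq_of_le_of_finrank_eq ?_ ?_⟩
      · rintro _ ⟨z, hz, rfl⟩
        rw [hlin]; exact hσ i z hz
      · rw [← LinearEquiv.finrank_eq (Submodule.equivMapOfInjective _ (hinjl g) _), hM.finrank_eq, hM.finrank_eq]
  constructor
  · refine lt_of_le_of_ne inf_le_right fun he => ?_
    obtain ⟨g, hg, hgm⟩ := B.exists_nonSt hok
    have : f g ∈ Cfsg.Geo.omegaGL ⇑Q := by rw [hΩ]; exact Subgroup.mem_map_of_mem f hg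
    rw [← he] at this
    exact hgm ((hstab g).mp this.1)
  · intro M hM1 hM2
    have hMle : M ≤ (commutator ↥(Iso Q)).map f := hΩ ▸ hM2
    rcases B.st_or_ge hok (H := M.comap f) (fun g hg => by
        obtain ⟨g', hg', e⟩ := hMle hg
        exact hinj e ▸ hg')
      (fun g hg hm => hM1 ⟨(hstab g).mpr hm, by rw [hΩ]; exact Subgroup.mem_map_of_mem f hg⟩) with h | h
    · refine Or.inl (le_antisymm (le_inf (fun y hy => ?_) hM2) hM1)
      obtain ⟨g, hg, rfl⟩ := hMle hy
      exact (hstab g).mpr (h g hy)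
    · refine Or.inr (le_antisymm hM2 ?_)
      rw [hΩ]
      exact Subgroup.map_le_iff_le_comap.mpr h

end Cfsg.Agent.Classical.OPlanes
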