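import Cfsg.Agent.Lib.Classical.OPlanes.Pair

/-!
# Subgroups of the derived group above the stabiliser of a decomposition into planes
-/

set_option autoImplicit false
set_option linter.unusedSectionVars false

namespace Cfsg.Agent.Classical.OPlanes

open Module QuadraticMap OCount ORefl OOmega

variable {F : Type*} [Field F] [Fintype F] {V : Type*} [AddCommGroup V] [Module F V] [Finite V]
  [FiniteDimensional F V] {Q : QuadraticForm F V} {t : ℕ}
variable {B : Planes Q t} {G H : Subgroup ↥(Iso Q)}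

/-- Every centre of two planes transfers to every two planes. -/
theorem Planes.Big.pair_any (S : B.Big G) {k l : Fin t} (hkl : k ≠ l)
    (h : ∀ x ∈ B.D k, ∀ y ∈ B.D l, Q (x + y) ≠ 0 → InG G (x + y)) (i j : Fin t) (hij : i ≠ j) {x y : V}
    (hx : x ∈ B.D i) (hy : y ∈ B.D j) (hxy : Q (x + y) ≠ 0) : InG G (x + y) := by
  obtain ⟨σ, h1, h2, h3, hst⟩ := B.exists_swap i k
  obtain ⟨j', hj', hj'k⟩ : ∃ j', σ.1 y ∈ B.D j' ∧ j' ≠ k := by
    by_cases hjk : j = k
    · exact ⟨i, h2 y (hjk ▸ hy), fun e => hij (e.trans hjk.symm)⟩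
    · exact ⟨j, by rw [h3 j hij.symm hjk y hy]; exact hy, hjk⟩
  obtain ⟨τ, e1, -, e3, hst'⟩ := B.exists_swap j' l
  have hq : Q ((τ * σ).1 (x + y)) ≠ 0 := ((τ * σ).2 _).trans_ne hxy
  have hmem : InG G ((τ * σ).1 (x + y)) := by
    rw [map_add] at hq ⊢
    refine h _ ?_ _ (e1 _ hj') hq
    show τ.1 (σ.1 x) ∈ B.D k
    rw [e3 k (Ne.symm hj'k) hkl _ (h1 x hx)]
    exact h1 x hx
  have h4 := InG.map (inv_mem (S.st _ (hst'.mul B hst))) hmem
  rwa [show ((τ * σ)⁻¹).1 ((τ * σ).1 (x + y)) = x + y from (τ * σ).1.symm_apply_apply _] at h4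

theorem Planes.exists_value_polar (B : Planes Q t) (hok : B.Aniso ∨ 4 ≤ Fintype.card F) {k : Fin t} {x : V}
    (hx : x ∈ B.D k) (hx0 : x ≠ 0) {a : F} (ha : a ≠ 0) : ∃ x' ∈ B.D k, Q x' = a ∧ polar Q x x' ≠ 0 := by
  obtain ⟨u, hu, v, hv, hua, hva, hind⟩ := B.exists_pair_value hok k ha
  by_cases h : polar Q x u = 0
  swap
  · exact ⟨u, hu, hua, h⟩
  refine ⟨v, hv, hva, fun h' => ?_⟩
  obtain ⟨z, hz, hne⟩ := B.nd k x hx hx0
  obtain ⟨s, r, rfl⟩ := B.span_two hu hv hind hz
  exact hne (by rw [polar_add_right, polar_smul_right, polar_smul_right, h, h', smul_zero, smul_zero, add_zero])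

/-- Two components with non-zero sum of values merge into one. -/
theorem Planes.merge (hok : B.Aniso ∨ 4 ≤ Fintype.card F)
    (hP : ∀ i j, i ≠ j → ∀ x ∈ B.D i, ∀ y ∈ B.D j, Q (x + y) ≠ 0 → InG G (x + y)) {v : V} {k l : Fin t}
    (hkl : k ≠ l) (hk : B.pr k v ≠ 0) (hl : B.pr l v ≠ 0) (hsum : Q (B.pr k v) + Q (B.pr l v) ≠ 0) :
    ∃ v', Q v' = Q v ∧ (InG G v' → InG G v) ∧ (B.supp v').card < (B.supp v).card := by
  classical
  obtain ⟨x', hx', hx'v, hx'B⟩ : ∃ x' ∈ B.D k, Q x' = Q (B.pr k v) + Q (B.pr l v) ∧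
      polar Q (B.pr k v) x' ≠ 2 * (Q (B.pr k v) + Q (B.pr l v)) := by
    by_cases h2 : (2 : F) = 0
    · obtain ⟨x', h1, h2', h3⟩ := B.exists_value_polar hok (B.pr_mem k v) hk hsum
      exact ⟨x', h1, h2', by rwa [h2, zero_mul]⟩
    obtain ⟨x', h1, h2'⟩ := B.exists_value hok k hsum
    by_cases h : polar Q (B.pr k v) x' = 2 * (Q (B.pr k v) + Q (B.pr l v))
    · refine ⟨-x', neg_mem h1, by rw [QuadraticMap.map_neg, h2'], fun e => ?_⟩
      rw [polar_neg_right, h] at e
      exact mul_ne_zero (mul_ne_zero h2 h2) hsum (by linear_combination -e)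
    · exact ⟨x', h1, h2', h⟩
  obtain ⟨u, hu⟩ : ∃ u, u = (B.pr k v - x') + B.pr l v := ⟨_, rfl⟩
  have hxk : B.pr k v - x' ∈ B.D k := sub_mem (B.pr_mem k v) hx'
  have hQu : Q u = 2 * (Q (B.pr k v) + Q (B.pr l v)) - polar Q (B.pr k v) x' := by
    rw [hu, OCount.map_two, B.orth k l hkl _ hxk _ (B.pr_mem l v), map_sub_two, hx'v]; ring
  have hu0 : Q u ≠ 0 := by rw [hQu]; exact sub_ne_zero.mpr (Ne.symm hx'B)
  have huG : InG G u := hu ▸ hP k l hkl _ hxk _ (B.pr_mem l v) (hu ▸ hu0)
  have hpol : polar Q u v = Q u := by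
    rw [hQu, hu, polar_add_left, polar_comm Q _ v, polar_comm Q _ v, B.polar_pr hxk, B.polar_pr (B.pr_mem l v),
      polar_sub_right, polar_self_two, polar_self_two]
    ring
  have hv' : (rf Q u).1 v = v - u := by
    show refl Q u v = _
    rw [refl_apply, hpol, inv_mul_cancel₀ hu0, one_smul]
  refine ⟨v - u, hv' ▸ (rf Q u).2 v, fun h => ?_, Finset.card_lt_card
    ((Finset.ssubset_iff_of_subset fun i hi => ?_).mpr ⟨l, B.mem_supp.mpr hl, fun hi => ?_⟩)⟩
  · have h1 := InG.map huG.2 h
    rwa [show (rf Q u).1 (v - u) = v from by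
      rw [← hv']; exact congrArg (fun e : V ≃ₗ[F] V => e v) (refl_mul_self u)] at h1
  · rw [B.mem_supp] at hi ⊢
    by_cases hik : i = k
    · rw [hik]; exact hk
    by_cases hil : i = l
    · rw [hil]; exact hl
    rwa [map_sub, hu, map_add, B.pr_ne hik hxk, B.pr_ne hil (B.pr_mem l v), add_zero, sub_zero] at hi
  · rw [B.mem_supp, map_sub, hu, map_add, B.pr_ne hkl.symm hxk, B.pr_self (B.pr_mem l v), zero_add, sub_self] at hi
    exact hi rfl

/-- Every reflection lies in the subgroup, at least four scalars. -/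
theorem Planes.Big.all_four (S : B.Big G) (hq : 4 ≤ Fintype.card F) (hr : ∃ r, InG G r ∧ ∀ j, r ∉ B.D j)
    {v : V} (hv : Q v ≠ 0) : InG G v := by
  classical
  obtain ⟨k₀, l₀, hkl₀, hP₀⟩ := S.pair_all hq hr
  have hP := fun i j hij x hx y hy h => S.pair_any hkl₀ hP₀ i j hij (x := x) (y := y) hx hy h
  suffices H : ∀ n, ∀ v, (B.supp v).card = n → Q v ≠ 0 → InG G v from H _ v rfl hv
  intro n
  induction n using Nat.strong_induction_on with
  | _ n IH =>
  intro v hn hv
  obtain ⟨k, hk⟩ : ∃ k, Q (B.pr k v) ≠ 0 := by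
    by_contra hcon
    push Not at hcon
    exact hv (by rw [B.val_eq]; exact Finset.sum_eq_zero fun i _ => hcon i)
  have hk0 : B.pr k v ≠ 0 := fun e => hk (by rw [e, QuadraticMap.map_zero])
  by_cases hone : ∀ j, j ≠ k → B.pr j v = 0
  · exact S.inG_axis ⟨hv, k, B.mem_of_supp hone⟩
  push Not at hone
  obtain ⟨l, hlk, hl⟩ := hone
  by_cases htwo : ∀ j, j ≠ k → j ≠ l → B.pr j v = 0
  · have he := B.split_pair hlk.symm (B.mem_pair htwo)
    exact he ▸ hP k l hlk.symm _ (B.pr_mem k v) _ (B.pr_mem l v) (by rw [he]; exact hv)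
  push Not at htwo
  obtain ⟨o, hok, hol, ho⟩ := htwo
  by_cases hex : ∃ i j, i ≠ j ∧ B.pr i v ≠ 0 ∧ B.pr j v ≠ 0 ∧ Q (B.pr i v) + Q (B.pr j v) ≠ 0
  · obtain ⟨i, j, hij, hi, hj, hsum⟩ := hex
    obtain ⟨v', hv', himp, hlt⟩ := B.merge S.ok.weak hP hij hi hj hsum
    exact himp (IH _ (hn ▸ hlt) v' rfl (hv'.trans_ne hv))
  push Not at hex
  have h1 := hex k l hlk.symm hk0 hl
  have h3 := hex k o hok.symm hk0 ho
  have h4 := hex l o hol.symm hl ho
  have h2 : (2 : F) = 0 := (mul_eq_zero.mp (by linear_combination h1 + h3 - h4 : (2 : F) * Q (B.pr k v) = 0)).resolve_right hk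
  obtain ⟨a, ha⟩ : ∃ a, a = Q (B.pr k v) := ⟨_, rfl⟩
  have hla : Q (B.pr l v) = a := by rw [ha]; linear_combination h1 - Q (B.pr k v) * h2
  obtain ⟨m, hm⟩ := exists_field_avoid ({0, 1} : Finset F) (Finset.card_le_two.trans_lt (by omega))
  simp only [Finset.mem_insert, Finset.mem_singleton, not_or] at hm
  have hα : m * m * a ≠ 0 := mul_ne_zero (mul_ne_zero hm.1 hm.1) (ha ▸ hk)
  have hαa : m * m * a + a ≠ 0 := fun e => by
    have h5 : m * m = 1 := mul_right_cancel₀ (ha ▸ hk : a ≠ 0) (by linear_combination e - a * h2)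
    rcases mul_self_eq_one_iff.mp h5 with h6 | h6
    · exact hm.2 h6
    · exact hm.2 (by linear_combination h6 - h2)
  obtain ⟨x', hx', hx'v, hx'B⟩ := B.exists_value_polar S.ok.weak (B.pr_mem k v) hk0 hα
  obtain ⟨y', hy'⟩ : ∃ y', y' = m • B.pr l v := ⟨_, rfl⟩
  have hy'D : y' ∈ B.D l := hy' ▸ (B.D l).smul_mem _ (B.pr_mem l v)
  obtain ⟨u, hu⟩ : ∃ u, u = (B.pr k v - x') + (B.pr l v - y') := ⟨_, rfl⟩
  have hxk := sub_mem (B.pr_mem k v) hx'
  have hyl := sub_mem (B.pr_mem l v) hy'D
  have hQu : Q u = -polar Q (B.pr k v) x' := by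
    rw [hu, OCount.map_two, B.orth k l hlk.symm _ hxk _ hyl, map_sub_two, map_sub_two, hx'v, hy', QuadraticMap.map_smul,
      polar_smul_right, polar_self_two, hla, ← ha, smul_eq_mul, smul_eq_mul]
    linear_combination (a + m * m * a - m * a) * h2
  have hu0 : Q u ≠ 0 := by rw [hQu]; exact neg_ne_zero.mpr hx'B
  have huG : InG G u := hu ▸ hP k l hlk.symm _ hxk _ hyl (hu ▸ hu0)
  have hpol : polar Q u v = Q u := by
    rw [hQu, hu, polar_add_left, polar_comm Q _ v, polar_comm Q _ v, B.polar_pr hxk, B.polar_pr hyl, polar_sub_right,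
      polar_sub_right, polar_self_two, polar_self_two, hy', polar_smul_right, polar_self_two, hla, ← ha, smul_eq_mul]
    linear_combination (2 * a - m * a) * h2
  have hv' : (rf Q u).1 v = v - u := by
    show refl Q u v = _
    rw [refl_apply, hpol, inv_mul_cancel₀ hu0, one_smul]
  have hk' : B.pr k (v - u) = x' := by
    rw [map_sub, hu, map_add, B.pr_self hxk, B.pr_ne hlk.symm hyl, add_zero, sub_sub_cancel]
  have ho' : B.pr o (v - u) = B.pr o v := by
    rw [map_sub, hu, map_add, B.pr_ne hok hxk, B.pr_ne hol hyl, add_zero, sub_zero]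
  obtain ⟨v'', hv'', himp, hlt⟩ := B.merge S.ok.weak hP hok.symm
    (by rw [hk']; exact fun e => hα (by rw [← hx'v, e, QuadraticMap.map_zero]))
    (by rw [ho']; exact ho) (v := v - u) (by
      rw [hk', ho', hx'v]
      rw [ha] at hαa ⊢
      intro e
      exact hαa (by linear_combination e - h3 + Q (B.pr k v) * h2))
  have hsub : B.supp (v - u) ⊆ B.supp v := fun i hi => by
    rw [B.mem_supp] at hi ⊢
    by_cases hik : i = k
    · rw [hik]; exact hk0
    by_cases hil : i = l
    · rw [hil]; exact hl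
    rwa [map_sub, hu, map_add, B.pr_ne hik hxk, B.pr_ne hil hyl, add_zero, sub_zero] at hi
  have hne : Q (v - u) ≠ 0 := hv' ▸ ((rf Q u).2 v).trans_ne hv
  have h5 := InG.map huG.2 (himp (IH _ (hn ▸ lt_of_lt_of_le hlt (Finset.card_le_card hsub)) v'' rfl (hv''.trans_ne hne)))
  rwa [show (rf Q u).1 (v - u) = v from by
    rw [← hv']; exact congrArg (fun e : V ≃ₗ[F] V => e v) (refl_mul_self u)] at h5

section Two

/-- The isometries permuting the planes carry vectors to all others meeting as many planes. -/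
theorem Planes.Big.inG_card (S : B.Big G) (hA : B.Aniso) (h2 : Fintype.card F = 2) {v v' : V} (hv : InG G v)
    (hcard : (B.supp v).card = (B.supp v').card) : InG G v' := by
  classical
  have hF : ∀ c : F, c ≠ 0 → c = 1 := fun c hc => by
    have hu : ({0, 1} : Finset F) = Finset.univ := Finset.eq_univ_of_card _ (by rw [Finset.card_pair zero_ne_one, h2])
    have := hu ▸ Finset.mem_univ c
    simpa [hc] using this
  suffices H : ∀ n, ∀ v, InG G v → (B.supp v).card = (B.supp v').card → (B.supp v \ B.supp v').card = n → InG G v' from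
    H _ v hv hcard rfl
  clear hv hcard v
  intro n
  induction n with
  | zero =>
    intro v hv hcard h0
    have hsupp : B.supp v = B.supp v' := Finset.eq_of_subset_of_card_le
      (Finset.sdiff_eq_empty_iff_subset.mp (Finset.card_eq_zero.mp h0)) hcard.ge
    have H : ∀ s : Finset (Fin t), ∃ w, InG G w ∧ ∀ i, B.pr i w = if i ∈ s then B.pr i v' else B.pr i v := by
      intro s
      induction s using Finset.cons_induction with
      | empty => exact ⟨v, hv, fun i => by simp⟩
      | cons a s ha ih =>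
        obtain ⟨w, hw, hwi⟩ := ih
        by_cases hz : B.pr a v = 0
        · refine ⟨w, hw, fun i => ?_⟩
          rw [hwi]
          by_cases hia : i = a
          · subst hia
            rw [if_neg ha, if_pos (Finset.mem_cons_self i s), hz, eq_comm]
            by_contra hne
            exact B.mem_supp.mp (hsupp ▸ B.mem_supp.mpr hne) hz
          · simp [hia]
        have hz' : B.pr a v' ≠ 0 := B.mem_supp.mp (hsupp ▸ B.mem_supp.mpr hz)
        have hq : ∀ z ∈ B.D a, z ≠ 0 → Q z = 1 := fun z hz hz0 => hF _ fun e => hz0 (hA a z hz e)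
        have hqv := hq _ (B.pr_mem a v) hz
        obtain ⟨g, hg, hgv⟩ := B.exists_move (B.pr_mem a v) (B.pr_mem a v') (hqv.trans_ne one_ne_zero)
          ((hq _ (B.pr_mem a v') hz').trans hqv.symm)
        refine ⟨g.1 w, InG.map (S.st g (B.closure_local hg).1) hw, fun i => ?_⟩
        have hgw : g.1 w = w - B.pr a v + B.pr a v' := by
          conv_lhs => rw [show w = (w - B.pr a v) + B.pr a v by abel]
          rw [map_add, hgv]
          congr 1
          conv_lhs => rw [← B.sum_pr (w - B.pr a v), map_sum]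
          conv_rhs => rw [← B.sum_pr (w - B.pr a v)]
          refine Finset.sum_congr rfl fun j _ => ?_
          by_cases hja : j = a
          · rw [hja, map_sub, hwi, if_neg ha, B.pr_self (B.pr_mem a v), sub_self, map_zero]
          · exact (B.closure_local hg).2 j hja _ (B.pr_mem j _)
        rw [hgw, map_add, map_sub, hwi]
        by_cases hia : i = a
        · subst hia
          rw [if_neg ha, B.pr_self (B.pr_mem i v), B.pr_self (B.pr_mem i v'), sub_self, zero_add]
          simp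
        · rw [B.pr_ne hia (B.pr_mem a v), B.pr_ne hia (B.pr_mem a v'), sub_zero, add_zero]
          simp [hia]
    obtain ⟨w, hw, hwi⟩ := H Finset.univ
    rwa [B.ext_pr (x := w) (y := v') fun i => by rw [hwi]; simp] at hw
  | succ n ih =>
    intro v hv hcard hn
    obtain ⟨i, hi⟩ : (B.supp v \ B.supp v').Nonempty := Finset.card_pos.mp (by omega)
    obtain ⟨j, hj⟩ : (B.supp v' \ B.supp v).Nonempty := Finset.card_pos.mp (by
      have := Finset.card_sdiff_add_card_inter (B.supp v) (B.supp v')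
      have := Finset.card_sdiff_add_card_inter (B.supp v') (B.supp v)
      rw [Finset.inter_comm (B.supp v') (B.supp v)] at this
      omega)
    rw [Finset.mem_sdiff] at hi hj
    have hij : i ≠ j := fun e => hj.2 (e ▸ hi.1)
    obtain ⟨σ, h1, h2', h3, hst⟩ := B.exists_swap i j
    have hpr : ∀ l, B.pr (Equiv.swap i j l) (σ.1 v) = σ.1 (B.pr l v) := by
      have hm : ∀ m, ∀ x ∈ B.D m, σ.1 x ∈ B.D (Equiv.swap i j m) := fun m x hx => by
        by_cases hmi : m = i
        · subst hmi; rw [Equiv.swap_apply_left]; exact h1 x hx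
        by_cases hmj : m = j
        · subst hmj; rw [Equiv.swap_apply_right]; exact h2' x hx
        rw [Equiv.swap_apply_of_ne_of_ne hmi hmj, h3 m hmi hmj x hx]; exact hx
      intro l
      conv_lhs => rw [← B.sum_pr v, map_sum, map_sum]
      rw [Finset.sum_eq_single l (fun m _ hm' => B.pr_ne ((Equiv.swap i j).injective.ne hm'.symm) (hm m _ (B.pr_mem m v)))
        (fun h => absurd (Finset.mem_univ l) h), B.pr_self (hm l _ (B.pr_mem l v))]
    have hs : B.supp (σ.1 v) = insert j ((B.supp v).erase i) := by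
      ext m
      rw [B.mem_supp, ← Equiv.swap_apply_self i j m, hpr, LinearEquiv.map_ne_zero_iff, Equiv.swap_apply_self,
        ← B.mem_supp, Finset.mem_insert, Finset.mem_erase]
      by_cases hmi : m = i
      · subst hmi; rw [Equiv.swap_apply_left]; simp [hij, hj.2]
      by_cases hmj : m = j
      · subst hmj; rw [Equiv.swap_apply_right]; simp [hi.1]
      rw [Equiv.swap_apply_of_ne_of_ne hmi hmj]; simp [hmi, hmj]
    refine ih _ (InG.map (S.st σ hst) hv) ?_ ?_
    · rw [hs, Finset.card_insert_of_notMem (fun h => hj.2 (Finset.mem_of_mem_erase h)),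
        Finset.card_erase_of_mem hi.1]
      have := Finset.card_pos.mpr ⟨i, hi.1⟩
      omega
    · rw [hs, Finset.insert_sdiff_of_mem _ hj.1, Finset.erase_sdiff_comm,
        Finset.card_erase_of_mem (Finset.mem_sdiff.mpr hi)]
      omega

/-- Every reflection lies in the subgroup, two scalars. -/
theorem Planes.Big.all_two (S : B.Big G) (hA : B.Aniso) (h2 : Fintype.card F = 2)
    (hr : ∃ r, InG G r ∧ ∀ j, r ∉ B.D j) {v : V} (hv : Q v ≠ 0) : InG G v := by
  classical
  have hF : ∀ c : F, c ≠ 0 → c = 1 := fun c hc => by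
    have hu : ({0, 1} : Finset F) = Finset.univ := Finset.eq_univ_of_card _ (by rw [Finset.card_pair zero_ne_one, h2])
    have := hu ▸ Finset.mem_univ c
    simpa [hc] using this
  have h20 : (2 : F) = 0 := by
    have := FiniteField.cast_card_eq_zero F
    rw [h2] at this
    exact_mod_cast this
  have hone : ∀ i, ∀ z ∈ B.D i, z ≠ 0 → Q z = 1 := fun i z hz hz0 => hF _ fun e => hz0 (hA i z hz e)
  have hval : ∀ w, Q w = ((B.supp w).card : F) := fun w => by
    rw [B.val_eq, ← Finset.sum_subset (Finset.subset_univ (B.supp w)) (fun i _ hi => by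
      rw [B.mem_supp, not_not] at hi; rw [hi, QuadraticMap.map_zero]),
      Finset.sum_congr rfl fun i hi => hone i _ (B.pr_mem i w) (B.mem_supp.mp hi)]
    simp
  have hodd : ∀ w, Q w ≠ 0 → Odd (B.supp w).card := fun w hw => by
    rcases Nat.even_or_odd (B.supp w).card with ⟨n, hn⟩ | h
    · exact absurd (by rw [hval, hn, Nat.cast_add]; linear_combination (n : F) * h20) hw
    · exact h
  have hother : ∀ i, ∀ z ∈ B.D i, z ≠ 0 → ∃ z' ∈ B.D i, z' ≠ 0 ∧ polar Q z z' = 1 := fun i z hz hz0 => by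
    obtain ⟨z', hz', hz'v, hB⟩ := B.exists_value_polar (Or.inl hA) hz hz0 one_ne_zero
    exact ⟨z', hz', fun e => one_ne_zero (by rw [← hz'v, e, QuadraticMap.map_zero]), hF _ hB⟩
  obtain ⟨r, hr, hrn⟩ := hr
  have hr3 : 3 ≤ (B.supp r).card := by
    obtain ⟨m, hm⟩ := hodd r hr.1
    rcases Nat.eq_zero_or_pos m with rfl | h
    · obtain ⟨k, hk⟩ := Finset.card_eq_one.mp hm
      exfalso
      refine hrn k (B.mem_of_supp fun j hj => ?_)
      by_contra hne
      exact hj (Finset.mem_singleton.mp (hk ▸ B.mem_supp.mpr hne))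
    · omega
  -- three planes
  obtain ⟨u, hu, hu3⟩ : ∃ u, InG G u ∧ (B.supp u).card = 3 := by
    obtain ⟨a, b, c, ha, hb, hc, hab, hac, hbc⟩ := Finset.two_lt_card_iff.mp (show 2 < (B.supp r).card by omega)
    rw [B.mem_supp] at ha hb hc
    obtain ⟨a', haD, ha0, haB⟩ := hother a _ (B.pr_mem a r) ha
    obtain ⟨b', hbD, hb0, hbB⟩ := hother b _ (B.pr_mem b r) hb
    obtain ⟨c', hcD, hc0, hcB⟩ := hother c _ (B.pr_mem c r) hc
    obtain ⟨d, hd⟩ : ∃ d, d = (a' - B.pr a r) + ((b' - B.pr b r) + (c' - B.pr c r)) := ⟨_, rfl⟩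
    have hda := sub_mem haD (B.pr_mem a r)
    have hdb := sub_mem hbD (B.pr_mem b r)
    have hdc := sub_mem hcD (B.pr_mem c r)
    have hB : polar Q r (r + d) = 1 := by
      rw [polar_add_right, hd, polar_add_right, polar_add_right, polar_self_two, B.polar_pr hda, B.polar_pr hdb,
        B.polar_pr hdc, polar_sub_right, polar_sub_right, polar_sub_right, polar_self_two, polar_self_two,
        polar_self_two, haB, hbB, hcB]
      linear_combination (1 + Q r - Q (B.pr a r) - Q (B.pr b r) - Q (B.pr c r)) * h20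
    have hsupp : B.supp (r + d) = B.supp r := by
      ext i
      rw [B.mem_supp, B.mem_supp, map_add, hd, map_add, map_add]
      by_cases hia : i = a
      · subst hia
        rw [B.pr_self hda, B.pr_ne hab hdb, B.pr_ne hac hdc, add_zero, add_zero, add_sub_cancel]
        exact iff_of_true ha0 ha
      by_cases hib : i = b
      · subst hib
        rw [B.pr_ne hia hda, B.pr_self hdb, B.pr_ne hbc hdc, zero_add, add_zero, add_sub_cancel]
        exact iff_of_true hb0 hb
      by_cases hic : i = c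
      · subst hic
        rw [B.pr_ne hia hda, B.pr_ne hib hdb, B.pr_self hdc, zero_add, zero_add, add_sub_cancel]
        exact iff_of_true hc0 hc
      rw [B.pr_ne hia hda, B.pr_ne hib hdb, B.pr_ne hic hdc, add_zero, add_zero, add_zero]
    have h1 := InG.map hr.2 (S.inG_card hA h2 hr (v' := r + d) (by rw [hsupp]))
    have h2' : (rf Q r).1 (r + d) = d := by
      show refl Q r (r + d) = d
      rw [refl_apply, hB, hF _ hr.1, inv_one, mul_one, one_smul, add_sub_cancel_left]
    rw [h2'] at h1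
    refine ⟨d, h1, Finset.card_eq_three.mpr ⟨a, b, c, hab, hac, hbc, ?_⟩⟩
    have hne : ∀ z z' : V, polar Q z z' = 1 → z' - z ≠ 0 := fun z z' h e => by
      rw [sub_eq_zero.mp e, polar_self_two, h20, zero_mul] at h
      exact zero_ne_one h
    ext i
    rw [B.mem_supp, hd, map_add, map_add, Finset.mem_insert, Finset.mem_insert, Finset.mem_singleton]
    by_cases hia : i = a
    · subst hia
      rw [B.pr_self hda, B.pr_ne hab hdb, B.pr_ne hac hdc, add_zero, add_zero]
      exact iff_of_true (hne _ _ haB) (Or.inl rfl)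
    by_cases hib : i = b
    · subst hib
      rw [B.pr_ne hia hda, B.pr_self hdb, B.pr_ne hbc hdc, zero_add, add_zero]
      exact iff_of_true (hne _ _ hbB) (Or.inr (Or.inl rfl))
    by_cases hic : i = c
    · subst hic
      rw [B.pr_ne hia hda, B.pr_ne hib hdb, B.pr_self hdc, zero_add, zero_add]
      exact iff_of_true (hne _ _ hcB) (Or.inr (Or.inr rfl))
    rw [B.pr_ne hia hda, B.pr_ne hib hdb, B.pr_ne hic hdc, add_zero, add_zero]
    simp [hia, hib, hic]
  -- two more planes at a time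
  suffices H : ∀ n, ∀ v, (B.supp v).card = n → Q v ≠ 0 → InG G v from H _ v rfl hv
  intro n
  induction n using Nat.strong_induction_on with
  | _ n IH =>
  intro v hn hv
  obtain ⟨m, hm⟩ := hodd v hv
  rcases Nat.eq_zero_or_pos m with rfl | hmp
  · obtain ⟨k, hk⟩ := Finset.card_eq_one.mp hm
    refine S.inG_axis ⟨hv, k, B.mem_of_supp fun j hj => ?_⟩
    by_contra hne
    exact hj (Finset.mem_singleton.mp (hk ▸ B.mem_supp.mpr hne))
  obtain ⟨b, c, hb, hc, hbc⟩ := Finset.one_lt_card_iff.mp (show 1 < (B.supp v).card by omega)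
  obtain ⟨a, ha, hab, hac⟩ : ∃ a ∈ B.supp v, a ≠ b ∧ a ≠ c := by
    obtain ⟨a, ha, hna⟩ := Finset.exists_mem_notMem_of_card_lt_card (s := ({b, c} : Finset _)) (t := B.supp v)
      (Finset.card_le_two.trans_lt (by omega))
    exact ⟨a, ha, by simpa using hna⟩
  rw [B.mem_supp] at ha hb hc
  obtain ⟨a', haD, ha0, haB⟩ := hother a _ (B.pr_mem a v) ha
  obtain ⟨z, hz⟩ : ∃ z, z = a' + (B.pr b v + B.pr c v) := ⟨_, rfl⟩
  have hzi : ∀ i, B.pr i z = if i = a then a' else if i = b ∨ i = c then B.pr i v else 0 := fun i => by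
    rw [hz, map_add, map_add]
    by_cases hia : i = a
    · subst hia
      rw [if_pos rfl, B.pr_self haD, B.pr_ne hab (B.pr_mem b v), B.pr_ne hac (B.pr_mem c v), add_zero, add_zero]
    rw [if_neg hia, B.pr_ne hia haD, zero_add]
    by_cases hib : i = b
    · subst hib
      rw [if_pos (Or.inl rfl), B.pr_self (B.pr_mem i v), B.pr_ne hbc (B.pr_mem c v), add_zero]
    by_cases hic : i = c
    · subst hic
      rw [if_pos (Or.inr rfl), B.pr_self (B.pr_mem i v), B.pr_ne hib (B.pr_mem b v), zero_add]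
    rw [if_neg (by simp [hib, hic]), B.pr_ne hib (B.pr_mem b v), B.pr_ne hic (B.pr_mem c v), add_zero]
  have hzs : B.supp z = {a, b, c} := by
    ext i
    rw [B.mem_supp, hzi, Finset.mem_insert, Finset.mem_insert, Finset.mem_singleton]
    split_ifs with h1 h2'
    · exact iff_of_true ha0 (Or.inl h1)
    · refine iff_of_true ?_ (Or.inr h2')
      rcases h2' with rfl | rfl
      · exact hb
      · exact hc
    · simp [h1, h2']
  have hzG : InG G z := S.inG_card hA h2 hu (by
    rw [hu3, hzs, Finset.card_eq_three.mpr ⟨a, b, c, hab, hac, hbc, rfl⟩])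
  have hzB : polar Q z v = 1 := by
    rw [hz, polar_add_left, polar_add_left, polar_comm Q a' v, polar_comm Q (B.pr b v) v, polar_comm Q (B.pr c v) v,
      B.polar_pr haD, B.polar_pr (B.pr_mem b v), B.polar_pr (B.pr_mem c v), polar_self_two, polar_self_two, h20, haB]
    ring
  obtain ⟨w, hw⟩ : ∃ w, w = (rf Q z).1 v := ⟨_, rfl⟩
  have hwv : w = v - z := by
    rw [hw]
    show refl Q z v = _
    rw [refl_apply, hzB, hF _ hzG.1, inv_one, mul_one, one_smul]
  have hws : B.supp w ⊆ ((B.supp v).erase b).erase c := fun i hi => by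
    rw [B.mem_supp, hwv, map_sub, hzi] at hi
    rw [Finset.mem_erase, Finset.mem_erase, B.mem_supp]
    split_ifs at hi with h1 h2'
    · subst h1; exact ⟨hac, hab, ha⟩
    · exact absurd (sub_self _) hi
    · rw [sub_zero] at hi
      push Not at h2'
      exact ⟨h2'.2, h2'.1, hi⟩
  have hlt : (B.supp w).card < n := lt_of_le_of_lt (Finset.card_le_card (hws.trans (Finset.erase_subset _ _)))
    (hn ▸ Finset.card_erase_lt_of_mem (B.mem_supp.mpr hb))
  have h5 := InG.map hzG.2 (IH _ hlt w rfl (hw ▸ ((rf Q z).2 v).trans_ne hv))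
  rwa [show (rf Q z).1 w = v from by
    rw [hw]; exact congrArg (fun e : V ≃ₗ[F] V => e v) (refl_mul_self z)] at h5

end Two

variable (B)

/-- A subgroup of the derived group containing the stabiliser of the planes there. -/
theorem Planes.st_or_ge (hok : B.Ok) (hH : H ≤ commutator ↥(Iso Q))
    (hst : ∀ g ∈ commutator ↥(Iso Q), B.IsSt g → g ∈ H) :
    (∀ g ∈ H, B.IsSt g) ∨ commutator ↥(Iso Q) ≤ H := by
  refine or_iff_not_imp_left.mpr fun h => ?_
  push Not at h
  obtain ⟨g, hg, hns⟩ := h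
  have S : B.Adm H := ⟨hok, hH, hst⟩
  obtain ⟨J, hJ, SJ, ⟨x, hx, hxs⟩, hn⟩ := S.exists_normalised (S.seed hg hns)
  obtain ⟨G, SG, hr, htop⟩ := SJ.exists_big hn hx hxs
  refine (htop ?_).trans hJ
  have hall : ∀ v, Q v ≠ 0 → InG G v := by
    intro v hv
    have h1 := Fintype.one_lt_card (α := F)
    by_cases hq : 4 ≤ Fintype.card F
    · exact SG.all_four hq hr hv
    · rcases hok with ⟨hA, h3⟩ | ⟨-, h7⟩
      · exact SG.all_two hA (by omega) hr hv
      · omega
  refine eq_top_iff.mpr fun y _ => ?_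
  exact induction_on (motive := fun y => y ∈ G) B.pnd (Or.inr (by rw [B.finrank_eq]; have := B.five; omega)) y
    (one_mem _) fun v y hv hy => mul_mem (hall v hv).2 hy

/-- The admissible fields, by cases on the type of the planes. -/
theorem Planes.Ok.of_card {B : Planes Q t} (h3 : Fintype.card F ≠ 3) (h : ¬ B.Aniso → 7 ≤ Fintype.card F) : B.Ok := by
  by_cases hA : B.Aniso
  · exact Or.inl ⟨hA, h3⟩
  · exact Or.inr ⟨hA, h hA⟩

end Cfsg.Agent.Classical.OPlanes
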