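import Cfsg.Agent.Lib.Classical.OPlanes.Descend

/-!
# All reflections with centre in two planes
-/

set_option autoImplicit false
set_option linter.unusedSectionVars false

namespace Cfsg.Agent.Classical.OPlanes

open Module QuadraticMap OCount ORefl OOmega

variable {F : Type*} [Field F] [Fintype F] {V : Type*} [AddCommGroup V] [Module F V] [Finite V]
  [FiniteDimensional F V] {Q : QuadraticForm F V} {t : ℕ}
variable {B : Planes Q t} {G : Subgroup ↥(Iso Q)}

/-- The value of a sum from two planes. -/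
theorem Planes.val_pair (B : Planes Q t) {k l : Fin t} (h : k ≠ l) {x y : V} (hx : x ∈ B.D k) (hy : y ∈ B.D l) :
    Q (x + y) = Q x + Q y := by
  rw [OCount.map_two, B.orth k l h x hx y hy, add_zero]

theorem Planes.pr_add_left (B : Planes Q t) {k l : Fin t} (h : k ≠ l) {x y : V} (hx : x ∈ B.D k) (hy : y ∈ B.D l) :
    B.pr k (x + y) = x ∧ B.pr l (x + y) = y :=
  ⟨by rw [map_add, B.pr_self hx, B.pr_ne h hy, add_zero],
    by rw [map_add, B.pr_self hy, B.pr_ne h.symm hx, zero_add]⟩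

theorem Planes.split_pair (B : Planes Q t) {k l : Fin t} (h : k ≠ l) {r : V} (hr : r ∈ B.D k ⊔ B.D l) :
    B.pr k r + B.pr l r = r := by
  obtain ⟨x, hx, y, hy, rfl⟩ := Submodule.mem_sup.mp hr
  rw [(B.pr_add_left h hx hy).1, (B.pr_add_left h hx hy).2]

/-- The centres do not change under the isometries of one plane. -/
theorem Planes.Big.move (S : B.Big G) {k l : Fin t} (h : k ≠ l) {x x' y : V} (hx : x ∈ B.D k) (hx' : x' ∈ B.D k)
    (hxx : Q x ≠ 0) (hv : Q x' = Q x) (hy : y ∈ B.D l) (hr : InG G (x + y)) : InG G (x' + y) := by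
  obtain ⟨g, hg, hgx⟩ := B.exists_move hx hx' hxx hv
  have h1 := InG.map (S.st g (B.closure_local hg).1) hr
  rwa [map_add, hgx, (B.closure_local hg).2 l h.symm y hy] at h1

/-- Both components may be replaced by vectors of the same anisotropic values. -/
theorem Planes.Big.move_two (S : B.Big G) {k l : Fin t} (h : k ≠ l) {x x' y y' : V} (hx : x ∈ B.D k) (hx' : x' ∈ B.D k)
    (hxx : Q x ≠ 0) (hv : Q x' = Q x) (hy : y ∈ B.D l) (hy' : y' ∈ B.D l) (hyy : Q y ≠ 0) (hv' : Q y' = Q y)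
    (hr : InG G (x + y)) : InG G (x' + y') := by
  have h1 := S.move h hx hx' hxx hv hy hr
  rw [add_comm] at h1 ⊢
  exact S.move h.symm hy hy' hyy hv' hx' h1

/-- A vector of two planes is carried to the exchanged planes. -/
theorem Planes.Big.exists_swapped (S : B.Big G) {k l : Fin t} (h : k ≠ l) {x y : V} (hx : x ∈ B.D k) (hy : y ∈ B.D l)
    (hr : InG G (x + y)) :
    ∃ x' ∈ B.D k, ∃ y' ∈ B.D l, Q x' = Q y ∧ Q y' = Q x ∧ (x' = 0 ↔ y = 0) ∧ (y' = 0 ↔ x = 0) ∧
      InG G (x' + y') := by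
  obtain ⟨σ, h1, h2, -, hst⟩ := B.exists_swap k l
  refine ⟨σ.1 y, h2 y hy, σ.1 x, h1 x hx, σ.2 y, σ.2 x, by simp, by simp, ?_⟩
  have h3 := InG.map (S.st σ hst) hr
  rwa [map_add, add_comm] at h3

section Hyp

/-- A centre with singular first component. -/
def Planes.Sing (B : Planes Q t) (G : Subgroup ↥(Iso Q)) (k l : Fin t) (b : F) : Prop :=
  ∃ x ∈ B.D k, ∃ y ∈ B.D l, x ≠ 0 ∧ Q x = 0 ∧ Q y = b ∧ b ≠ 0 ∧ InG G (x + y)

theorem Planes.Sing.scale {k l : Fin t} {b : F} (h : B.Sing G k l b) {s : F} (hs : s ≠ 0) :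
    B.Sing G k l (s * s * b) := by
  obtain ⟨x, hx, y, hy, hx0, hxx, hyb, hb, hr⟩ := h
  refine ⟨s • x, (B.D k).smul_mem s hx, s • y, (B.D l).smul_mem s hy, smul_ne_zero hs hx0, ?_, ?_,
    mul_ne_zero (mul_ne_zero hs hs) hb, by rw [← smul_add]; exact hr.smul hs⟩
  · rw [QuadraticMap.map_smul, hxx, smul_zero]
  · rw [QuadraticMap.map_smul, hyb, smul_eq_mul]

/-- Singular vectors of a plane are carried to each other inside the stabiliser. -/
theorem Planes.exists_move_sing (B : Planes Q t) (hA : ¬ B.Aniso) {k : Fin t} {z z' : V} (hz : z ∈ B.D k)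
    (hz' : z' ∈ B.D k) (hz0 : z ≠ 0) (hz0' : z' ≠ 0) (hzz : Q z = 0) (hzz' : Q z' = 0) :
    ∃ g ∈ Subgroup.closure {g | ∃ v ∈ B.D k, Q v ≠ 0 ∧ g = rf Q v}, (g : ↥(Iso Q)).1 z = z' := by
  obtain ⟨f, hf, hff, hef⟩ := B.exists_mate hz hz0 hzz
  have hind : ∀ s r : F, s • z + r • f = 0 → s = 0 ∧ r = 0 := fun s r h => by
    have h1 := congrArg (fun v => polar Q v f) h
    have h2 := congrArg (fun v => polar Q v z) h
    simp only [polar_add_left, polar_smul_left, hef, polar_self_zero hff, polar_self_zero hzz, polar_comm Q f z,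
      polar_zero_left, smul_eq_mul, mul_zero, mul_one, add_zero, zero_add] at h1 h2
    exact ⟨h1, h2⟩
  obtain ⟨s, r, rfl⟩ := B.span_two hz hf hind hz'
  rw [val_comb, hzz, hff, hef] at hzz'
  rcases mul_eq_zero.mp (by linear_combination hzz' : s * r = 0) with hs | hr
  · subst hs
    have hr0 : r ≠ 0 := fun e => hz0' (by rw [e]; simp)
    obtain ⟨v, hv, hvv, h1, -⟩ := B.move_singular hz hf hzz hff hef hr0
    exact ⟨rf Q v, Subgroup.subset_closure ⟨v, hv, hvv, rfl⟩, by rw [h1]; simp⟩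
  · subst hr
    have hs0 : s ≠ 0 := fun e => hz0' (by rw [e]; simp)
    obtain ⟨v, hv, hvv, h1, -⟩ := B.move_singular hz hf hzz hff hef one_ne_zero
    obtain ⟨v', hv', hvv', h3, -⟩ := B.move_singular hf hz hff hzz (polar_comm Q f z ▸ hef) hs0
    refine ⟨rf Q v' * rf Q v,
      mul_mem (Subgroup.subset_closure ⟨v', hv', hvv', rfl⟩) (Subgroup.subset_closure ⟨v, hv, hvv, rfl⟩), ?_⟩
    show (rf Q v').1 ((rf Q v).1 z) = _
    rw [h1, one_smul, h3]; simp

/-- From a singular component all vectors with the other component in the same class. -/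
theorem Planes.Big.of_sing (S : B.Big G) (hA : ¬ B.Aniso) {k l : Fin t} (hkl : k ≠ l) {b : F} (h : B.Sing G k l b)
    {x y : V} (hx : x ∈ B.D k) (hy : y ∈ B.D l) (hyb : Q y = b) (hxy : Q x + b ≠ 0) : InG G (x + y) := by
  obtain ⟨e, he, y₀, hy₀, he0, hee, hy₀b, hb, hr⟩ := h
  by_cases hx0 : x = 0
  · rw [hx0, zero_add]; exact S.inG_axis ⟨hyb.trans_ne hb, l, hy⟩
  obtain ⟨f0, hf0, hff, hef⟩ := B.exists_mate he he0 hee
  obtain ⟨f, hf⟩ : ∃ f, f = ((Q x + b) / b) • e + b • f0 := ⟨_, rfl⟩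
  have hfD : f ∈ B.D k := hf ▸ add_mem ((B.D k).smul_mem _ he) ((B.D k).smul_mem _ hf0)
  have hfv : Q f = Q x + b := by rw [hf, val_comb, hee, hff, hef]; field_simp; ring
  have hfe : polar Q e f = b := by
    rw [hf, polar_add_right, polar_smul_right, polar_smul_right, polar_self_zero hee, hef]; simp
  have hQr : Q (e + y₀) = b := by rw [B.val_pair hkl he hy₀, hee, hy₀b, zero_add]
  have h1 := InG.map hr.2 (S.inG_axis ⟨hfv.trans_ne hxy, k, hfD⟩)
  have h2 : (rf Q (e + y₀)).1 f = (f - e) + -y₀ := by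
    show refl Q (e + y₀) f = _
    rw [refl_apply, hQr, polar_add_left, hfe, polar_comm Q y₀ f, B.orth k l hkl f hfD y₀ hy₀, add_zero,
      inv_mul_cancel₀ hb, one_smul]
    abel
  rw [h2] at h1
  have hfe' : Q (f - e) = Q x := by rw [map_sub_two, hfv, hee, polar_comm Q f e, hfe]; ring
  have hD : f - e ∈ B.D k := sub_mem hfD he
  have hny : Q (-y₀) = b := by rw [QuadraticMap.map_neg, hy₀b]
  have h3 : InG G (x + -y₀) := by
    by_cases hxx : Q x = 0
    · have hne : f - e ≠ 0 := fun h => hb (by rw [← hfe, sub_eq_zero.mp h, polar_self_zero hee])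
      obtain ⟨g, hg, hge⟩ := B.exists_move_sing hA hD hx hne hx0 (hfe'.trans hxx) hxx
      have h4 := InG.map (S.st g (B.closure_local hg).1) h1
      rwa [map_add, hge, (B.closure_local hg).2 l hkl.symm _ (neg_mem hy₀)] at h4
    · exact S.move hkl hD hx (hfe'.trans_ne hxx) hfe'.symm (neg_mem hy₀) h1
  rw [add_comm] at h3 ⊢
  exact S.move hkl.symm (neg_mem hy₀) hy (hny.trans_ne hb) (hyb.trans hny.symm) hx h3

/-- An anisotropic component becomes singular. -/
theorem Planes.Big.sing_of_ne (S : B.Big G) (hA : ¬ B.Aniso) {k l : Fin t} (hkl : k ≠ l) {x y : V} (hx : x ∈ B.D k)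
    (hy : y ∈ B.D l) (hxx : Q x ≠ 0) (hyy : Q y ≠ 0) (hne : Q x ≠ Q y) (hr : InG G (x + y)) :
    ∃ s : F, s ≠ 0 ∧ B.Sing G k l (s * s * Q y) := by
  obtain ⟨e, f0, he, hf0, hee, hff, hef, hsp⟩ := B.exists_hyp hA k
  obtain ⟨p, q, rfl⟩ := hsp x hx
  obtain ⟨N, hN⟩ : ∃ N, N = Q (p • e + q • f0 + y) := ⟨_, rfl⟩
  have hN0 : N ≠ 0 := hN ▸ hr.1
  have hxv : Q (p • e + q • f0) = p * q := by rw [val_comb, hee, hff, hef]; ring
  rw [hxv] at hxx hne
  have hNv : N = p * q + Q y := by rw [hN, B.val_pair hkl hx hy, hxv]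
  have hp : p ≠ 0 := left_ne_zero_of_mul hxx
  obtain ⟨f, hf⟩ : ∃ f, f = (N * p / Q y) • e + (N / p) • f0 := ⟨_, rfl⟩
  have hfD : f ∈ B.D k := hf ▸ add_mem ((B.D k).smul_mem _ he) ((B.D k).smul_mem _ hf0)
  have hfv : Q f = N * N / Q y := by rw [hf, val_comb, hee, hff, hef]; field_simp; ring
  have hfB : polar Q (p • e + q • f0 + y) f = N * N / Q y := by
    rw [polar_add_left _ (p • e + q • f0) y f, polar_comm Q y f, B.orth k l hkl f hfD y hy, hf]
    simp only [polar_add_left, polar_add_right, polar_smul_left, polar_smul_right, hef, polar_comm Q f0 e,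
      polar_self_zero hee, polar_self_zero hff, smul_eq_mul]
    field_simp
    rw [hNv]; ring
  have h1 := InG.map hr.2 (S.inG_axis ⟨hfv.trans_ne (div_ne_zero (mul_ne_zero hN0 hN0) hyy), k, hfD⟩)
  obtain ⟨c, hc⟩ : ∃ c, c = N / p - N / Q y * q := ⟨_, rfl⟩
  have h2 : (rf Q (p • e + q • f0 + y)).1 f = c • f0 + (-(N / Q y)) • y := by
    show refl Q (p • e + q • f0 + y) f = _
    rw [refl_apply, hfB, ← hN, show N⁻¹ * (N * N / Q y) = N / Q y by field_simp, hf, hc]
    module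
  rw [h2] at h1
  have hc0 : c ≠ 0 := fun h => hne (by
    rw [hc] at h
    field_simp at h
    rw [mul_zero, mul_eq_zero, sub_eq_zero] at h
    exact (h.resolve_left hN0).symm)
  refine ⟨N / Q y, div_ne_zero hN0 hyy, c • f0, (B.D k).smul_mem c hf0, (-(N / Q y)) • y, (B.D l).smul_mem _ hy,
    smul_ne_zero hc0 fun e' => by simp [e'] at hef, ?_, ?_,
    mul_ne_zero (mul_ne_zero (div_ne_zero hN0 hyy) (div_ne_zero hN0 hyy)) hyy, h1⟩
  · rw [QuadraticMap.map_smul, hff, smul_zero]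
  · rw [QuadraticMap.map_smul, smul_eq_mul]; ring

/-- All centres of two hyperbolic planes. -/
theorem Planes.Big.pair_hyp (S : B.Big G) (hA : ¬ B.Aniso) (h7 : 7 ≤ Fintype.card F) {k l : Fin t} (hkl : k ≠ l)
    {x₀ y₀ : V} (hx₀ : x₀ ∈ B.D k) (hy₀ : y₀ ∈ B.D l) (hx0 : x₀ ≠ 0) (hy0 : y₀ ≠ 0) (hr : InG G (x₀ + y₀))
    {x y : V} (hx : x ∈ B.D k) (hy : y ∈ B.D l) (hxy : Q (x + y) ≠ 0) : InG G (x + y) := by
  classical
  obtain ⟨M, hM⟩ : ∃ M, B.Sing G k l M := by
    by_cases hyy : Q y₀ = 0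
    · have hxx : Q x₀ ≠ 0 := fun e => hr.1 (by rw [B.val_pair hkl hx₀ hy₀, e, hyy, add_zero])
      obtain ⟨x', hx', y', hy', e1, e2, e3, -, hr'⟩ := S.exists_swapped hkl hx₀ hy₀ hr
      exact ⟨Q x₀, x', hx', y', hy', fun h => hy0 (e3.mp h), e1.trans hyy, e2, hxx, hr'⟩
    by_cases hxx : Q x₀ = 0
    · exact ⟨Q y₀, x₀, hx₀, y₀, hy₀, hx0, hxx, rfl, hyy, hr⟩
    by_cases hne : Q x₀ = Q y₀
    swap
    · obtain ⟨s, -, hs⟩ := S.sing_of_ne hA hkl hx₀ hy₀ hxx hyy hne hr
      exact ⟨_, hs⟩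
    obtain ⟨e, f0, he, hf0, hee, hff, hef, hsp⟩ := B.exists_hyp hA k
    obtain ⟨p, q, rfl⟩ := hsp x₀ hx₀
    obtain ⟨N, hN⟩ : ∃ N, N = Q (p • e + q • f0 + y₀) := ⟨_, rfl⟩
    have hN0 : N ≠ 0 := hN ▸ hr.1
    have hxv : Q (p • e + q • f0) = p * q := by rw [val_comb, hee, hff, hef]; ring
    rw [hxv] at hne hxx
    have hp : p ≠ 0 := left_ne_zero_of_mul hxx
    have hNv : N = 2 * (p * q) := by rw [hN, B.val_pair hkl hx₀ hy₀, hxv, ← hne]; ring
    have hroot : ∀ n : F, n ≠ 0 → ∃ z₁ : F, ∀ z : F, (q + p * z) * (q + p * z) = n * z →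
        z = z₁ ∨ z = q * q / (p * p * z₁) := by
      intro n hn
      by_cases h : ∃ z₁ : F, z₁ ≠ 0 ∧ (q + p * z₁) * (q + p * z₁) = n * z₁
      · obtain ⟨z₁, h0, h1⟩ := h
        refine ⟨z₁, fun z hz => ?_⟩
        rcases mul_eq_zero.mp (by linear_combination z₁ * hz - z * h1 :
          (z - z₁) * (p * p * z * z₁ - q * q) = 0) with h | h
        · exact Or.inl (sub_eq_zero.mp h)
        · exact Or.inr (by field_simp; linear_combination h)
      · refine ⟨0, fun z hz => Or.inl ?_⟩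
        by_contra hz0
        exact h ⟨z, hz0, hz⟩
    obtain ⟨z₁, hz₁⟩ := hroot N hN0
    obtain ⟨z₂, hz₂⟩ : ∃ z₂ : F, ∀ z : F, (q + p * z) * (q + p * z) = 2 * N * z →
        z = z₂ ∨ z = q * q / (p * p * z₂) :=
      hroot _ (mul_ne_zero (fun e => hN0 (by rw [hNv, e, zero_mul])) hN0)
    obtain ⟨z, hz⟩ := exists_field_avoid ({0, -(q / p), z₁, q * q / (p * p * z₁), z₂, q * q / (p * p * z₂)} : Finset F)
      (Finset.card_le_six.trans_lt (by omega))
    simp only [Finset.mem_insert, Finset.mem_singleton, not_or] at hz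
    obtain ⟨β, hβ⟩ : ∃ β, β = q + p * z := ⟨_, rfl⟩
    have hβ0 : β ≠ 0 := fun e => hz.2.1 (by rw [hβ] at e; field_simp; linear_combination e)
    have hb1 : β * β ≠ N * z := fun e => (hz₁ z (hβ ▸ e)).elim hz.2.2.1 hz.2.2.2.1
    have hb2 : β * β ≠ 2 * N * z := fun e => (hz₂ z (hβ ▸ e)).elim hz.2.2.2.2.1 hz.2.2.2.2.2
    obtain ⟨f, hf⟩ : ∃ f, f = (1 : F) • e + z • f0 := ⟨_, rfl⟩
    have hfD : f ∈ B.D k := hf ▸ add_mem ((B.D k).smul_mem _ he) ((B.D k).smul_mem _ hf0)
    have hfv : Q f = z := by rw [hf, val_comb, hee, hff, hef]; ring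
    have hfB : polar Q (p • e + q • f0) f = β := by
      rw [hf, hβ]
      simp only [polar_add_left, polar_add_right, polar_smul_left, polar_smul_right, hef, polar_comm Q f0 e,
        polar_self_zero hee, polar_self_zero hff, smul_eq_mul]
      ring
    have hfB' : polar Q (p • e + q • f0 + y₀) f = β := by
      rw [polar_add_left _ (p • e + q • f0) y₀ f, hfB, polar_comm Q y₀ f, B.orth k l hkl f hfD y₀ hy₀, add_zero]
    obtain ⟨s, hs⟩ : ∃ s, s = -(N / β) := ⟨_, rfl⟩
    obtain ⟨x', hx'⟩ : ∃ x', x' = p • e + q • f0 + s • f := ⟨_, rfl⟩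
    have hs0 : s ≠ 0 := hs ▸ neg_ne_zero.mpr (div_ne_zero hN0 hβ0)
    have hx'D : x' ∈ B.D k := hx' ▸ add_mem hx₀ ((B.D k).smul_mem _ hfD)
    have h1 := (InG.map hr.2 (S.inG_axis ⟨hfv.trans_ne hz.1, k, hfD⟩)).smul hs0
    rw [show s • (rf Q (p • e + q • f0 + y₀)).1 f = x' + y₀ from by
      show s • refl Q (p • e + q • f0 + y₀) f = x' + y₀
      rw [refl_apply, hfB', ← hN, hx', smul_sub, smul_smul,
        show s * (N⁻¹ * β) = -1 by rw [hs]; field_simp, neg_one_smul]
      abel] at h1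
    have hxn : Q x' + Q y₀ = N * (N * z) / (β * β) := by
      rw [hx', OCount.map_two, QuadraticMap.map_smul, polar_smul_right, hfB, hfv, hxv, smul_eq_mul, smul_eq_mul, hs,
        ← hne]
      field_simp
      rw [hNv]; ring
    obtain ⟨s', -, h2⟩ := S.sing_of_ne hA hkl hx'D hy₀ (fun e' => by
        rw [e', zero_add, ← hne] at hxn
        field_simp at hxn
        refine hb2 (mul_left_cancel₀ (show p * q ≠ 0 from hxx) ?_)
        rw [hNv] at hxn ⊢
        linear_combination hxn)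
      hyy (fun e' => by
        rw [e', ← hne, ← two_mul, ← hNv] at hxn
        field_simp at hxn
        exact hb1 (by linear_combination hxn)) h1
    exact ⟨_, h2⟩
  have hM0 : M ≠ 0 := by obtain ⟨_, _, _, _, -, -, -, h, -⟩ := hM; exact h
  -- every value occurs
  have hall : ∀ b, b ≠ 0 → B.Sing G k l b := by
    intro b hb
    by_cases hsq : IsSquare (b / M)
    · obtain ⟨s, hs⟩ := hsq
      have hs0 : s ≠ 0 := fun e => div_ne_zero hb hM0 (by rw [hs, e, mul_zero])
      have := hM.scale hs0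
      rwa [← hs, div_mul_cancel₀ _ hM0] at this
    obtain ⟨m, hm⟩ := exists_field_avoid ({0, 1, -1} : Finset F) (Finset.card_le_three.trans_lt (by omega))
    simp only [Finset.mem_insert, Finset.mem_singleton, not_or] at hm
    obtain ⟨d, hd0, hdsum, hdne, s, hs0, hsd⟩ :
        ∃ d, d ≠ 0 ∧ d + M ≠ 0 ∧ d ≠ M ∧ ∃ s : F, s ≠ 0 ∧ s * s * d = b := by
      by_cases h : b + M = 0
      · refine ⟨m * m * b, mul_ne_zero (mul_ne_zero hm.1 hm.1) hb, fun e => ?_, fun e => hsq ⟨m⁻¹, ?_⟩, m⁻¹,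
          inv_ne_zero hm.1, by field_simp [hm.1]⟩
        · exact (mul_self_eq_one_iff.mp (mul_right_cancel₀ hb (show m * m * b = 1 * b by linear_combination e - h))).elim
            hm.2.1 hm.2.2
        · have := hm.1; field_simp; linear_combination e
      · exact ⟨b, hb, h, fun e => hsq ⟨1, by rw [e, div_self hM0, mul_one]⟩, 1, one_ne_zero, by ring⟩
    obtain ⟨X, hX, hXd⟩ := B.exists_value S.ok.weak k hd0
    obtain ⟨Y, hY, hYM⟩ := B.exists_value S.ok.weak l hM0
    obtain ⟨X', hX', Y', hY', e1, e2, -, -, hr'⟩ := S.exists_swapped hkl hX hY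
      (S.of_sing hA hkl hM hX hY hYM (by rw [hXd]; exact hdsum))
    obtain ⟨s', hs', h2⟩ := S.sing_of_ne hA hkl hX' hY' (e1.trans hYM |>.trans_ne hM0) (e2.trans hXd |>.trans_ne hd0)
      (by rw [e1, e2, hYM, hXd]; exact hdne.symm) hr'
    have := h2.scale (s := s / s') (div_ne_zero hs0 hs')
    rwa [e2, hXd, show s / s' * (s / s') * (s' * s' * d) = b by field_simp; linear_combination hsd] at this
  rw [B.val_pair hkl hx hy] at hxy
  by_cases hyy : Q y = 0
  swap
  · exact S.of_sing hA hkl (hall _ hyy) hx hy rfl hxy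
  rw [hyy, add_zero] at hxy
  obtain ⟨σ, h1, h2, -, hst⟩ := B.exists_swap k l
  have h3 := S.of_sing hA hkl (hall _ hxy) (h2 y hy) (h1 x hx) (σ.2 x) (by rw [σ.2, hyy, zero_add]; exact hxy)
  have h4 := InG.map (inv_mem (S.st σ hst)) h3
  rwa [map_add, show (σ⁻¹).1 (σ.1 y) = y from σ.1.symm_apply_apply y,
    show (σ⁻¹).1 (σ.1 x) = x from σ.1.symm_apply_apply x, add_comm] at h4

end Hyp

section Aniso

theorem Planes.neg_mul_not_isSquare (B : Planes Q t) (hA : B.Aniso) (h2 : (2 : F) ≠ 0) {i : Fin t} {x e : V}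
    (hx : x ∈ B.D i) (he : e ∈ B.D i) (hxx : Q x ≠ 0) (hp : polar Q x e = 0) (hee : Q e ≠ 0) :
    ¬ IsSquare (-(Q x * Q e)) := by
  rintro ⟨z, hz⟩
  have h0 : Q (z • x + Q x • e) = 0 := by rw [val_comb, hp]; linear_combination -Q x * hz
  have h1 := congrArg (fun v => polar Q v e)
    (hA i _ (add_mem ((B.D i).smul_mem _ hx) ((B.D i).smul_mem _ he)) h0)
  simp only [polar_add_left, polar_smul_left, hp, polar_self_two, polar_zero_left, smul_eq_mul, mul_zero,
    zero_add] at h1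
  exact mul_ne_zero h2 hee ((mul_eq_zero.mp h1).resolve_left hxx)

/-- Proportional components have proportional scalars. -/
theorem Planes.cset_transfer (B : Planes Q t) (hA : B.Aniso) {k l : Fin t} {x y : V} (hx : x ∈ B.D k)
    (hy : y ∈ B.D l) (hxx : Q x ≠ 0) (hyy : Q y ≠ 0) {c : F} (hc : c ∈ B.cset k x) :
    Q y / Q x * c ∈ B.cset l y := by
  by_cases hc0 : c = 0
  · rw [hc0, mul_zero]; exact B.zero_mem_cset l y
  have hx0 : x ≠ 0 := fun e => hxx (by rw [e, QuadraticMap.map_zero])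
  by_cases h2 : (2 : F) = 0
  · rw [B.mem_cset_two hA h2 hx hx0 hc0] at hc
    rw [B.mem_cset_two hA h2 hy (fun e => hyy (by rw [e, QuadraticMap.map_zero]))
      (mul_ne_zero (div_ne_zero hyy hxx) hc0),
      show Q y / (Q y / Q x * c) = Q x / c by field_simp]
    exact hc
  obtain ⟨e, he, hxe, hee⟩ := B.exists_perp hx hxx
  obtain ⟨e', he', hye, hee'⟩ := B.exists_perp hy hyy
  have hind : ∀ s r : F, s • x + r • e = 0 → s = 0 ∧ r = 0 := fun s r h => by
    have h1 := congrArg (fun v => polar Q v e) h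
    simp only [polar_add_left, polar_smul_left, hxe, polar_self_two, polar_zero_left, smul_eq_mul, mul_zero,
      zero_add] at h1
    have hr : r = 0 := (mul_eq_zero.mp h1).resolve_right (mul_ne_zero h2 hee)
    rw [hr, zero_smul, add_zero, smul_eq_zero] at h
    exact ⟨h.resolve_right hx0, hr⟩
  obtain ⟨w, hw, hwv, hwB⟩ := B.mem_cset.mp hc
  obtain ⟨s, h, rfl⟩ := B.span_two hx he hind hw
  rw [val_comb, hxe] at hwv
  rw [polar_add_right, polar_smul_right, polar_smul_right, hxe, polar_self_two] at hwB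
  simp only [smul_eq_mul, mul_zero, add_zero] at hwB hwv
  obtain ⟨z, hz⟩ : IsSquare (Q x * Q e * (Q y * Q e')) := by
    rw [show Q x * Q e * (Q y * Q e') = -(Q x * Q e) * -(Q y * Q e') by ring,
      isSquare_iff_mul h2 (neg_ne_zero.mpr (mul_ne_zero hxx hee)) (neg_ne_zero.mpr (mul_ne_zero hyy hee'))]
    exact iff_of_false (B.neg_mul_not_isSquare hA h2 hx he hxx hxe hee)
      (B.neg_mul_not_isSquare hA h2 hy he' hyy hye hee')
  rw [B.mem_cset]
  refine ⟨s • y + (h * z / (Q x * Q e')) • e', add_mem ((B.D l).smul_mem _ hy) ((B.D l).smul_mem _ he'), ?_, ?_⟩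
  · rw [val_comb, hye]
    field_simp
    linear_combination (Q e' * Q x * Q y) * hwv - h * h * hz
  · rw [polar_add_right, polar_smul_right, polar_smul_right, hye, polar_self_two]
    simp only [smul_eq_mul, mul_zero, add_zero]
    field_simp
    linear_combination hwB

/-- Two planes carry centres with these fractions of every value. -/
def Planes.HasFrac (B : Planes Q t) (G : Subgroup ↥(Iso Q)) (k l : Fin t) (u : F) : Prop :=
  ∀ ν : F, ν ≠ 0 → ∀ x ∈ B.D k, ∀ y ∈ B.D l, Q x = ν * (1 - u) → Q y = ν * u → InG G (x + y)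

/-- The image of a vector of the first plane. -/
theorem Planes.Big.image_frac (S : B.Big G) {k l : Fin t} (hkl : k ≠ l) {x y : V} (hx : x ∈ B.D k) (hy : y ∈ B.D l)
    (hr : InG G (x + y)) {c ν : F} (hν : ν ≠ 0) {f : V} (hf : f ∈ B.D k) (hfv : Q f = ν)
    (hfB : polar Q x f * polar Q x f = ν * c) :
    ∃ x' ∈ B.D k, ∃ y' ∈ B.D l, InG G (x' + y') ∧ Q x' = ν * (1 - c * Q y / (Q (x + y) * Q (x + y))) ∧
      Q y' = ν * (c * Q y / (Q (x + y) * Q (x + y))) := by
  obtain ⟨N, hN⟩ : ∃ N, N = Q (x + y) := ⟨_, rfl⟩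
  have hN0 : N ≠ 0 := hN ▸ hr.1
  have hNv : N = Q x + Q y := hN ▸ B.val_pair hkl hx hy
  have hB : polar Q (x + y) f = polar Q x f := by
    rw [polar_add_left, polar_comm Q y f, B.orth k l hkl f hf y hy, add_zero]
  have h1 := InG.map hr.2 (S.inG_axis ⟨hfv.trans_ne hν, k, hf⟩)
  rw [show (rf Q (x + y)).1 f = (f - (polar Q x f / N) • x) + (-(polar Q x f / N)) • y from by
    show refl Q (x + y) f = _
    rw [refl_apply, hB, ← hN, inv_mul_eq_div]; module] at h1
  refine ⟨_, sub_mem hf ((B.D k).smul_mem _ hx), _, (B.D l).smul_mem _ hy, h1, ?_, ?_⟩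
  · rw [map_sub_two, QuadraticMap.map_smul, polar_smul_right, polar_comm Q f x, hfv, ← hN, smul_eq_mul, smul_eq_mul]
    field_simp
    rw [hNv]
    linear_combination (Q x - (Q x + Q y)) * hfB
  · rw [QuadraticMap.map_smul, ← hN, smul_eq_mul]
    field_simp
    linear_combination Q y * hfB

/-- A fraction from each scalar of a component. -/
theorem Planes.Big.hasFrac (S : B.Big G) (hA : B.Aniso) {k l : Fin t} (hkl : k ≠ l) {x y : V} (hx : x ∈ B.D k)
    (hy : y ∈ B.D l) (hxx : Q x ≠ 0) (hyy : Q y ≠ 0) (hr : InG G (x + y))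
    (hclass : (2 : F) = 0 ∨ ¬ IsSquare (Q x / Q y)) {c : F} (hc : c ∈ B.cset k x) (hc0 : c ≠ 0)
    (hu : c * Q y / (Q (x + y) * Q (x + y)) ≠ 1) : B.HasFrac G k l (c * Q y / (Q (x + y) * Q (x + y))) := by
  obtain ⟨u, hudef⟩ : ∃ u, u = c * Q y / (Q (x + y) * Q (x + y)) := ⟨_, rfl⟩
  rw [← hudef] at hu ⊢
  have hu0 : u ≠ 0 := hudef ▸ div_ne_zero (mul_ne_zero hc0 hyy) (mul_ne_zero hr.1 hr.1)
  have hu1 : 1 - u ≠ 0 := sub_ne_zero.mpr (Ne.symm hu)
  intro ν hν X hX Y hY hXv hYv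
  suffices h : ∃ x' ∈ B.D k, ∃ y' ∈ B.D l, InG G (x' + y') ∧ Q x' = ν * (1 - u) ∧ Q y' = ν * u by
    obtain ⟨x', hx', y', hy', h1, h2, h3⟩ := h
    exact S.move_two hkl hx' hX (h2.trans_ne (mul_ne_zero hν hu1)) (hXv.trans h2.symm) hy' hY
      (h3.trans_ne (mul_ne_zero hν hu0)) (hYv.trans h3.symm) h1
  by_cases hsq : IsSquare (ν / c)
  · obtain ⟨s, hs⟩ := hsq
    have hν' : ν = s * s * c := by rw [← hs, div_mul_cancel₀ _ hc0]
    obtain ⟨w, hw, hwv, hwB⟩ := B.mem_cset.mp hc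
    obtain ⟨x', hx', y', hy', h1, h2, h3⟩ := S.image_frac hkl hx hy hr (c := c) hν ((B.D k).smul_mem s hw)
      (by rw [QuadraticMap.map_smul, hwv, smul_eq_mul, hν'])
      (by rw [polar_smul_right, hwB, smul_eq_mul, hν']; ring)
    rw [← hudef] at h2 h3
    exact ⟨x', hx', y', hy', h1, h2, h3⟩
  have h2 : (2 : F) ≠ 0 := fun h2 => hsq (by
    haveI : CharP F 2 := CharTwo.of_one_ne_zero_of_two_eq_zero one_ne_zero h2
    exact FiniteField.isSquare_of_char_two (ringChar.eq F 2) _)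
  obtain ⟨s, hs⟩ : IsSquare (ν / (Q y / Q x * c)) := by
    rw [show ν / (Q y / Q x * c) = ν / c * (Q x / Q y) by field_simp,
      isSquare_iff_mul h2 (div_ne_zero hν hc0) (div_ne_zero hxx hyy)]
    exact iff_of_false hsq (hclass.resolve_left h2)
  have hc' : Q y / Q x * c ≠ 0 := mul_ne_zero (div_ne_zero hyy hxx) hc0
  have hν' : ν = s * s * (Q y / Q x * c) := by rw [← hs, div_mul_cancel₀ _ hc']
  obtain ⟨w, hw, hwv, hwB⟩ := B.mem_cset.mp (B.cset_transfer hA hx hy hxx hyy hc)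
  obtain ⟨y', hy', x', hx', h1, h2', h3⟩ := S.image_frac hkl.symm hy hx (by rwa [add_comm])
    (c := Q y / Q x * c) hν ((B.D l).smul_mem s hw)
    (by rw [QuadraticMap.map_smul, hwv, smul_eq_mul, hν'])
    (by rw [polar_smul_right, hwB, smul_eq_mul, hν']; ring)
  rw [show Q y / Q x * c * Q x / (Q (y + x) * Q (y + x)) = u by rw [hudef, add_comm y x]; field_simp] at h2' h3
  rw [add_comm] at h1
  obtain ⟨X', hX', Y', hY', e1, e2, -, -, h4⟩ := S.exists_swapped hkl hx' hy' h1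
  exact ⟨X', hX', Y', hY', h4, e1.trans h2', e2.trans h3⟩

/-- Fewer than half of the scalars are fractions of one class. -/
theorem card_square_frac (S : Finset F) (h2 : (2 : F) ≠ 0)
    (h : ∀ u ∈ S, u ≠ 0 ∧ u ≠ 1 ∧ IsSquare (u * (1 - u))) : 2 * S.card + 1 ≤ Fintype.card F := by
  classical
  obtain ⟨T, hT⟩ : ∃ T : Finset F, T = ((Finset.univ : Finset F).erase 0).filter fun z => (1 + z * z)⁻¹ ∈ S := ⟨_, rfl⟩
  have h0 := Finset.card_eq_sum_card_fiberwise (s := T) (t := S) (f := fun z => (1 + z * z)⁻¹) fun z hz => by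
    rw [hT] at hz
    exact (Finset.mem_filter.mp (Finset.mem_coe.mp hz)).2
  have h1 : S.card • 2 ≤ T.card := by
    rw [h0]
    refine Finset.card_nsmul_le_sum S _ 2 fun u hu => ?_
    obtain ⟨hu0, hu1, s, hs⟩ := h u hu
    have hz0 : s / u ≠ 0 := div_ne_zero (fun e => mul_ne_zero hu0 (sub_ne_zero.mpr (Ne.symm hu1)) (by rw [hs, e, mul_zero])) hu0
    have hval : ∀ z : F, z = s / u ∨ z = -(s / u) → (1 + z * z)⁻¹ = u := by
      intro z hz
      have hzz : z * z = (1 - u) / u := by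
        rcases hz with rfl | rfl <;> field_simp <;> linear_combination -hs
      rw [hzz]; field_simp; ring
    calc 2 = ({s / u, -(s / u)} : Finset F).card := (Finset.card_pair fun e => by
            have h3 : (2 : F) * (s / u) = 0 := by linear_combination e
            exact hz0 ((mul_eq_zero.mp h3).resolve_left h2)).symm
      _ ≤ _ := Finset.card_le_card fun z hz => by
            simp only [Finset.mem_insert, Finset.mem_singleton] at hz
            refine Finset.mem_filter.mpr ⟨hT ▸ Finset.mem_filter.mpr ⟨Finset.mem_erase.mpr ⟨?_, Finset.mem_univ z⟩, ?_⟩,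
              hval z hz⟩
            · rcases hz with rfl | rfl
              · exact hz0
              · exact neg_ne_zero.mpr hz0
            · rw [hval z hz]; exact hu
  have h3 : T.card ≤ Fintype.card F - 1 := by
    rw [← Finset.card_univ, ← Finset.card_erase_of_mem (Finset.mem_univ (0 : F)), hT]
    exact Finset.card_filter_le _ _
  have := Fintype.one_lt_card (α := F)
  rw [smul_eq_mul] at h1
  omega

/-- A centre whose components have values of different classes. -/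
theorem Planes.Big.exists_mixed (S : B.Big G) (hA : B.Aniso) (hq : 4 ≤ Fintype.card F) {k l : Fin t} (hkl : k ≠ l)
    {x y : V} (hx : x ∈ B.D k) (hy : y ∈ B.D l) (hxx : Q x ≠ 0) (hyy : Q y ≠ 0) (hr : InG G (x + y)) :
    ∃ x' ∈ B.D k, ∃ y' ∈ B.D l, Q x' ≠ 0 ∧ Q y' ≠ 0 ∧ InG G (x' + y') ∧ Q x' ≠ Q y' ∧
      ((2 : F) = 0 ∨ ¬ IsSquare (Q x' / Q y')) := by
  classical
  by_cases h2 : (2 : F) = 0
  · refine ⟨x, hx, y, hy, hxx, hyy, hr, fun e => hr.1 ?_, Or.inl h2⟩
    rw [B.val_pair hkl hx hy, e, ← two_mul, h2, zero_mul]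
  have hodd : Fintype.card F % 2 = 1 := FiniteField.odd_card_of_char_ne_two fun h => h2 (by
    haveI := ringChar.of_eq h
    exact CharTwo.two_eq_zero)
  have hone : ∀ x y : V, x ∈ B.D k → y ∈ B.D l → Q x ≠ 0 → Q y ≠ 0 → Q x ≠ Q y → InG G (x + y) →
      ∃ x' ∈ B.D k, ∃ y' ∈ B.D l, Q x' ≠ 0 ∧ Q y' ≠ 0 ∧ InG G (x' + y') ∧ Q x' ≠ Q y' ∧
        ((2 : F) = 0 ∨ ¬ IsSquare (Q x' / Q y')) := by
    intro x y hx hy hxx hyy hne hr
    by_contra hno
    obtain ⟨T, hT⟩ : ∃ T : Finset F, T = ((B.cset k x).erase 0).image fun c => c * Q y / (Q (x + y) * Q (x + y)) :=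
      ⟨_, rfl⟩
    have hcard : T.card = (B.cset k x).card - 1 := by
      rw [hT, Finset.card_image_of_injective, Finset.card_erase_of_mem (B.zero_mem_cset k x)]
      intro a b hab
      exact mul_right_cancel₀ hyy ((div_left_inj' (mul_ne_zero hr.1 hr.1)).mp hab)
    have hmem : ∀ u ∈ T, u ≠ 0 ∧ u ≠ 1 ∧ IsSquare (u * (1 - u)) := by
      intro u hu
      rw [hT, Finset.mem_image] at hu
      obtain ⟨c, hc, rfl⟩ := hu
      obtain ⟨hc0, hc⟩ := Finset.mem_erase.mp hc
      obtain ⟨w, hw, hwv, hwB⟩ := B.mem_cset.mp hc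
      obtain ⟨x', hx', y', hy', h1, e1, e2⟩ := S.image_frac hkl hx hy hr (c := c) hc0 hw hwv (by rw [hwB])
      obtain ⟨u, hu⟩ : ∃ u, u = c * Q y / (Q (x + y) * Q (x + y)) := ⟨_, rfl⟩
      rw [← hu] at e1 e2 ⊢
      have hu0 : u ≠ 0 := hu ▸ div_ne_zero (mul_ne_zero hc0 hyy) (mul_ne_zero hr.1 hr.1)
      have hu1 : u ≠ 1 := by
        intro e
        refine hne ?_
        have hcy : c * Q y = Q (x + y) * Q (x + y) := by
          rw [hu] at e; exact (div_eq_one_iff_eq (mul_ne_zero hr.1 hr.1)).mp e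
        have h0 : Q (w - (c / Q (x + y)) • x) = 0 := by
          rw [map_sub_two, QuadraticMap.map_smul, polar_smul_right, polar_comm Q w x, hwB, hwv, smul_eq_mul,
            smul_eq_mul]
          have := hr.1
          field_simp
          linear_combination -c * hcy - c * c * (B.val_pair hkl hx hy)
        have hw' := sub_eq_zero.mp (hA k _ (sub_mem hw ((B.D k).smul_mem _ hx)) h0)
        rw [hw', polar_smul_right, polar_self_two, smul_eq_mul] at hwB
        have := hr.1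
        field_simp at hwB
        have h4 := B.val_pair hkl hx hy
        linear_combination hwB + h4
      refine ⟨hu0, hu1, ?_⟩
      by_contra hns
      have hx'0 : Q x' ≠ 0 := e1.trans_ne (mul_ne_zero hc0 (sub_ne_zero.mpr (Ne.symm hu1)))
      have hy'0 : Q y' ≠ 0 := e2.trans_ne (mul_ne_zero hc0 hu0)
      refine hno ⟨x', hx', y', hy', hx'0, hy'0, h1, fun e => hns ⟨u, ?_⟩, Or.inr fun hsq => hns ?_⟩
      · rw [e1, e2] at e
        have h5 : 1 - u = u := mul_left_cancel₀ hc0 e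
        rw [h5]
      · rw [e1, e2, mul_div_mul_left _ _ hc0] at hsq
        obtain ⟨s, hs⟩ := hsq
        exact ⟨u * s, by field_simp at hs; linear_combination u * hs⟩
    have h3 := card_square_frac T h2 hmem
    have h4 := B.card_cset hA hx (fun e => hxx (by rw [e, QuadraticMap.map_zero]))
    omega
  by_cases hne : Q x = Q y
  swap
  · exact hone x y hx hy hxx hyy hne hr
  have h4 := B.card_cset hA hx (fun e => hxx (by rw [e, QuadraticMap.map_zero]))
  obtain ⟨c, hc, hcn⟩ := Finset.exists_mem_notMem_of_card_lt_card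
    (s := ({0, Q (x + y) * Q (x + y) / Q y, Q (x + y) * Q (x + y) / (2 * Q y)} : Finset F)) (t := B.cset k x)
    (Finset.card_le_three.trans_lt (by omega))
  simp only [Finset.mem_insert, Finset.mem_singleton, not_or] at hcn
  obtain ⟨w, hw, hwv, hwB⟩ := B.mem_cset.mp hc
  obtain ⟨x', hx', y', hy', h1, e1, e2⟩ := S.image_frac hkl hx hy hr (c := c) hcn.1 hw hwv (by rw [hwB])
  have := hr.1
  refine hone x' y' hx' hy' (e1.trans_ne (mul_ne_zero hcn.1 (sub_ne_zero.mpr fun e => hcn.2.1 ?_)))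
    (e2.trans_ne (mul_ne_zero hcn.1 (div_ne_zero (mul_ne_zero hcn.1 hyy) (mul_ne_zero hr.1 hr.1))))
    (fun e => hcn.2.2 ?_) h1
  · field_simp at e ⊢; linear_combination -e
  · rw [e1, e2] at e
    have := mul_left_cancel₀ hcn.1 e
    field_simp at this ⊢
    linear_combination -this

/-- All centres of two anisotropic planes. -/
theorem Planes.Big.pair_aniso (S : B.Big G) (hA : B.Aniso) (hq : 4 ≤ Fintype.card F) {k l : Fin t} (hkl : k ≠ l)
    {x₀ y₀ : V} (hx₀ : x₀ ∈ B.D k) (hy₀ : y₀ ∈ B.D l) (hx0 : x₀ ≠ 0) (hy0 : y₀ ≠ 0) (hr : InG G (x₀ + y₀))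
    {x y : V} (hx : x ∈ B.D k) (hy : y ∈ B.D l) (hxy : Q (x + y) ≠ 0) : InG G (x + y) := by
  classical
  by_contra hv
  have hx00 : x ≠ 0 := by
    intro e
    rw [e, zero_add] at hv hxy
    exact hv (S.inG_axis ⟨hxy, l, hy⟩)
  obtain ⟨X, hX, Y, hY, hXX, hYY, hR, hne, hclass⟩ := S.exists_mixed hA hq hkl hx₀ hy₀
    (fun e => hx0 (hA k _ hx₀ e)) (fun e => hy0 (hA l _ hy₀ e)) hr
  obtain ⟨P, hP⟩ : ∃ P : Finset F, P = ((B.cset k X).erase 0).image fun c => c * Q Y / (Q (X + Y) * Q (X + Y)) :=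
    ⟨_, rfl⟩
  have hPc : Fintype.card F ≤ 2 * P.card := by
    rw [hP, Finset.card_image_of_injective _ (fun a b hab =>
      mul_right_cancel₀ hYY ((div_left_inj' (mul_ne_zero hR.1 hR.1)).mp hab)),
      Finset.card_erase_of_mem (B.zero_mem_cset k X)]
    have := B.card_cset hA hX (fun e => hXX (by rw [e, QuadraticMap.map_zero]))
    omega
  have hPf : ∀ u ∈ P, u ≠ 0 ∧ u ≠ 1 ∧ B.HasFrac G k l u := by
    intro u hu
    rw [hP, Finset.mem_image] at hu
    obtain ⟨c, hc, rfl⟩ := hu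
    obtain ⟨hc0, hc⟩ := Finset.mem_erase.mp hc
    have hu1 : c * Q Y / (Q (X + Y) * Q (X + Y)) ≠ 1 := by
      intro e
      refine hne ?_
      obtain ⟨w, hw, hwv, hwB⟩ := B.mem_cset.mp hc
      have hcy : c * Q Y = Q (X + Y) * Q (X + Y) := (div_eq_one_iff_eq (mul_ne_zero hR.1 hR.1)).mp e
      have h0 : Q (w - (c / Q (X + Y)) • X) = 0 := by
        rw [map_sub_two, QuadraticMap.map_smul, polar_smul_right, polar_comm Q w X, hwB, hwv, smul_eq_mul,
          smul_eq_mul]
        have := hR.1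
        field_simp
        linear_combination -c * hcy - c * c * (B.val_pair hkl hX hY)
      have hw' := sub_eq_zero.mp (hA k _ (sub_mem hw ((B.D k).smul_mem _ hX)) h0)
      rw [hw', polar_smul_right, polar_self_two, smul_eq_mul] at hwB
      have := hR.1
      field_simp at hwB
      have h4 := B.val_pair hkl hX hY
      linear_combination hwB + h4
    exact ⟨div_ne_zero (mul_ne_zero hc0 hYY) (mul_ne_zero hR.1 hR.1), hu1,
      S.hasFrac hA hkl hX hY hXX hYY hR hclass hc hc0 hu1⟩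
  haveI := Fintype.ofFinite (B.D k)
  haveI := Fintype.ofFinite (B.D l)
  obtain ⟨q, hqdef⟩ : ∃ q, q = Fintype.card F := ⟨_, rfl⟩
  obtain ⟨Sph, hSph⟩ : ∃ Sph : F → Finset (B.D k × B.D l),
      Sph = fun M => Finset.univ.filter fun z : B.D k × B.D l => Q ((z.1 : V) + z.2) = M := ⟨_, rfl⟩
  have hmemS : ∀ M z, z ∈ Sph M ↔ Q ((z.1 : V) + z.2) = M := fun M z => by simp [hSph]
  have hval : ∀ z : B.D k × B.D l, Q ((z.1 : V) + z.2) = Q (z.1 : V) + Q (z.2 : V) :=
    fun z => B.val_pair hkl z.1.2 z.2.2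
  have hzero : ∀ i : Fin t, ∀ z : B.D i, Q (z : V) = 0 → z = 0 := fun i z h => Subtype.ext (hA i _ z.2 h)
  -- centres in each sphere
  obtain ⟨R, hRdef⟩ : ∃ R : Finset (B.D k × B.D l), R = Finset.univ.filter fun z : B.D k × B.D l => InG G ((z.1 : V) + z.2) :=
    ⟨_, rfl⟩
  have hmemR : ∀ z, z ∈ R ↔ InG G ((z.1 : V) + z.2) := fun z => by simp [hRdef]
  have hgood : ∀ M, M ≠ 0 → ∀ z ∈ Sph M, Q (z.2 : V) ∈ insert 0 (insert M (P.image fun u => M * u)) → z ∈ R := by
    intro M hM z hz hs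
    rw [hmemS] at hz
    rw [hmemR]
    simp only [Finset.mem_insert, Finset.mem_image] at hs
    rcases hs with h | h | ⟨u, hu, h⟩
    · rw [show (z.2 : V) = 0 from congrArg Subtype.val (hzero l z.2 h), add_zero] at hz ⊢
      exact S.inG_axis ⟨hz.trans_ne hM, k, z.1.2⟩
    · rw [hval, h, add_eq_right] at hz
      rw [show (z.1 : V) = 0 from congrArg Subtype.val (hzero k z.1 hz), zero_add]
      exact S.inG_axis ⟨h.trans_ne hM, l, z.2.2⟩
    · refine (hPf u hu).2.2 M hM _ z.1.2 _ z.2.2 ?_ h.symm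
      rw [hval, ← h] at hz
      linear_combination hz
  have hfib : ∀ M s, M ≠ 0 → ((Sph M).filter fun z => Q (z.2 : V) = s) = (B.circ k (M - s)) ×ˢ (B.circ l s) := by
    intro M s hM
    ext z
    rw [Finset.mem_filter, hmemS, Finset.mem_product, B.mem_circ, B.mem_circ, hval]
    constructor
    · rintro ⟨h1, h2⟩; exact ⟨by linear_combination h1 - h2, h2⟩
    · rintro ⟨h1, h2⟩; exact ⟨by linear_combination h1 + h2, h2⟩
  have hcirc0 : ∀ i, 1 ≤ (B.circ i 0).card := fun i =>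
    Finset.card_pos.mpr ⟨0, B.mem_circ.mpr (show Q ((0 : B.D i) : V) = 0 by rw [Submodule.coe_zero, QuadraticMap.map_zero])⟩
  have hlow : ∀ M, M ≠ 0 → P.card * ((q + 1) * (q + 1)) + 2 * (q + 1) ≤ ((R.filter fun z => z ∈ Sph M)).card := by
    intro M hM
    refine le_trans ?_ (Finset.card_le_card (s := (Sph M).filter fun z : B.D k × B.D l =>
      Q (z.2 : V) ∈ insert 0 (insert M (P.image fun u => M * u))) fun z hz => by
        rw [Finset.mem_filter] at hz ⊢
        exact ⟨hgood M hM z hz.1 hz.2, hz.1⟩)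
    rw [Finset.card_eq_sum_card_fiberwise (f := fun z : B.D k × B.D l => Q (z.2 : V))
      (s := (Sph M).filter fun z : B.D k × B.D l => Q (z.2 : V) ∈ insert 0 (insert M (P.image fun u => M * u)))
      (t := insert 0 (insert M (P.image fun u => M * u))) fun z hz =>
        Finset.mem_coe.mpr (Finset.mem_filter.mp (Finset.mem_coe.mp hz)).2]
    have hfilter : ∀ s ∈ insert 0 (insert M (P.image fun u => M * u)),
        (((Sph M).filter fun z : B.D k × B.D l => Q (z.2 : V) ∈ insert 0 (insert M (P.image fun u => M * u))).filter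
          fun z => Q (z.2 : V) = s).card = (B.circ k (M - s)).card * (B.circ l s).card := by
      intro s hs
      rw [Finset.filter_filter, Finset.filter_congr (q := fun z : B.D k × B.D l => Q (z.2 : V) = s)
        fun z _ => ⟨fun h => h.2, fun h => ⟨h ▸ hs, h⟩⟩, hfib M s hM, Finset.card_product]
    rw [Finset.sum_congr rfl hfilter]
    have hnot : M ∉ P.image fun u => M * u := fun h => by
      obtain ⟨u, hu, e⟩ := Finset.mem_image.mp h
      exact (hPf u hu).2.1 (mul_left_cancel₀ hM (e.trans (mul_one M).symm))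
    have hnot0 : (0 : F) ∉ insert M (P.image fun u => M * u) := fun h => by
      rcases Finset.mem_insert.mp h with h | h
      · exact hM h.symm
      · obtain ⟨u, hu, e⟩ := Finset.mem_image.mp h
        exact mul_ne_zero hM (hPf u hu).1 e
    rw [Finset.sum_insert hnot0, Finset.sum_insert hnot,
      Finset.sum_image fun a _ b _ e => mul_left_cancel₀ hM e, sub_zero, sub_self,
      Finset.sum_congr rfl fun u hu => show (B.circ k (M - M * u)).card * (B.circ l (M * u)).card = (q + 1) * (q + 1) by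
        rw [B.card_circ hA k (by
          rw [← mul_one_sub]; exact mul_ne_zero hM (sub_ne_zero.mpr (Ne.symm (hPf u hu).2.1))),
          B.card_circ hA l (mul_ne_zero hM (hPf u hu).1), hqdef],
      Finset.sum_const, smul_eq_mul, B.card_circ hA k hM, B.card_circ hA l hM, ← hqdef]
    have := hcirc0 k
    have := hcirc0 l
    nlinarith
  have hall : (q - 1) * (P.card * ((q + 1) * (q + 1)) + 2 * (q + 1)) ≤ R.card := by
    rw [Finset.card_eq_sum_card_fiberwise (f := fun z : B.D k × B.D l => Q ((z.1 : V) + z.2))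
      (t := (Finset.univ : Finset F).erase 0) fun z hz => Finset.mem_coe.mpr
        (Finset.mem_erase.mpr ⟨((hmemR z).mp (Finset.mem_coe.mp hz)).1, Finset.mem_univ _⟩)]
    refine le_trans (le_of_eq ?_) (Finset.card_nsmul_le_sum ((Finset.univ : Finset F).erase 0) _
      (P.card * ((q + 1) * (q + 1)) + 2 * (q + 1)) fun M hM => ?_)
    · rw [Finset.card_erase_of_mem (Finset.mem_univ _), Finset.card_univ, smul_eq_mul, hqdef]
    · refine (hlow M (Finset.mem_erase.mp hM).1).trans (le_of_eq (congrArg Finset.card ?_))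
      exact Finset.filter_congr fun z _ => hmemS M z
  -- the reflections of the missing centre
  obtain ⟨M, hM⟩ : ∃ M, M = Q (x + y) := ⟨_, rfl⟩
  have hM0 : M ≠ 0 := hM ▸ hxy
  have hperp : (R.filter fun z : B.D k × B.D l => polar Q (x + y) ((z.1 : V) + z.2) = 0).card ≤ q ^ 3 := by
    obtain ⟨d, hd, hxd, hind⟩ := B.exists_dual hx hx00
    refine (Finset.card_le_card_of_injOn (fun z : B.D k × B.D l => (polar Q d (z.1 : V), z.2))
      (t := (Finset.univ : Finset (F × B.D l))) (fun _ _ => Finset.mem_univ _) ?_).trans (le_of_eq ?_)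
    · intro z hz z' hz' h
      simp only [Finset.coe_filter, Set.mem_ofPred_eq] at hz hz'
      obtain ⟨h1, h2⟩ := Prod.ext_iff.mp h
      dsimp only at h1 h2
      refine Prod.ext (Subtype.ext (sub_eq_zero.mp ?_)) h2
      have hsub : polar Q x ((z.1 : V) - z'.1) = 0 := by
        have e1 := hz.2
        have e2 := hz'.2
        rw [polar_add_left, polar_add_right, polar_add_right, B.orth k l hkl x hx _ z.2.2, polar_comm Q y,
          B.orth k l hkl _ z.1.2 y hy, add_zero, zero_add] at e1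
        rw [polar_add_left, polar_add_right, polar_add_right, B.orth k l hkl x hx _ z'.2.2, polar_comm Q y,
          B.orth k l hkl _ z'.1.2 y hy, add_zero, zero_add, ← h2] at e2
        rw [polar_sub_right]; linear_combination e1 - e2
      by_contra hne
      obtain ⟨w, hw, hwn⟩ := B.nd k _ (sub_mem z.1.2 z'.1.2) hne
      obtain ⟨s, r, rfl⟩ := B.span_two hx hd hind hw
      refine hwn ?_
      rw [polar_add_right, polar_smul_right, polar_smul_right, polar_comm Q _ x, hsub, polar_comm Q _ d,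
        polar_sub_right, h1, sub_self, smul_zero, smul_zero, add_zero]
    · rw [Finset.card_univ, Fintype.card_prod, Module.card_eq_pow_finrank (K := F) (V := B.D l), B.rank l, ← hqdef]; ring
  obtain ⟨φ, hφ⟩ : ∃ φ : B.D k × B.D l → B.D k × B.D l, φ = fun z =>
      (⟨B.pr k (refl Q ((z.1 : V) + z.2) (x + y)), B.pr_mem k _⟩,
        ⟨B.pr l (refl Q ((z.1 : V) + z.2) (x + y)), B.pr_mem l _⟩) := ⟨_, rfl⟩
  have hφv : ∀ z, ((φ z).1 : V) + (φ z).2 = refl Q ((z.1 : V) + z.2) (x + y) := fun z => by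
    rw [hφ]
    refine B.split_pair hkl ?_
    rw [refl_apply]
    exact sub_mem (Submodule.add_mem_sup hx hy) (Submodule.smul_mem _ _ (Submodule.add_mem_sup z.1.2 z.2.2))
  obtain ⟨R', hR'⟩ : ∃ R', R' = R.filter fun z : B.D k × B.D l => ¬ polar Q (x + y) ((z.1 : V) + z.2) = 0 := ⟨_, rfl⟩
  have hup : R'.card ≤ (q - 1) * ((Sph M).filter fun z => z ∉ R).card := by
    refine Finset.card_le_mul_card_image_of_maps_to (f := φ) (fun z hz => ?_) (q - 1) fun w _ => ?_
    · rw [hR', Finset.mem_filter] at hz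
      rw [Finset.mem_filter, hmemS, hmemR, hφv]
      refine ⟨((rf Q ((z.1 : V) + z.2)).2 (x + y)).trans hM.symm, fun h => hv ?_⟩
      have h1 := InG.map ((hmemR z).mp hz.1).2 h
      rwa [show (rf Q ((z.1 : V) + z.2)).1 (refl Q ((z.1 : V) + z.2) (x + y)) = x + y from
        congrArg (fun e : V ≃ₗ[F] V => e (x + y)) (refl_mul_self _)] at h1
    · rcases (R'.filter fun z => φ z = w).eq_empty_or_nonempty with h | ⟨z₀, hz₀⟩
      · rw [h, Finset.card_empty]; exact Nat.zero_le _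
      rw [Finset.mem_filter, hR', Finset.mem_filter] at hz₀
      refine (Finset.card_le_card (t := ((Finset.univ : Finset F).erase 0).image fun s => s • z₀) fun z hz => ?_).trans
        (Finset.card_image_le.trans (le_of_eq (by rw [Finset.card_erase_of_mem (Finset.mem_univ _), Finset.card_univ, hqdef])))
      rw [Finset.mem_filter, hR', Finset.mem_filter] at hz
      have he : refl Q ((z.1 : V) + z.2) (x + y) = refl Q ((z₀.1 : V) + z₀.2) (x + y) := by
        rw [← hφv, ← hφv, hz.2, hz₀.2]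
      rw [refl_apply, refl_apply, sub_right_inj] at he
      obtain ⟨a, ha⟩ : ∃ a, a = (Q ((z.1 : V) + z.2))⁻¹ * polar Q ((z.1 : V) + z.2) (x + y) := ⟨_, rfl⟩
      obtain ⟨a₀, ha₀⟩ : ∃ a₀, a₀ = (Q ((z₀.1 : V) + z₀.2))⁻¹ * polar Q ((z₀.1 : V) + z₀.2) (x + y) := ⟨_, rfl⟩
      rw [← ha, ← ha₀] at he
      have ha' : a ≠ 0 := ha ▸ mul_ne_zero (inv_ne_zero ((hmemR z).mp hz.1.1).1) (by rw [polar_comm]; exact hz.1.2)
      have ha0 : a₀ ≠ 0 := ha₀ ▸ mul_ne_zero (inv_ne_zero ((hmemR z₀).mp hz₀.1.1).1) (by rw [polar_comm]; exact hz₀.1.2)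
      refine Finset.mem_image.mpr ⟨a₀ / a, Finset.mem_erase.mpr ⟨div_ne_zero ha0 ha', Finset.mem_univ _⟩, ?_⟩
      have e1 : (a₀ / a) • ((z₀.1 : V) + z₀.2) = (z.1 : V) + z.2 := by
        rw [div_eq_inv_mul, mul_smul, ← he, smul_smul, inv_mul_cancel₀ ha', one_smul]
      have e2 := (B.pr_add_left hkl z.1.2 z.2.2)
      rw [← e1, map_smul, map_smul, (B.pr_add_left hkl z₀.1.2 z₀.2.2).1, (B.pr_add_left hkl z₀.1.2 z₀.2.2).2] at e2
      exact Prod.ext (Subtype.ext e2.1) (Subtype.ext e2.2)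
  have hnon : ((Sph M).filter fun z => z ∉ R).card ≤ (q - 2 - P.card) * ((q + 1) * (q + 1)) := by
    obtain ⟨C, hC⟩ : ∃ C : Finset F, C = Finset.univ \ insert 0 (insert M (P.image fun u => M * u)) := ⟨_, rfl⟩
    rw [Finset.card_eq_sum_card_fiberwise (f := fun z : B.D k × B.D l => Q (z.2 : V)) (t := C) fun z hz => by
      rw [Finset.mem_coe, Finset.mem_filter] at hz
      rw [Finset.mem_coe, hC, Finset.mem_sdiff]
      exact ⟨Finset.mem_univ _, fun h => hz.2 (hgood M hM0 z hz.1 h)⟩]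
    refine (Finset.sum_le_card_nsmul C _ ((q + 1) * (q + 1)) fun s hs => ?_).trans (le_of_eq ?_)
    · refine (Finset.card_le_card (Finset.filter_subset_filter _ (Finset.filter_subset _ _))).trans ?_
      rw [hfib M s hM0, Finset.card_product]
      rw [hC, Finset.mem_sdiff] at hs
      simp only [Finset.mem_insert, not_or] at hs
      rw [B.card_circ hA l hs.2.1, B.card_circ hA k (sub_ne_zero.mpr (Ne.symm hs.2.2.1)), hqdef]
    · rw [smul_eq_mul, hC, Finset.card_sdiff_of_subset (Finset.subset_univ _), Finset.card_univ,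
        Finset.card_insert_of_notMem, Finset.card_insert_of_notMem,
        Finset.card_image_of_injective _ (mul_right_injective₀ hM0), ← hqdef]
      · congr 1; omega
      · intro h
        obtain ⟨u, hu, e⟩ := Finset.mem_image.mp h
        exact (hPf u hu).2.1 (mul_left_cancel₀ hM0 (e.trans (mul_one M).symm))
      · intro h
        rcases Finset.mem_insert.mp h with h | h
        · exact hM0 h.symm
        · obtain ⟨u, hu, e⟩ := Finset.mem_image.mp h
          exact mul_ne_zero hM0 (hPf u hu).1 e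
  have hPle : P.card + 2 ≤ q := by
    have h1 := Finset.card_le_card (show P ⊆ (Finset.univ : Finset F) \ {0, 1} from fun u hu =>
      Finset.mem_sdiff.mpr ⟨Finset.mem_univ u, by simp [(hPf u hu).1, (hPf u hu).2.1]⟩)
    rw [Finset.card_sdiff_of_subset (Finset.subset_univ _), Finset.card_univ, Finset.card_pair zero_ne_one] at h1
    omega
  have hsplit := Finset.card_filter_add_card_filter_not (s := R)
    fun z : B.D k × B.D l => polar Q (x + y) ((z.1 : V) + z.2) = 0
  rw [← hR'] at hsplit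
  rw [← hqdef] at hPc hq
  obtain ⟨d, hd⟩ := Nat.exists_eq_add_of_le hPle
  obtain ⟨n, hn⟩ := Nat.exists_eq_add_of_le (show d + 2 ≤ P.card by omega)
  rw [show q - 2 - P.card = d by omega] at hnon
  have hbig := hup.trans (Nat.mul_le_mul_left _ hnon)
  rw [show q - 1 = P.card + d + 1 by omega] at hbig hall
  rw [show q = P.card + d + 2 by omega, hn] at hbig hall hperp
  rw [hn] at *
  nlinarith

end Aniso

/-- All centres in the two planes. -/
theorem Planes.Big.pair_all (S : B.Big G) (hq : 4 ≤ Fintype.card F) (hr : ∃ r, InG G r ∧ ∀ j, r ∉ B.D j) :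
    ∃ k l, k ≠ l ∧ ∀ x ∈ B.D k, ∀ y ∈ B.D l, Q (x + y) ≠ 0 → InG G (x + y) := by
  obtain ⟨r, hr, hrn⟩ := hr
  by_cases hA : B.Aniso
  · obtain ⟨w, k, l, hkl, hw, hwm, hk, hl⟩ := S.out_aniso hA hq hr hrn
    rw [← B.split_pair hkl hwm] at hw
    exact ⟨k, l, hkl, fun x hx y hy h => S.pair_aniso hA hq hkl (B.pr_mem k w) (B.pr_mem l w) hk hl hw hx hy h⟩
  · have h7 : 7 ≤ Fintype.card F := by
      rcases S.ok with h | h
      · exact absurd h.1 hA
      · exact h.2
    obtain ⟨w, k, l, hkl, hw, hwm, hk, hl⟩ := S.out_hyp hA h7 hr hrn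
    rw [← B.split_pair hkl hwm] at hw
    exact ⟨k, l, hkl, fun x hx y hy h => S.pair_hyp hA h7 hkl (B.pr_mem k w) (B.pr_mem l w) hk hl hw hx hy h⟩

end Cfsg.Agent.Classical.OPlanes
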