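import Cfsg.Agent.Lib.Classical.OPlanes.Basic

/-!
# Binary facts about the planes of a decomposition
-/

set_option autoImplicit false
set_option linter.unusedSectionVars false

namespace Cfsg.Agent.Classical.OPlanes

open Module QuadraticMap OCount ORefl OOmega

variable {F : Type*} [Field F] {V : Type*} [AddCommGroup V] [Module F V] {Q : QuadraticForm F V} {t : ℕ}
variable (B : Planes Q t)

/-- The planes have no singular vectors. -/
def Planes.Aniso : Prop := ∀ i, ∀ x ∈ B.D i, Q x = 0 → x = 0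

theorem Planes.span_two {i : Fin t} {x d : V} (hx : x ∈ B.D i) (hd : d ∈ B.D i)
    (hind : ∀ s r : F, s • x + r • d = 0 → s = 0 ∧ r = 0) {z : V} (hz : z ∈ B.D i) :
    ∃ s r : F, z = s • x + r • d := by
  have hli : LinearIndependent F ![x, d] := LinearIndependent.pair_iff.mpr hind
  haveI : FiniteDimensional F (B.D i) := Module.finite_of_finrank_eq_succ (B.rank i)
  have hle : Submodule.span F (Set.range ![x, d]) ≤ B.D i := by
    rw [Submodule.span_le]
    rintro _ ⟨m, rfl⟩
    fin_cases m <;> assumption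
  have he : Submodule.span F (Set.range ![x, d]) = B.D i := by
    refine Submodule.eq_of_le_of_finrank_le hle ?_
    rw [finrank_span_eq_card hli, B.rank i, Fintype.card_fin]
  rw [← he, Submodule.mem_span_range_iff_exists_fun] at hz
  obtain ⟨c, hc⟩ := hz
  exact ⟨c 0, c 1, by rw [← hc, Fin.sum_univ_two]; simp⟩

/-- A dual vector independent of a given one. -/
theorem Planes.exists_dual {i : Fin t} {x : V} (hx : x ∈ B.D i) (hx0 : x ≠ 0) :
    ∃ d ∈ B.D i, polar Q x d = 1 ∧ ∀ s r : F, s • x + r • d = 0 → s = 0 ∧ r = 0 := by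
  obtain ⟨y, hy, hyx⟩ : ∃ y ∈ B.D i, y ∉ Submodule.span F {x} := by
    by_contra hcon
    push Not at hcon
    haveI : FiniteDimensional F (Submodule.span F ({x} : Set V)) := inferInstance
    have h := Submodule.finrank_mono (show B.D i ≤ Submodule.span F {x} from hcon)
    rw [B.rank i, finrank_span_singleton hx0] at h
    omega
  obtain ⟨d, hd, hdx, hpd⟩ : ∃ d ∈ B.D i, d ∉ Submodule.span F {x} ∧ polar Q x d ≠ 0 := by
    by_cases hy0 : polar Q x y = 0
    swap
    · exact ⟨y, hy, hyx, hy0⟩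
    obtain ⟨z, hz, hxz⟩ := B.nd i x hx hx0
    by_cases hzx : z ∈ Submodule.span F {x}
    · refine ⟨z + y, add_mem hz hy, fun h => hyx ?_, by rwa [polar_add_right, hy0, add_zero]⟩
      simpa using sub_mem h hzx
    · exact ⟨z, hz, hzx, hxz⟩
  refine ⟨(polar Q x d)⁻¹ • d, (B.D i).smul_mem _ hd, by
    rw [polar_smul_right, smul_eq_mul, inv_mul_cancel₀ hpd], fun s r hsr => ?_⟩
  have hr : r = 0 := by
    by_contra hr
    refine hdx (((Submodule.span F {x}).smul_mem_iff (mul_ne_zero hr (inv_ne_zero hpd))).mp ?_)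
    rw [mul_smul, eq_neg_of_add_eq_zero_right hsr]
    exact neg_mem (Submodule.smul_mem _ _ (Submodule.mem_span_singleton_self x))
  rw [hr, zero_smul, add_zero, smul_eq_zero] at hsr
  exact ⟨hsr.resolve_right hx0, hr⟩

theorem val_comb (s r : F) (x d : V) :
    Q (s • x + r • d) = s * s * Q x + r * r * Q d + s * r * polar Q x d := by
  rw [OCount.map_two, QuadraticMap.map_smul, QuadraticMap.map_smul, polar_smul_left, polar_smul_right]
  simp only [smul_eq_mul]
  ring

/-- A singular vector of a plane orthogonal to an anisotropic one is zero. -/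
theorem Planes.perp_singular {i : Fin t} {c z : V} (hc : c ∈ B.D i) (hcc : Q c ≠ 0) (hz : z ∈ B.D i)
    (hzz : Q z = 0) (h : polar Q c z = 0) : z = 0 := by
  by_contra hz0
  have hind : ∀ s r : F, s • c + r • z = 0 → s = 0 ∧ r = 0 := fun s r e => by
    have h1 := congrArg Q e
    rw [val_comb, hzz, h, QuadraticMap.map_zero] at h1
    have hs : s = 0 := mul_self_eq_zero.mp ((mul_eq_zero.mp (by linear_combination h1 :
      s * s * Q c = 0)).resolve_right hcc)
    rw [hs, zero_smul, zero_add, smul_eq_zero] at e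
    exact ⟨hs, e.resolve_right hz0⟩
  obtain ⟨y, hy, hne⟩ := B.nd i z hz hz0
  obtain ⟨s, r, rfl⟩ := B.span_two hc hz hind hy
  refine hne ?_
  rw [polar_add_right, polar_smul_right, polar_smul_right, polar_comm Q z c, h, polar_self_zero hzz]
  simp

/-- A vector of a plane with anisotropic value and the same polar as itself is a sign. -/
theorem Planes.eq_of_polar_two {i : Fin t} {c d : V} (hc : c ∈ B.D i) (hd : d ∈ B.D i) (hcc : Q c ≠ 0)
    (hcd : Q d = Q c) {s : F} (hs : s * s = 1) (h : polar Q c d = 2 * s * Q c) : d = s • c := by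
  rw [← sub_eq_zero]
  refine B.perp_singular hc hcc (sub_mem hd ((B.D i).smul_mem _ hc)) ?_ ?_
  · rw [map_sub_two, QuadraticMap.map_smul, polar_smul_right, polar_comm Q d c, h, hcd, smul_eq_mul, smul_eq_mul]
    linear_combination -(Q c) * hs
  · rw [polar_sub_right, polar_smul_right, h, polar_self_two, smul_eq_mul]; ring

/-- An anisotropic vector orthogonal to an anisotropic one. -/
theorem Planes.exists_perp {i : Fin t} {x : V} (hx : x ∈ B.D i) (hxx : Q x ≠ 0) :
    ∃ a ∈ B.D i, polar Q x a = 0 ∧ Q a ≠ 0 := by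
  have hx0 : x ≠ 0 := fun e => hxx (by rw [e, QuadraticMap.map_zero])
  obtain ⟨d, hd, hxd, hind⟩ := B.exists_dual hx hx0
  refine ⟨(1 : F) • x + (-2 * Q x) • d, add_mem ((B.D i).smul_mem _ hx) ((B.D i).smul_mem _ hd), ?_, fun h => ?_⟩
  · rw [polar_add_right, polar_smul_right, polar_smul_right, hxd, polar_self_two]
    simp
  · refine one_ne_zero (hind _ _ (B.perp_singular hx hxx
      (add_mem ((B.D i).smul_mem _ hx) ((B.D i).smul_mem _ hd)) h ?_)).1
    rw [polar_add_right, polar_smul_right, polar_smul_right, hxd, polar_self_two]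
    simp

/-- Where the component is zero or anisotropic, an anisotropic vector is orthogonal to the vector. -/
theorem Planes.exists_toggle (u : V) {k : Fin t} (h : B.pr k u = 0 ∨ Q (B.pr k u) ≠ 0) {x : V} (hx : x ∈ B.D k)
    (hxx : Q x ≠ 0) : ∃ a ∈ B.D k, Q a ≠ 0 ∧ polar Q u a = 0 := by
  rcases h with h | h
  · exact ⟨x, hx, hxx, by rw [B.polar_pr hx, h, polar_zero_left]⟩
  · obtain ⟨a, ha, hp, haa⟩ := B.exists_perp (B.pr_mem k u) h
    exact ⟨a, ha, haa, by rw [B.polar_pr ha, hp]⟩

/-- Planes with singular vectors are hyperbolic. -/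
theorem Planes.exists_hyp (h : ¬ B.Aniso) (i : Fin t) :
    ∃ e f, e ∈ B.D i ∧ f ∈ B.D i ∧ Q e = 0 ∧ Q f = 0 ∧ polar Q e f = 1 ∧
      ∀ z ∈ B.D i, ∃ s r : F, z = s • e + r • f := by
  simp only [Planes.Aniso, not_forall] at h
  obtain ⟨j, x, hx, hxx, hx0⟩ := h
  obtain ⟨φ, hφ⟩ := B.iso j i
  obtain ⟨e, he, hee, he0⟩ : ∃ e ∈ B.D i, Q e = 0 ∧ e ≠ 0 :=
    ⟨φ ⟨x, hx⟩, (φ _).2, by rw [hφ]; exact hxx, fun e => hx0 (congrArg Subtype.val
      (φ.injective ((Subtype.ext e : φ ⟨x, hx⟩ = 0).trans φ.map_zero.symm) : (⟨x, hx⟩ : B.D j) = 0))⟩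
  obtain ⟨d, hd, hed, hind⟩ := B.exists_dual he he0
  obtain ⟨f, hf⟩ : ∃ f, f = (-Q d) • e + (1 : F) • d := ⟨_, rfl⟩
  have hfD : f ∈ B.D i := hf ▸ add_mem ((B.D i).smul_mem _ he) ((B.D i).smul_mem _ hd)
  refine ⟨e, f, he, hfD, hee, ?_, ?_, fun z hz => B.span_two he hfD (fun s r hsr => ?_) hz⟩
  · rw [hf, val_comb, hee, hed]; ring
  · rw [hf, polar_add_right, polar_smul_right, polar_smul_right, hed, polar_self_zero hee]; simp
  · obtain ⟨h1, h2⟩ := hind (s + r * -Q d) r (by rw [← hsr, hf]; module)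
    exact ⟨by linear_combination h1 + Q d * h2, h2⟩

/-- A reflection-generated move between vectors of equal value. -/
theorem Planes.exists_move {i : Fin t} {x x' : V} (hx : x ∈ B.D i) (hx' : x' ∈ B.D i) (hxx : Q x ≠ 0)
    (h : Q x' = Q x) :
    ∃ g ∈ Subgroup.closure {g | ∃ v ∈ B.D i, Q v ≠ 0 ∧ g = rf Q v}, (g : ↥(Iso Q)).1 x = x' := by
  have gen : ∀ {v}, v ∈ B.D i → Q v ≠ 0 →
      rf Q v ∈ Subgroup.closure {g | ∃ v ∈ B.D i, Q v ≠ 0 ∧ g = rf Q v} :=
    fun hv hvv => Subgroup.subset_closure ⟨_, hv, hvv, rfl⟩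
  by_cases h1 : Q (x - x') = 0
  swap
  · exact ⟨rf Q (x - x'), gen (sub_mem hx hx') h1, refl_sub_apply (x := x') (y := x) h.symm h1⟩
  have hp : polar Q x x' = 2 * Q x := by rw [map_sub_two, h] at h1; linear_combination -h1
  refine ⟨1, one_mem _, ?_⟩
  have := B.eq_of_polar_two hx hx' hxx h (s := 1) (one_mul 1) (by rw [hp]; ring)
  rw [this, one_smul]; rfl

/-- The singular vectors of a hyperbolic plane are moved to each other by reflections. -/
theorem Planes.move_singular {i : Fin t} {e f : V} (he : e ∈ B.D i) (hf : f ∈ B.D i) (hee : Q e = 0) (hff : Q f = 0)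
    (hef : polar Q e f = 1) {ν : F} (hν : ν ≠ 0) :
    ∃ v ∈ B.D i, Q v ≠ 0 ∧ (rf Q v).1 e = ν • f ∧ (rf Q v).1 (ν • f) = e := by
  have hv : Q (e - ν • f) ≠ 0 := by
    rw [map_sub_two, QuadraticMap.map_smul, hee, hff, polar_smul_right, hef, smul_eq_mul, smul_eq_mul]
    simpa using hν
  have h1 : refl Q (e - ν • f) e = ν • f :=
    refl_sub_apply (x := ν • f) (y := e) (by rw [QuadraticMap.map_smul, hee, hff, smul_zero]) hv
  refine ⟨e - ν • f, sub_mem he ((B.D i).smul_mem _ hf), hv, h1, ?_⟩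
  have h2 := congrArg (refl Q (e - ν • f)) h1
  rw [show refl Q (e - ν • f) (refl Q (e - ν • f) e) = e from (refl Q (e - ν • f)).symm_apply_apply e] at h2
  exact h2.symm

section Count

variable [Fintype F]

/-- The scalars reached by the products of a component with the anisotropic directions of its plane. -/
noncomputable def Planes.cset (i : Fin t) (x : V) : Finset F := by
  classical exact Finset.univ.filter fun c => ∃ w ∈ B.D i, Q w = c ∧ polar Q x w = c

theorem Planes.mem_cset {i : Fin t} {x : V} {c : F} :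
    c ∈ B.cset i x ↔ ∃ w ∈ B.D i, Q w = c ∧ polar Q x w = c := by
  classical simp [Planes.cset]

theorem Planes.zero_mem_cset (i : Fin t) (x : V) : (0 : F) ∈ B.cset i x :=
  B.mem_cset.mpr ⟨0, (B.D i).zero_mem, QuadraticMap.map_zero Q, polar_zero_right Q x⟩

theorem Planes.card_cset (hA : B.Aniso) {i : Fin t} {x : V} (hx : x ∈ B.D i) (hx0 : x ≠ 0) :
    Fintype.card F + 2 ≤ 2 * (B.cset i x).card := by
  classical
  have hxx : Q x ≠ 0 := fun e => hx0 (hA i x hx e)
  obtain ⟨d, hd, hxd, hind⟩ := B.exists_dual hx hx0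
  have hv : ∀ s : F, Q (s • x + d) ≠ 0 := fun s e => by
    have h0 := hA i _ (add_mem ((B.D i).smul_mem s hx) hd) e
    exact one_ne_zero (hind s 1 (by rw [one_smul]; exact h0)).2
  have hQv : ∀ s : F, Q (s • x + d) = Q x * s * s + s + Q d := fun s => by
    rw [← one_smul F d, val_comb, hxd, one_smul]; ring
  have hB : ∀ s : F, polar Q x (s • x + d) = 2 * Q x * s + 1 := fun s => by
    rw [polar_add_right, polar_smul_right, hxd, polar_self_two, smul_eq_mul]; ring
  obtain ⟨φ, hφ⟩ : ∃ φ : F → F, φ = fun s => (2 * Q x * s + 1) ^ 2 / Q (s • x + d) := ⟨_, rfl⟩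
  have hφe : ∀ s, φ s * (Q x * s * s + s + Q d) = (2 * Q x * s + 1) ^ 2 := fun s => by
    rw [hφ, ← hQv]; exact div_mul_cancel₀ _ (hv s)
  -- the exceptional value is attained only by the vector itself
  have hdisc : 4 * Q x * Q d ≠ 1 := fun e => by
    have h0 : Q ((1 : F) • x + (-2 * Q x) • d) = 0 := by
      rw [val_comb, hxd]; linear_combination Q x * e
    exact one_ne_zero (hind _ _ (hA i _ (add_mem ((B.D i).smul_mem _ hx) ((B.D i).smul_mem _ hd)) h0)).1
  have hne : ∀ s, φ s ≠ 4 * Q x := fun s e => hdisc (by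
    have := hφe s
    rw [e] at this
    linear_combination this)
  have hfib : ∀ c ∈ Finset.univ.image φ, (Finset.univ.filter fun s => φ s = c).card ≤ 2 := by
    intro c hc
    obtain ⟨s₀, -, rfl⟩ := Finset.mem_image.mp hc
    obtain ⟨k, hk⟩ : ∃ k, k = 4 * Q x - φ s₀ := ⟨_, rfl⟩
    have hk0 : Q x * k ≠ 0 := hk ▸ mul_ne_zero hxx (sub_ne_zero.mpr (Ne.symm (hne s₀)))
    refine (Finset.card_le_card (show _ ⊆ ({s₀, -(Q x)⁻¹ - s₀} : Finset F) from fun s hs => ?_)).trans
      Finset.card_le_two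
    have e1 : φ s = φ s₀ := (Finset.mem_filter.mp hs).2
    have h1 := hφe s
    rw [e1] at h1
    have h0 := hφe s₀
    have h2 : (s - s₀) * (Q x * (s + s₀) + 1) * k = 0 := by rw [hk]; linear_combination -h1 + h0
    rcases mul_eq_zero.mp ((mul_eq_zero.mp h2).resolve_right (right_ne_zero_of_mul hk0)) with h3 | h3
    · exact Finset.mem_insert.mpr (Or.inl (sub_eq_zero.mp h3))
    · refine Finset.mem_insert.mpr (Or.inr (Finset.mem_singleton.mpr ?_))
      field_simp
      linear_combination h3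
  have hcard := Finset.card_le_mul_card_image (f := φ) Finset.univ 2 hfib
  rw [Finset.card_univ] at hcard
  have hsub : insert (4 * Q x) (Finset.univ.image φ) ⊆ B.cset i x := by
    intro c hc
    rw [B.mem_cset]
    rcases Finset.mem_insert.mp hc with rfl | hc
    · refine ⟨(2 : F) • x, (B.D i).smul_mem _ hx, ?_, ?_⟩
      · rw [QuadraticMap.map_smul, smul_eq_mul]; ring
      · rw [polar_smul_right, polar_self_two, smul_eq_mul]; ring
    · obtain ⟨s, -, rfl⟩ := Finset.mem_image.mp hc
      refine ⟨((2 * Q x * s + 1) / Q (s • x + d)) • (s • x + d),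
        (B.D i).smul_mem _ (add_mem ((B.D i).smul_mem s hx) hd), ?_, ?_⟩
      · have := hv s
        rw [QuadraticMap.map_smul, smul_eq_mul, hφ]; field_simp
      · have := hv s
        rw [polar_smul_right, hB, smul_eq_mul, hφ]; field_simp
  have h1 := Finset.card_le_card hsub
  rw [Finset.card_insert_of_notMem (fun h => by
    obtain ⟨s, -, hs⟩ := Finset.mem_image.mp h; exact hne s hs)] at h1
  omega

variable [Finite V]

/-- The vectors of given value in a plane. -/
noncomputable def Planes.circ (i : Fin t) (a : F) : Finset (B.D i) := by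
  classical
  haveI := Fintype.ofFinite (B.D i)
  exact Finset.univ.filter fun x => Q (x : V) = a

theorem Planes.mem_circ {i : Fin t} {a : F} {x : B.D i} : x ∈ B.circ i a ↔ Q (x : V) = a := by
  classical simp [Planes.circ]

theorem Planes.card_circ_le (hA : B.Aniso) (i : Fin t) {a : F} (ha : a ≠ 0) :
    (B.circ i a).card ≤ Fintype.card F + 1 := by
  classical
  rcases (B.circ i a).eq_empty_or_nonempty with h | ⟨⟨x, hx⟩, hxa⟩
  · rw [h, Finset.card_empty]; omega
  rw [B.mem_circ] at hxa
  obtain ⟨d, hd, hxd, hind⟩ := B.exists_dual hx (fun e => ha (hxa.symm.trans ((congrArg Q e).trans (QuadraticMap.map_zero Q))))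
  have hsub : B.circ i a ⊆ (Finset.univ : Finset (Option F)).image fun o =>
      (o.elim ⟨-x, neg_mem hx⟩ fun s => ⟨refl Q (s • x + d) x, by
        rw [refl_apply]; exact sub_mem hx ((B.D i).smul_mem _ (add_mem ((B.D i).smul_mem s hx) hd))⟩ : B.D i) := by
    rintro ⟨y, hy⟩ hya
    rw [B.mem_circ] at hya
    rw [Finset.mem_image]
    by_cases hyx : y = x
    · subst hyx
      by_cases h2 : (2 : F) = 0
      · refine ⟨none, Finset.mem_univ _, Subtype.ext ?_⟩
        show -y = y
        rw [← sub_eq_zero, show -y - y = -((2 : F) • y) by module, h2, zero_smul, neg_zero]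
      · refine ⟨some (-(2 * Q y)⁻¹), Finset.mem_univ _, Subtype.ext (refl_fix ?_)⟩
        rw [polar_add_left, polar_smul_left, polar_self_two, polar_comm Q d y, hxd, smul_eq_mul, neg_mul,
          inv_mul_cancel₀ (mul_ne_zero h2 (hxa.trans_ne ha)), neg_add_cancel]
    obtain ⟨s, r, hsr⟩ := B.span_two hx hd hind (sub_mem hx hy)
    have hv0 : Q (x - y) ≠ 0 := fun e => hyx (sub_eq_zero.mp (hA i _ (sub_mem hx hy) e)).symm
    have hmap : refl Q (x - y) x = y := refl_sub_apply (x := y) (y := x) (hxa.trans hya.symm) hv0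
    by_cases hr : r = 0
    · refine ⟨none, Finset.mem_univ _, Subtype.ext ?_⟩
      show -x = y
      rw [← hmap, hsr, hr, zero_smul, add_zero, refl_smul, refl_self (hxa.trans_ne ha)]
      intro hs
      exact hv0 (by rw [hsr, hs, hr, zero_smul, zero_smul, add_zero, QuadraticMap.map_zero])
    · refine ⟨some (s / r), Finset.mem_univ _, Subtype.ext ?_⟩
      show refl Q ((s / r) • x + d) x = y
      rw [← hmap, hsr, ← refl_smul (inv_ne_zero hr) (s • x + r • d), smul_add, smul_smul, smul_smul,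
        inv_mul_cancel₀ hr, one_smul, div_eq_inv_mul]
  refine (Finset.card_le_card hsub).trans (Finset.card_image_le.trans ?_)
  rw [Finset.card_univ, Fintype.card_option]

theorem Planes.card_circ (hA : B.Aniso) (i : Fin t) {a : F} (ha : a ≠ 0) :
    (B.circ i a).card = Fintype.card F + 1 := by
  classical
  haveI := Fintype.ofFinite (B.D i)
  refine le_antisymm (B.card_circ_le hA i ha) ?_
  have h0 := Finset.card_eq_sum_card_fiberwise (s := (Finset.univ : Finset (B.D i)).erase 0)
    (t := (Finset.univ : Finset F).erase 0) (f := fun x : B.D i => Q (x : V)) fun (x : B.D i) hx =>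
    Finset.mem_erase.mpr ⟨fun e => (Finset.mem_erase.mp hx).1 (Subtype.ext (hA i _ x.2 e)), Finset.mem_univ _⟩
  rw [Finset.card_erase_of_mem (Finset.mem_univ _), Finset.card_univ, Module.card_eq_pow_finrank (K := F), B.rank i] at h0
  have h1 : ∀ b ∈ (Finset.univ : Finset F).erase 0,
      (((Finset.univ : Finset (B.D i)).erase 0).filter fun x : B.D i => Q (x : V) = b) = B.circ i b := fun b hb => by
    ext x
    simp only [Finset.mem_filter, Finset.mem_erase, Finset.mem_univ, and_true, B.mem_circ, and_iff_right_iff_imp]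
    rintro rfl rfl
    exact (Finset.mem_erase.mp hb).1 (QuadraticMap.map_zero Q)
  rw [Finset.sum_congr rfl fun b hb => congrArg Finset.card (h1 b hb), ← Finset.add_sum_erase _ _
    (Finset.mem_erase.mpr ⟨ha, Finset.mem_univ a⟩)] at h0
  have h2 := Finset.sum_le_card_nsmul (((Finset.univ : Finset F).erase 0).erase a) (fun b => (B.circ i b).card)
    (Fintype.card F + 1) fun b hb => B.card_circ_le hA i (Finset.mem_erase.mp (Finset.mem_of_mem_erase hb)).1
  rw [Finset.card_erase_of_mem (Finset.mem_erase.mpr ⟨ha, Finset.mem_univ a⟩),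
    Finset.card_erase_of_mem (Finset.mem_univ _), Finset.card_univ, smul_eq_mul] at h2
  obtain ⟨m, hm⟩ := Nat.exists_eq_add_of_le (Fintype.one_lt_card (α := F) : 2 ≤ Fintype.card F)
  rw [hm] at h0 h2 ⊢
  have e1 : (2 + m) ^ 2 - 1 = (m + 1) * (m + 3) := by
    have : (2 + m) ^ 2 = (m + 1) * (m + 3) + 1 := by ring
    omega
  rw [e1] at h0
  rw [show 2 + m - 1 - 1 = m by omega] at h2
  nlinarith

end Count

end Cfsg.Agent.Classical.OPlanes
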