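import Cfsg.Agent.Lib.Classical.OPlanes.GeoPlanes
import Cfsg.Agent.Lib.Classical.LinMaximalGeneral

/-!
# Decompositions into planes of plus type
-/

set_option autoImplicit false

namespace Cfsg.Agent.Classical.OPlanes

open Module QuadraticMap OCount

variable {F : Type*} [Field F] [Fintype F] {ι : Type} [Fintype ι] [DecidableEq ι] {Q : QuadraticForm F (ι → F)}

/-- Orthogonal planes of plus type span a space of plus type. -/
theorem plus_of_members {t : ℕ} {D : Fin t → Submodule F (ι → F)} (hD : Cfsg.Geo.IsOrthogonalMDecomposition ⇑Q 2 D)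
    (hall : ∀ i, Cfsg.Geo.IsPlusTypeOn ⇑Q (D i)) : Cfsg.Geo.IsPlusTypeOn ⇑Q ⊤ := by
  classical
  choose U hU hsing hrank using hall
  have hd := hD.decomp.decomp
  refine ⟨⨆ i, U i, le_top, fun x hx => ?_, ?_⟩
  · suffices h : ∀ x ∈ ⨆ i, U i, x ∈ (⨆ i, U i) ∧ Q x = 0 ∧ ∀ y ∈ ⨆ i, U i, polar Q x y = 0 from (h x hx).2.1
    have horth : ∀ i, ∀ x ∈ U i, ∀ y ∈ ⨆ i, U i, polar Q x y = 0 := by
      intro i x hx y hy
      refine Submodule.iSup_induction U (motive := fun y => polar Q x y = 0) hy (fun j z hz => ?_)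
        (polar_zero_right Q x) fun z z' h h' => by rw [polar_add_right, h, h', add_zero]
      by_cases hij : i = j
      · subst hij
        rw [polar, hsing i _ (add_mem hx hz), hsing i x hx, hsing i z hz, sub_zero, sub_zero]
      · exact hD.decomp.orthogonal i j hij x (hU i hx) z (hU j hz)
    intro x hx
    refine Submodule.iSup_induction U (motive := fun x => x ∈ (⨆ i, U i) ∧ Q x = 0 ∧ ∀ y ∈ ⨆ i, U i, polar Q x y = 0) hx
      (fun i z hz => ⟨Submodule.mem_iSup_of_mem i hz, hsing i z hz, horth i z hz⟩)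
      ⟨zero_mem _, QuadraticMap.map_zero Q, fun y _ => polar_zero_left Q y⟩
      fun z z' h h' => ⟨add_mem h.1 h'.1, ?_, fun y hy => by rw [polar_add_left, h.2.2 y hy, h'.2.2 y hy, add_zero]⟩
    rw [OCount.map_two, h.2.1, h'.2.1, h.2.2 z' h'.1, add_zero, add_zero]
  · rw [finrank_iSup_of_indep U (hd.indep.mono hU), finrank_top, Module.finrank_fintype_fun_eq_card, ← Cfsg.Agent.Classical.IsMDecomposition.card_eq hd,
      Finset.mul_sum]
    rw [Finset.sum_congr rfl fun i _ => (hrank i).trans (hd.finrank_eq i), Finset.sum_const, Finset.card_univ,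
      Fintype.card_fin, smul_eq_mul]

end Cfsg.Agent.Classical.OPlanes
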