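import Cfsg.Agent.Lib.Classical.OPlanes.Seed

/-!
# A subgroup normalised by all reflections of the planes
-/

set_option autoImplicit false
set_option linter.unusedSectionVars false

namespace Cfsg.Agent.Classical.OPlanes

open Module QuadraticMap OCount ORefl OOmega

variable {F : Type*} [Field F] [Fintype F] {V : Type*} [AddCommGroup V] [Module F V] [Finite V]
  [FiniteDimensional F V] {Q : QuadraticForm F V} {t : ℕ}
variable {B : Planes Q t} {H J : Subgroup ↥(Iso Q)}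

/-- The members of a subgroup whose conjugate by a reflection is a member. -/
noncomputable def conjInf (H : Subgroup ↥(Iso Q)) (v : V) : Subgroup ↥(Iso Q) :=
  H ⊓ H.comap (MulAut.conj (rf Q v)).toMonoidHom

theorem mem_conjInf {v : V} {x : ↥(Iso Q)} : x ∈ conjInf H v ↔ x ∈ H ∧ rf Q v * x * rf Q v ∈ H := by
  simp [conjInf, Subgroup.mem_inf, rf_inv]

theorem conjInf_conj {v : V} {x : ↥(Iso Q)} (h : x ∈ conjInf H v) : rf Q v * x * rf Q v ∈ conjInf H v := by
  rw [mem_conjInf] at h ⊢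
  refine ⟨h.2, ?_⟩
  rw [show rf Q v * (rf Q v * x * rf Q v) * rf Q v = (rf Q v * rf Q v) * x * (rf Q v * rf Q v) by group, rf_mul_self,
    one_mul, mul_one]
  exact h.1

theorem Planes.Adm.conjInf (S : B.Adm H) {v : V} (hv : B.Ax v) : B.Adm (OPlanes.conjInf H v) where
  ok := S.ok
  le := inf_le_left.trans S.le
  st g hg hst := by
    obtain ⟨-, i, hi⟩ := hv
    refine mem_conjInf.mpr ⟨S.st g hg hst, S.st _ ?_ (((B.isSt_rf hi).mul B hst).mul B (B.isSt_rf hi))⟩
    have h := (inferInstance : (commutator ↥(Iso Q)).Normal).conj_mem _ hg (rf Q v)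
    rwa [rf_inv] at h

/-- A subgroup is normalised by the reflection in an axis vector. -/
def NormBy (J : Subgroup ↥(Iso Q)) (v : V) : Prop := ∀ x ∈ J, rf Q v * x * rf Q v ∈ J

/-- Being normalised depends on the value up to squares only. -/
theorem Planes.Adm.normBy (S : B.Adm J) {v w : V} (hv : B.Ax v) (h : NormBy J v) (hw : B.Ax w)
    (hs : IsSquare (Q w / Q v)) : NormBy J w := by
  obtain ⟨hww, i, hi⟩ := hw
  obtain ⟨s, hs⟩ := hs
  have hs' : Q w = s * s * Q v := by rw [← hs, div_mul_cancel₀ _ hv.1]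
  have hs0 : s ≠ 0 := fun e => hww (by rw [hs', e]; simp)
  obtain ⟨u, hu⟩ : ∃ u, u = s⁻¹ • w := ⟨_, rfl⟩
  have huv : Q u = Q v := by rw [hu, QuadraticMap.map_smul, hs', smul_eq_mul]; field_simp
  have hp : rf Q u * rf Q v ∈ J := S.rf_pair ⟨huv.trans_ne hv.1, i, hu ▸ (B.D i).smul_mem _ hi⟩ hv huv.symm
  intro x hx
  rw [show rf Q w = rf Q u by rw [hu, rf_smul (inv_ne_zero hs0)],
    show rf Q u * x * rf Q u = rf Q u * (rf Q v * rf Q v) * x * (rf Q u * (rf Q v * rf Q v))⁻¹ by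
      rw [rf_mul_self, mul_one, rf_inv],
    show rf Q u * (rf Q v * rf Q v) * x * (rf Q u * (rf Q v * rf Q v))⁻¹ =
      (rf Q u * rf Q v) * (rf Q v * x * (rf Q v)⁻¹) * (rf Q u * rf Q v)⁻¹ by group, rf_inv]
  exact mul_mem (mul_mem hp (h x hx)) (inv_mem hp)

/-- A vector of value equal to the one of `c` whose reflection lies in the extension of `J`. -/
def InR (J : Subgroup ↥(Iso Q)) (c r : V) : Prop := Q r = Q c ∧ rf Q r * rf Q c ∈ J

theorem InR.pair {c r r' : V} (h : InR J c r) (h' : InR J c r') : rf Q r * rf Q r' ∈ J := by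
  have h3 := mul_mem h.2 (inv_mem h'.2)
  rwa [show rf Q r * rf Q c * (rf Q r' * rf Q c)⁻¹ = rf Q r * (rf Q r')⁻¹ by group, rf_inv] at h3

theorem Planes.Adm.inR_axis (S : B.Adm J) {c a : V} (hc : B.Ax c) (ha : B.Ax a) (h : Q a = Q c) : InR J c a :=
  ⟨h, S.rf_pair ha hc h.symm⟩

theorem Planes.Adm.inR_refl (S : B.Adm J) {c a r : V} (hc : B.Ax c) (ha : B.Ax a) (h : Q a = Q c) (hr : InR J c r) :
    InR J c ((rf Q r).1 a) ∧ InR J c ((rf Q a).1 r) := by
  have hac := S.rf_pair ha hc h.symm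
  refine ⟨⟨((rf Q r).2 a).trans h, ?_⟩, ⟨((rf Q a).2 r).trans hr.1, ?_⟩⟩
  · rw [← conj_rf, rf_inv,
      show rf Q r * rf Q a * rf Q r * rf Q c = (rf Q r * rf Q c) * ((rf Q c)⁻¹ * rf Q a) * (rf Q r * rf Q c) by group,
      show (rf Q c)⁻¹ * rf Q a = (rf Q a * rf Q c)⁻¹ by rw [mul_inv_rev, rf_inv, rf_inv]]
    exact mul_mem (mul_mem hr.2 (inv_mem hac)) hr.2
  · rw [← conj_rf, rf_inv,
      show rf Q a * rf Q r * rf Q a * rf Q c = (rf Q a * rf Q c) * ((rf Q c)⁻¹ * rf Q r) * (rf Q a * rf Q c) by group,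
      show (rf Q c)⁻¹ * rf Q r = (rf Q r * rf Q c)⁻¹ by rw [mul_inv_rev, rf_inv, rf_inv]]
    exact mul_mem (mul_mem hac (inv_mem hr.2)) hac

/-- A member with a vector orthogonal to an axis gives one fixing that axis. -/
theorem Planes.Adm.fix_of_perp (S : B.Adm J) {c r e : V} (hc : B.Ax c) (hr : InR J c r) (hrn : ∀ j, r ∉ B.D j)
    (he : B.Ax e) (hre : polar Q r e = 0) : ∃ x ∈ J, ¬ B.IsSt x ∧ x.1 e = e := by
  classical
  obtain ⟨hee, k, hek⟩ := he
  obtain ⟨p, hp⟩ : ∃ p, B.pr p r ≠ 0 := by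
    by_contra hcon
    push Not at hcon
    exact hrn k (B.mem_of_supp fun j _ => hcon j)
  obtain ⟨q, hqp, hq⟩ : ∃ q, q ≠ p ∧ B.pr q r ≠ 0 := by
    by_contra hcon
    push Not at hcon
    exact hrn p (B.mem_of_supp hcon)
  obtain ⟨l, -, hl⟩ := Finset.exists_mem_notMem_of_card_lt_card (s := ({p, q, k} : Finset (Fin t))) (t := Finset.univ)
    (Finset.card_le_three.trans_lt (by rw [Finset.card_univ, Fintype.card_fin]; have := B.five; omega))
  simp only [Finset.mem_insert, Finset.mem_singleton, not_or] at hl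
  obtain ⟨c', hc', hc'v⟩ := B.exists_value S.ok.weak l hc.1
  have hc'0 : c' ≠ 0 := fun h => hc.1 (by rw [← hc'v, h, QuadraticMap.map_zero])
  have hax : B.Ax c' := ⟨hc'v.trans_ne hc.1, l, hc'⟩
  refine ⟨rf Q r * rf Q c', hr.pair (S.inR_axis hc hax hc'v), fun hst => ?_, ?_⟩
  · obtain ⟨s, s', h1, h2⟩ := B.small_of_isSt (hr.1.trans_ne hc.1) hax.1 (fun a b h => by
      have h3 := congrArg (B.pr p) h
      rw [map_add, map_smul, map_smul, B.pr_ne (Ne.symm hl.1) hc', smul_zero, add_zero, map_zero,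
        smul_eq_zero] at h3
      have ha : a = 0 := h3.resolve_right hp
      rw [ha, zero_smul, zero_add, smul_eq_zero] at h
      exact ⟨ha, h.resolve_right hc'0⟩) hst
    have hmem : ∀ z : V, z ∈ B.D s ⊔ B.D s' → ∀ i, B.pr i z ≠ 0 → i = s ∨ i = s' := fun z hz i hi => by
      by_contra hne
      push Not at hne
      exact hi (B.pr_pair_zero hz hne.1 hne.2)
    have := hmem r h1 p hp
    have := hmem r h1 q hq
    have := hmem c' h2 l (by rwa [B.pr_self hc'])
    grind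
  · show refl Q r (refl Q c' e) = e
    rw [refl_fix (B.orth l k hl.2.2 _ hc' _ hek), refl_fix hre]

/-- A singular vector of a plane in a hyperbolic pair. -/
theorem Planes.exists_mate (B : Planes Q t) {k : Fin t} {z : V} (hz : z ∈ B.D k) (hz0 : z ≠ 0) (hzz : Q z = 0) :
    ∃ f ∈ B.D k, Q f = 0 ∧ polar Q z f = 1 := by
  obtain ⟨d, hd, hzd, -⟩ := B.exists_dual hz hz0
  refine ⟨(-Q d) • z + (1 : F) • d, add_mem ((B.D k).smul_mem _ hz) ((B.D k).smul_mem _ hd), ?_, ?_⟩
  · rw [val_comb, hzz, hzd]; ring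
  · rw [polar_add_right, polar_smul_right, polar_smul_right, hzd, polar_self_zero hzz]; simp

/-- Many vectors of each value in each plane. -/
theorem Planes.five_le_circ (B : Planes Q t) (hok : B.Ok) (h2 : (2 : F) ≠ 0) (i : Fin t) {a : F} (ha : a ≠ 0) :
    5 ≤ (B.circ i a).card := by
  classical
  have hq := four_le_card B hok h2
  by_cases hA : B.Aniso
  · rw [B.card_circ hA i ha]; omega
  have h7 : 7 ≤ Fintype.card F := by
    rcases hok with h | h
    · exact absurd h.1 hA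
    · exact h.2
  obtain ⟨e, f, he, hf, hee, hff, hef, -⟩ := B.exists_hyp hA i
  obtain ⟨φ, hφ⟩ : ∃ φ : F → B.D i, φ = fun s =>
      ⟨s • e + (a / s) • f, add_mem ((B.D i).smul_mem _ he) ((B.D i).smul_mem _ hf)⟩ := ⟨_, rfl⟩
  have h := Finset.card_le_card_of_injOn φ (s := (Finset.univ : Finset F).erase 0) (t := B.circ i a)
    (fun s hs => by
      have hs0 : s ≠ 0 := (Finset.mem_erase.mp hs).1
      show φ s ∈ B.circ i a
      rw [B.mem_circ, hφ]
      show Q (s • e + (a / s) • f) = a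
      rw [val_comb, hee, hff, hef]; field_simp; ring)
    (fun s _ r _ h => by
      have h1 := congrArg (fun z : B.D i => polar Q (z : V) f) h
      simpa [hφ, polar_add_left, polar_smul_left, hef, polar_self_zero hff] using h1)
  rw [Finset.card_erase_of_mem (Finset.mem_univ _), Finset.card_univ] at h
  omega

/-- A vector of given value not orthogonal to two given ones. -/
theorem Planes.exists_value_avoid (B : Planes Q t) (hok : B.Ok) (h2 : (2 : F) ≠ 0) {i : Fin t} {a : F} (ha : a ≠ 0)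
    {z z' : V} (hz : B.pr i z ≠ 0) (hz' : B.pr i z' ≠ 0) :
    ∃ f ∈ B.D i, Q f = a ∧ polar Q z f ≠ 0 ∧ polar Q z' f ≠ 0 := by
  classical
  have hbad : ∀ z : V, B.pr i z ≠ 0 → ((B.circ i a).filter fun f : B.D i => polar Q z (f : V) = 0).card ≤ 2 := by
    intro z hz
    rcases ((B.circ i a).filter fun f : B.D i => polar Q z (f : V) = 0).eq_empty_or_nonempty with h | ⟨f, hf⟩
    · rw [h, Finset.card_empty]; omega
    simp only [Finset.mem_filter, B.mem_circ] at hf
    refine (Finset.card_le_card (t := {f, -f}) fun d hd => ?_).trans Finset.card_le_two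
    simp only [Finset.mem_filter, B.mem_circ] at hd
    by_cases hi : ∀ s r : F, s • (f : V) + r • (d : V) = 0 → s = 0 ∧ r = 0
    · exfalso
      obtain ⟨y, hy, hne⟩ := B.nd i _ (B.pr_mem i z) hz
      obtain ⟨s, r, rfl⟩ := B.span_two f.2 d.2 hi hy
      rw [← B.polar_pr hy, polar_add_right, polar_smul_right, polar_smul_right, hf.2, hd.2] at hne
      simp at hne
    simp only [not_forall] at hi
    obtain ⟨s, r, hsr, hne⟩ := hi
    have hf0 : (f : V) ≠ 0 := fun e => ha (by rw [← hf.1, e, QuadraticMap.map_zero])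
    have hr : r ≠ 0 := fun e => hne ⟨by
      rw [e, zero_smul, add_zero, smul_eq_zero] at hsr; exact hsr.resolve_right hf0, e⟩
    have hd' : (d : V) = (-(r⁻¹ * s)) • (f : V) := by
      have h0 := congrArg (r⁻¹ • ·) hsr
      simp only [smul_add, smul_smul, inv_mul_cancel₀ hr, one_smul, smul_zero] at h0
      rw [neg_smul, eq_neg_iff_add_eq_zero, add_comm]; exact h0
    have h3 := hd.1
    rw [hd', QuadraticMap.map_smul, hf.1, smul_eq_mul] at h3
    rcases mul_self_eq_one_iff.mp (mul_right_cancel₀ ha (h3.trans (one_mul a).symm)) with e | e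
    · exact Finset.mem_insert.mpr (Or.inl (Subtype.ext (by rw [hd', e, one_smul])))
    · exact Finset.mem_insert.mpr (Or.inr (Finset.mem_singleton.mpr (Subtype.ext (by
        rw [hd', e, neg_one_smul]; rfl))))
  obtain ⟨f, hf, hfn⟩ := Finset.exists_mem_notMem_of_card_lt_card (t := B.circ i a)
    (s := (B.circ i a).filter (fun f : B.D i => polar Q z (f : V) = 0) ∪
      (B.circ i a).filter fun f : B.D i => polar Q z' (f : V) = 0)
    ((Finset.card_union_le _ _).trans_lt (by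
      have := hbad z hz; have := hbad z' hz'; have := B.five_le_circ hok h2 i ha; omega))
  simp only [Finset.mem_union, Finset.mem_filter, hf, true_and, not_or] at hfn
  exact ⟨f, f.2, B.mem_circ.mp hf, hfn.1, hfn.2⟩

/-- A member fixing an axis of the other class. -/
theorem Planes.Adm.fix_other (S : B.Adm J) (h2 : (2 : F) ≠ 0) {c : V} (hc : B.Ax c) {g : ↥(Iso Q)} (hg : g ∈ J)
    (hns : ¬ B.IsSt g) (hgc : g.1 c = c) :
    ∃ x ∈ J, ¬ B.IsSt x ∧ ∃ e, B.Ax e ∧ ¬ IsSquare (Q e / Q c) ∧ x.1 e = e := by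
  classical
  have hok := S.ok
  have hN := hc.1
  by_contra hno
  have hperp : ∀ r, InR J c r → (∀ j, r ∉ B.D j) → ∀ e, B.Ax e → polar Q r e = 0 → IsSquare (Q e / Q c) := by
    intro r hr hrn e he hre
    by_contra hsq
    obtain ⟨x, hx, hxn, hxe⟩ := S.fix_of_perp hc hr hrn he hre
    exact hno ⟨x, hx, hxn, e, he, hsq, hxe⟩
  obtain ⟨ν, hν⟩ : ∃ ν : F, ¬ IsSquare ν := FiniteField.exists_nonsquare (fun h => h2 (by
    haveI := ringChar.of_eq h
    exact CharTwo.two_eq_zero))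
  have hν0 : ν ≠ 0 := fun e => hν (e ▸ IsSquare.zero)
  have hfull : ∀ r, InR J c r → (∀ j, r ∉ B.D j) → ∀ i, B.pr i r ≠ 0 := by
    intro r hr hrn i hi
    obtain ⟨e, he, hev⟩ := B.exists_value hok.weak i (mul_ne_zero hν0 hN)
    refine hν ?_
    have := hperp r hr hrn e ⟨hev.trans_ne (mul_ne_zero hν0 hN), i, he⟩ (by rw [B.polar_pr he, hi, polar_zero_left])
    rwa [hev, mul_div_assoc, div_self hN, mul_one] at this
  obtain ⟨r, hr, hrn⟩ : ∃ r, InR J c r ∧ ∀ j, r ∉ B.D j := by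
    obtain ⟨i, d, hd, hdv, hdn⟩ := B.exists_nonaxis_image hok hns hN
    refine ⟨g.1 d, ⟨(g.2 d).trans hdv, ?_⟩, hdn⟩
    have hcomm : g * rf Q c * g⁻¹ = rf Q c := by rw [conj_rf, hgc]
    rw [← hcomm, ← conj_rf, show g * rf Q d * g⁻¹ * (g * rf Q c * g⁻¹) = g * (rf Q d * rf Q c) * g⁻¹ by group]
    exact mul_mem (mul_mem hg (S.rf_pair ⟨hdv.trans_ne hN, i, hd⟩ hc hdv.symm)) (inv_mem hg)
  have hrfull := hfull r hr hrn
  have hani : ∀ k, Q (B.pr k r) ≠ 0 := by
    intro k hk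
    obtain ⟨f0, hf0, hff, hef⟩ := B.exists_mate (B.pr_mem k r) (hrfull k) hk
    obtain ⟨ν', hν', hν1⟩ : ∃ ν' : F, ¬ IsSquare ν' ∧ ν' ≠ -1 := by
      by_cases h : ν = -1
      · obtain ⟨m, hm⟩ := exists_field_avoid ({0, 1, -1} : Finset F)
          (Finset.card_le_three.trans_lt (four_le_card B hok h2))
        simp only [Finset.mem_insert, Finset.mem_singleton, not_or] at hm
        refine ⟨ν * (m * m), fun ⟨s, hs⟩ => hν ⟨s / m, by field_simp [hm.1]; linear_combination hs⟩, fun e => ?_⟩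
        rw [h, neg_one_mul, neg_inj, mul_self_eq_one_iff] at e
        exact e.elim hm.2.1 hm.2.2
      · exact ⟨ν, hν, h⟩
    have h1ν : 1 - ν' ≠ 0 := fun e => hν' ⟨1, by linear_combination -e⟩
    have hν1' : 1 + ν' ≠ 0 := fun e => hν1 (by linear_combination e)
    obtain ⟨Y, hY⟩ : ∃ Y, Y = (1 + ν') / (1 - ν') := ⟨_, rfl⟩
    have hY0 : Y ≠ 0 := hY ▸ div_ne_zero hν1' h1ν
    have hYv : (Y * Y - 1) * ((1 - ν') * (1 - ν')) = 4 * ν' := by rw [hY]; field_simp; ring
    obtain ⟨f, hf⟩ : ∃ f, f = Y⁻¹ • B.pr k r + (Q c * Y) • f0 := ⟨_, rfl⟩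
    have hfD : f ∈ B.D k := hf ▸ add_mem ((B.D k).smul_mem _ (B.pr_mem k r)) ((B.D k).smul_mem _ hf0)
    have hfv : Q f = Q c := by rw [hf, val_comb, hk, hff, hef]; field_simp; ring
    have hfax : B.Ax f := ⟨hfv.trans_ne hN, k, hfD⟩
    have hrf : polar Q r f = Q c * Y := by
      rw [B.polar_pr hfD, hf, polar_add_right, polar_smul_right, polar_smul_right, hef, polar_self_zero hk]; simp
    have hr1 : (rf Q r).1 f = f - Y • r := by
      show refl Q r f = _
      rw [refl_apply, hr.1, hrf, ← mul_assoc, inv_mul_cancel₀ hN, one_mul]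
    obtain ⟨hR1, -⟩ := S.inR_refl hc hfax hfv hr
    have hn1 : ∀ j, (rf Q r).1 f ∉ B.D j := fun j hj => by
      obtain ⟨i, hik, hij⟩ := exists_ne_ne B.five k j
      have h0 := B.pr_ne hij hj
      rw [hr1, map_sub, map_smul, B.pr_ne hik hfD, zero_sub, neg_eq_zero, smul_eq_zero] at h0
      exact h0.elim hY0 (hrfull i)
    obtain ⟨a, ha⟩ : ∃ a, a = (Y⁻¹ - Y) • B.pr k r + (-(Q c * Y)) • f0 := ⟨_, rfl⟩
    have haD : a ∈ B.D k := ha ▸ add_mem ((B.D k).smul_mem _ (B.pr_mem k r)) ((B.D k).smul_mem _ hf0)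
    have hav : Q a = Q c * (Y * Y - 1) := by rw [ha, val_comb, hk, hff, hef]; field_simp; ring
    have hY1 : Y * Y - 1 ≠ 0 := fun e => by
      rw [e, zero_mul] at hYv
      exact mul_ne_zero (mul_ne_zero h2 h2) (fun e => hν' (e ▸ IsSquare.zero) : ν' ≠ 0)
        (by linear_combination -hYv)
    have hpa : polar Q ((rf Q r).1 f) a = 0 := by
      rw [B.polar_pr haD, hr1, map_sub, map_smul, B.pr_self hfD, hf, ha]
      simp only [polar_sub_left, polar_add_left, polar_add_right, polar_smul_left, polar_smul_right, hef,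
        polar_comm Q f0 (B.pr k r), polar_self_zero hk, polar_self_zero hff, smul_eq_mul]
      ring
    obtain ⟨s, hs⟩ := hperp _ hR1 hn1 a ⟨hav.trans_ne (mul_ne_zero hN hY1), k, haD⟩ hpa
    rw [hav, mul_div_cancel_left₀ _ hN] at hs
    exact hν' ⟨s * (1 - ν') / 2, by field_simp; linear_combination -hYv + (1 - ν') * (1 - ν') * hs⟩
  -- the perpendicular directions, scaled
  have hperps : ∀ k, ∃ e ∈ B.D k, polar Q (B.pr k r) e = 0 ∧ Q e ≠ 0 ∧ Q e = Q c := by
    intro k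
    obtain ⟨e, he, hre, hee⟩ := B.exists_perp (B.pr_mem k r) (hani k)
    obtain ⟨s, hs⟩ := hperp r hr hrn e ⟨hee, k, he⟩ (by rw [B.polar_pr he, hre])
    have hs' : Q e = s * s * Q c := by rw [← hs, div_mul_cancel₀ _ hN]
    have hs0 : s ≠ 0 := fun h => hee (by rw [hs', h]; simp)
    have hv : Q (s⁻¹ • e) = Q c := by rw [QuadraticMap.map_smul, hs', smul_eq_mul]; field_simp
    exact ⟨s⁻¹ • e, (B.D k).smul_mem _ he, by rw [polar_smul_right, hre, smul_zero], hv.trans_ne hN, hv⟩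
  choose e₀ he₀ hre₀ hee₀ hev₀ using hperps
  have hf5 := B.five
  obtain ⟨k₀⟩ : Nonempty (Fin t) := ⟨⟨0, by omega⟩⟩
  have hsc : ∀ k, ∃ s : F, s ≠ 0 ∧ Q (B.pr k₀ r) = s * s * Q (B.pr k r) := by
    intro k
    obtain ⟨φ, hφ⟩ := B.iso k₀ k
    have hev' : Q (φ ⟨e₀ k₀, he₀ k₀⟩ : V) = Q c := by rw [hφ]; exact hev₀ k₀
    obtain ⟨μ, hμ, hμe⟩ := B.exists_move (φ ⟨e₀ k₀, he₀ k₀⟩).2 (he₀ k) (hev'.trans_ne hN) ((hev₀ k).trans hev'.symm)
    have hμD : ∀ z ∈ B.D k, μ.1 z ∈ B.D k := by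
      clear hμe
      induction hμ using Subgroup.closure_induction with
      | mem x hx =>
        obtain ⟨v, hv, -, rfl⟩ := hx
        intro z hz
        show refl Q v z ∈ B.D k
        rw [refl_apply]; exact sub_mem hz ((B.D k).smul_mem _ hv)
      | one => exact fun z hz => hz
      | mul x y _ _ hx hy => exact fun z hz => hx _ (hy z hz)
      | inv x hx' hx =>
        intro z hz
        obtain ⟨j, hj⟩ := (B.closure_local hx').1.inv B k
        obtain ⟨v, hv, hv1⟩ := B.exists_value hok.weak k one_ne_zero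
        by_cases hjk : j = k
        · exact hjk ▸ hj z hz
        have h1 := hj _ (hx v hv)
        rw [show (x⁻¹).1 (x.1 v) = v from x.1.symm_apply_apply v] at h1
        exact absurd (B.eq_zero_of_mem (Ne.symm hjk) hv h1) (fun e => one_ne_zero (by rw [← hv1, e, QuadraticMap.map_zero]))
    obtain ⟨u, hu⟩ : ∃ u : V, u = μ.1 (φ ⟨B.pr k₀ r, B.pr_mem k₀ r⟩ : V) := ⟨_, rfl⟩
    have huD : u ∈ B.D k := hu ▸ hμD _ (φ _).2
    have huv : Q u = Q (B.pr k₀ r) := by rw [hu, μ.2, hφ]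
    have hue : polar Q u (e₀ k) = 0 := by
      rw [hu, ← hμe, polar_iso μ.2]
      have h1 := hφ (⟨B.pr k₀ r, B.pr_mem k₀ r⟩ + ⟨e₀ k₀, he₀ k₀⟩)
      rw [map_add] at h1
      simp only [Submodule.coe_add] at h1
      have h0 := hre₀ k₀
      rw [OCount.map_two, hφ, hφ, OCount.map_two, h0] at h1
      linear_combination h1
    obtain ⟨s, v, rfl⟩ := B.span_two (B.pr_mem k r) (he₀ k) (fun a b h => by
      have h1 := congrArg (fun z => polar Q z (e₀ k)) h
      simp only [polar_add_left, polar_smul_left, hre₀ k, smul_zero, zero_add, polar_self_two, polar_zero_left,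
        smul_eq_mul, mul_zero, zero_add] at h1
      have hb : b = 0 := (mul_eq_zero.mp h1).resolve_right (mul_ne_zero h2 (hee₀ k))
      rw [hb, zero_smul, add_zero, smul_eq_zero] at h
      exact ⟨h.resolve_right (hrfull k), hb⟩) huD
    simp only [polar_add_left, polar_smul_left, hre₀ k, smul_zero, zero_add, polar_self_two, smul_eq_mul, mul_zero, zero_add] at hue
    have hv0 : v = 0 := (mul_eq_zero.mp hue).resolve_right (mul_ne_zero h2 (hee₀ k))
    rw [hv0, zero_smul, add_zero, QuadraticMap.map_smul, smul_eq_mul] at huv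
    exact ⟨s, fun h => hani k₀ (by rw [← huv, h]; simp), huv.symm⟩
  choose sc hsc0 hsc using hsc
  obtain ⟨w, hw⟩ : ∃ w, w = Q (B.pr k₀ r) / Q c := ⟨_, rfl⟩
  have hw0 : w ≠ 0 := hw ▸ div_ne_zero (hani k₀) hN
  obtain ⟨e, he⟩ : ∃ e : Fin t → V, e = fun k => (sc k)⁻¹ • e₀ k := ⟨_, rfl⟩
  have heD : ∀ k, e k ∈ B.D k := fun k => by rw [he]; exact (B.D k).smul_mem _ (he₀ k)
  have hre : ∀ k, polar Q (B.pr k r) (e k) = 0 := fun k => by rw [he, polar_smul_right, hre₀ k, smul_zero]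
  have heq : ∀ k, Q (e k) = (sc k)⁻¹ * (sc k)⁻¹ * Q c := fun k => by
    rw [he, QuadraticMap.map_smul, hev₀ k, smul_eq_mul]
  have he0 : ∀ k, Q (e k) ≠ 0 := fun k => by
    rw [heq]; exact mul_ne_zero (mul_ne_zero (inv_ne_zero (hsc0 k)) (inv_ne_zero (hsc0 k))) hN
  have hwe : ∀ k, Q (B.pr k r) = w * Q (e k) := fun k => by
    have := hsc0 k
    rw [heq, hw, hsc k]; field_simp
  -- the auxiliary scalars
  obtain ⟨z, hz0, hzw, hzw'⟩ : ∃ z : F, z ≠ 0 ∧ z * z ≠ w ∧ z * z ≠ -w := by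
    obtain ⟨i₁, hi₁⟩ : ∃ i₁ : F, ∀ z : F, z * z = w → z = i₁ ∨ z = -i₁ := by
      by_cases h : ∃ i : F, i * i = w
      · obtain ⟨i, hi⟩ := h; exact ⟨i, fun z hz => mul_self_eq_mul_self_iff.mp (hz.trans hi.symm)⟩
      · exact ⟨0, fun z hz => absurd ⟨z, hz⟩ h⟩
    rcases id hok with ⟨hA, -⟩ | ⟨-, h7⟩
    · obtain ⟨z, hz⟩ := exists_field_avoid ({0, i₁, -i₁} : Finset F)
        (Finset.card_le_three.trans_lt (four_le_card B hok h2))
      simp only [Finset.mem_insert, Finset.mem_singleton, not_or] at hz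
      refine ⟨z, hz.1, fun e => (hi₁ z e).elim hz.2.1 hz.2.2, fun e' => ?_⟩
      have h0 : Q ((1 : F) • B.pr k₀ r + z • e k₀) = 0 := by
        rw [val_comb, hre, hwe]; linear_combination Q (e k₀) * e'
      have h1 := hA k₀ _ (add_mem ((B.D k₀).smul_mem _ (B.pr_mem k₀ r)) ((B.D k₀).smul_mem _ (heD k₀))) h0
      have h3 := congrArg (fun x => polar Q x (e k₀)) h1
      simp only [polar_add_left, polar_smul_left, hre, smul_zero, zero_add, polar_self_two, polar_zero_left,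
        smul_eq_mul, mul_zero, zero_add] at h3
      exact hz.1 ((mul_eq_zero.mp h3).resolve_right (mul_ne_zero h2 (he0 k₀)))
    · obtain ⟨i₂, hi₂⟩ : ∃ i₂ : F, ∀ z : F, z * z = -w → z = i₂ ∨ z = -i₂ := by
        by_cases h : ∃ i : F, i * i = -w
        · obtain ⟨i, hi⟩ := h; exact ⟨i, fun z hz => mul_self_eq_mul_self_iff.mp (hz.trans hi.symm)⟩
        · exact ⟨0, fun z hz => absurd ⟨z, hz⟩ h⟩
      obtain ⟨z, hz⟩ := exists_field_avoid ({0, i₁, -i₁, i₂, -i₂} : Finset F)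
        (Finset.card_le_five.trans_lt (by omega))
      simp only [Finset.mem_insert, Finset.mem_singleton, not_or] at hz
      exact ⟨z, hz.1, fun e => (hi₁ z e).elim hz.2.1 hz.2.2.1, fun e => (hi₂ z e).elim hz.2.2.2.1 hz.2.2.2.2⟩
  obtain ⟨y, hy⟩ : ∃ y, y = (w - z * z) / (2 * z) := ⟨_, rfl⟩
  have hy0 : y ≠ 0 := hy ▸ div_ne_zero (sub_ne_zero.mpr (Ne.symm hzw)) (mul_ne_zero h2 hz0)
  have hyw : y * y + w = ((w + z * z) / (2 * z)) * ((w + z * z) / (2 * z)) := by rw [hy]; field_simp; ring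
  have hyw0 : y * y + w ≠ 0 := by
    rw [hyw]
    have : (w + z * z) / (2 * z) ≠ 0 :=
      div_ne_zero (fun e => hzw' (by linear_combination e)) (mul_ne_zero h2 hz0)
    exact mul_ne_zero this this
  obtain ⟨al, hal⟩ : ∃ al, al = (y * y - w) / (y * y + w) := ⟨_, rfl⟩
  obtain ⟨be, hbe⟩ : ∃ be, be = -(2 * w * y) / (y * y + w) := ⟨_, rfl⟩
  have hbe0 : be ≠ 0 := hbe ▸ div_ne_zero (neg_ne_zero.mpr (mul_ne_zero (mul_ne_zero h2 hw0) hy0)) hyw0
  have hone : be * be = w * (1 - al * al) := by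
    rw [hal, hbe]
    obtain ⟨D, hD⟩ : ∃ D, D = y * y + w := ⟨_, rfl⟩
    rw [← hD] at hyw0 ⊢
    field_simp
    rw [hD]; ring
  -- the second vector
  obtain ⟨p⟩ : Nonempty (Fin t) := ⟨k₀⟩
  obtain ⟨r', hr', hr'p, hr'k⟩ : ∃ r', InR J c r' ∧ B.pr p r' = B.pr p r ∧
      ∀ k, k ≠ p → B.pr k r' = al • B.pr k r + be • e k := by
    suffices h : ∀ s : Finset (Fin t), ∃ r', InR J c r' ∧
        ∀ k, B.pr k r' = if k ∈ s then al • B.pr k r + be • e k else B.pr k r by
      obtain ⟨r', h1, h2'⟩ := h (Finset.univ.erase p)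
      exact ⟨r', h1, by rw [h2']; simp, fun k hk => by rw [h2']; simp [hk]⟩
    intro s
    induction s using Finset.cons_induction with
    | empty => exact ⟨r, hr, fun k => by simp⟩
    | cons a s ha ih =>
      obtain ⟨r₁, hr₁, hr₁k⟩ := ih
      obtain ⟨v, hv⟩ : ∃ v, v = ((w + z * z) / (2 * z) * (sc a)⁻¹)⁻¹ • (B.pr a r + y • e a) := ⟨_, rfl⟩
      have hvD : v ∈ B.D a := hv ▸ (B.D a).smul_mem _ (add_mem (B.pr_mem a r) ((B.D a).smul_mem _ (heD a)))
      have hfac : (w + z * z) / (2 * z) * (sc a)⁻¹ ≠ 0 := mul_ne_zero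
        (div_ne_zero (fun e => hzw' (by linear_combination e)) (mul_ne_zero h2 hz0)) (inv_ne_zero (hsc0 a))
      have hval : Q (B.pr a r + y • e a) = (y * y + w) * Q (e a) := by
        rw [← one_smul F (B.pr a r), val_comb, hre, hwe]; ring
      have hvv : Q v = Q c := by
        rw [hv, QuadraticMap.map_smul, hval, hyw, heq, smul_eq_mul]
        generalize (w + z * z) / (2 * z) = d at hfac ⊢
        have := hsc0 a
        have hd : d ≠ 0 := fun e => hfac (by rw [e, zero_mul])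
        field_simp
      refine ⟨(rf Q v).1 r₁, (S.inR_refl hc ⟨hvv.trans_ne hN, a, hvD⟩ hvv hr₁).2, fun k => ?_⟩
      show B.pr k (refl Q v r₁) = _
      by_cases hka : k = a
      · subst hka
        have hp : B.pr k (B.pr k r + y • e k) = B.pr k r + y • e k :=
          B.pr_self (add_mem (B.pr_mem k r) ((B.D k).smul_mem y (heD k)))
        rw [if_pos (Finset.mem_cons_self k s), hv, refl_smul (inv_ne_zero hfac), refl_apply, map_sub, map_smul,
          hp, hr₁k, if_neg ha, hval,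
          polar_comm Q _ r₁, B.polar_pr (add_mem (B.pr_mem k r) ((B.D k).smul_mem y (heD k))), hr₁k, if_neg ha,
          polar_add_right, polar_smul_right, hre, polar_self_two, hwe, smul_zero, add_zero, hal, hbe]
        have := he0 k
        obtain ⟨D, hD⟩ : ∃ D, D = y * y + w := ⟨_, rfl⟩
        rw [← hD] at hyw0 ⊢
        match_scalars <;> field_simp <;> rw [hD] <;> ring
      · rw [refl_apply, map_sub, map_smul, B.pr_ne hka hvD, smul_zero, sub_zero, hr₁k]
        simp [hka]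
  have hcomb : ∀ a b : F, ∀ k, k ≠ p → B.pr k (a • r + b • r') = (a + b * al) • B.pr k r + (b * be) • e k :=
    fun a b k hk => by rw [map_add, map_smul, map_smul, hr'k k hk]; module
  have hindk : ∀ k, ∀ a b : F, a • B.pr k r + b • e k = 0 → a = 0 ∧ b = 0 := fun k a b h => by
    have h1 := congrArg (fun z => polar Q z (e k)) h
    simp only [polar_add_left, polar_smul_left, hre, smul_zero, zero_add, polar_self_two, polar_zero_left,
      smul_eq_mul, mul_zero, zero_add] at h1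
    have hb : b = 0 := (mul_eq_zero.mp h1).resolve_right (mul_ne_zero h2 (he0 k))
    rw [hb, zero_smul, add_zero, smul_eq_zero] at h
    exact ⟨h.resolve_right (hrfull k), hb⟩
  have hne : ∀ a b : F, (a ≠ 0 ∨ b ≠ 0) → ∀ k, k ≠ p → B.pr k (a • r + b • r') ≠ 0 := fun a b hab k hk h => by
    rw [hcomb a b k hk] at h
    obtain ⟨h1, h3⟩ := hindk k _ _ h
    have hb : b = 0 := (mul_eq_zero.mp h3).resolve_right hbe0
    rw [hb, zero_mul, add_zero] at h1
    exact hab.elim (fun h => h h1) (fun h => h hb)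
  -- the moved axis
  obtain ⟨τ, hτ⟩ : ∃ τ, τ = polar Q r r' / Q c := ⟨_, rfl⟩
  obtain ⟨ρ, hρ⟩ : ∃ ρ : F, ∀ A C : F, A * A + C * C + 2 * al * A * C = 0 →
      A = ρ * C ∨ A = (-2 * al - ρ) * C := by
    by_cases h : ∃ ρ : F, ρ * ρ + 1 + 2 * al * ρ = 0
    · obtain ⟨ρ, hρ⟩ := h
      refine ⟨ρ, fun A C h0 => ?_⟩
      rcases mul_eq_zero.mp (by linear_combination h0 - C * C * hρ :
        (A - ρ * C) * (A - (-2 * al - ρ) * C) = 0) with h | h
      · exact Or.inl (sub_eq_zero.mp h)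
      · exact Or.inr (sub_eq_zero.mp h)
    · refine ⟨0, fun A C h0 => Or.inl ?_⟩
      by_cases hC : C = 0
      · rw [hC] at h0 ⊢
        rw [mul_zero]; exact mul_self_eq_zero.mp (by linear_combination h0)
      · exact absurd ⟨A / C, by field_simp; linear_combination h0⟩ h
  obtain ⟨l, -, hlp⟩ := Finset.exists_mem_notMem_of_card_lt_card (s := ({p} : Finset (Fin t))) (t := Finset.univ)
    (by rw [Finset.card_singleton, Finset.card_univ, Fintype.card_fin]; omega)
  rw [Finset.mem_singleton] at hlp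
  obtain ⟨f, hfD, hfv, hf1, hf2⟩ := B.exists_value_avoid hok h2 (i := l) (mul_ne_zero hν0 hN)
    (hne 1 (-(τ + ρ)) (Or.inl one_ne_zero) l hlp) (hne 1 (-(τ + (-2 * al - ρ))) (Or.inl one_ne_zero) l hlp)
  obtain ⟨A, hA⟩ : ∃ A, A = -((polar Q r f - polar Q r' f * τ) / Q c) := ⟨_, rfl⟩
  obtain ⟨C, hC⟩ : ∃ C, C = -(polar Q r' f / Q c) := ⟨_, rfl⟩
  have hAC : A * A + C * C + 2 * al * A * C ≠ 0 := by
    intro h0
    rw [polar_add_left, polar_smul_left, polar_smul_left, smul_eq_mul, smul_eq_mul] at hf1 hf2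
    rcases hρ A C h0 with e | e
    · refine hf1 ?_
      rw [hA, hC] at e
      field_simp at e
      linear_combination -e
    · refine hf2 ?_
      rw [hA, hC] at e
      field_simp at e
      linear_combination -e
  obtain ⟨x, hx⟩ : ∃ x, x = rf Q r * rf Q r' := ⟨_, rfl⟩
  have hxJ : x ∈ J := hx ▸ hr.pair hr'
  have hxf : x.1 f = f + (A • r + C • r') := by
    rw [hx]
    show refl Q r (refl Q r' f) = _
    rw [refl_apply, refl_apply, hr'.1, hr.1, polar_sub_right, polar_smul_right, hA, hC, hτ, smul_eq_mul]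
    match_scalars <;> field_simp <;> ring
  have hxinv : ∀ a, (x⁻¹).1 a = a + ((-(polar Q r a / Q c)) • r +
      (-((polar Q r' a - polar Q r a * τ) / Q c)) • r') := fun a => by
    rw [hx, mul_inv_rev, rf_inv, rf_inv]
    show refl Q r' (refl Q r a) = _
    rw [refl_apply, refl_apply, hr'.1, hr.1, polar_sub_right, polar_smul_right, hτ, polar_comm Q r' r, smul_eq_mul]
    match_scalars <;> field_simp <;> ring
  obtain ⟨q₁, q₂, hq₁, hq₂, hq12⟩ := Finset.one_lt_card_iff.mp (show 1 < (Finset.univ \ ({l, p} : Finset (Fin t))).card by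
    rw [Finset.card_sdiff_of_subset (Finset.subset_univ _), Finset.card_univ, Fintype.card_fin]
    have := Finset.card_le_two (a := l) (b := p)
    omega)
  simp only [Finset.mem_sdiff, Finset.mem_univ, true_and, Finset.mem_insert, Finset.mem_singleton, not_or] at hq₁ hq₂
  obtain ⟨α', hα'⟩ : ∃ α', α' = A + C * al := ⟨_, rfl⟩
  obtain ⟨β', hβ'⟩ : ∃ β', β' = C * be := ⟨_, rfl⟩
  obtain ⟨v, hv⟩ : ∃ v : Fin t → V, v = fun q => sc q • (β' • B.pr q r + (-(α' * w)) • e q) := ⟨_, rfl⟩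
  have hvD : ∀ q, v q ∈ B.D q := fun q => by
    rw [hv]; exact (B.D q).smul_mem _ (add_mem ((B.D q).smul_mem _ (B.pr_mem q r)) ((B.D q).smul_mem _ (heD q)))
  have hvv : ∀ q, Q (v q) = w * (β' * β' + α' * α' * w) * Q c := fun q => by
    have := hsc0 q
    rw [hv, QuadraticMap.map_smul, val_comb, hre, hwe, heq, smul_eq_mul]
    field_simp
    ring
  have hv0 : w * (β' * β' + α' * α' * w) * Q c ≠ 0 := by
    refine mul_ne_zero (mul_ne_zero hw0 fun h0 => hAC ?_) hN
    have h1 : be * be = w * (1 - al * al) := hone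
    have h3 : w * (A * A + C * C + 2 * al * A * C) = 0 := by
      rw [hα', hβ'] at h0; linear_combination h0 - C * C * h1
    exact (mul_eq_zero.mp h3).resolve_left hw0
  have hvperp : ∀ q, q ≠ l → q ≠ p → polar Q (x.1 f) (v q) = 0 := by
    intro q hql hqp
    rw [B.polar_pr (hvD q), hxf, map_add, B.pr_ne hql hfD, zero_add, hcomb A C q hqp, ← hα', ← hβ', hv]
    simp only [polar_smul_right, polar_add_left, polar_add_right, polar_smul_left, hre, polar_comm Q (e q),
      polar_self_two, hwe, smul_eq_mul]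
    ring
  have hxi : x.1 ((x⁻¹).1 (v q₁)) = v q₁ := x.1.apply_symm_apply _
  have hxi' : x.1 ((x⁻¹).1 (v q₂)) = v q₂ := x.1.apply_symm_apply _
  refine hno ⟨rf Q ((x⁻¹).1 (v q₁)) * rf Q ((x⁻¹).1 (v q₂)), ?_, fun hst => ?_, f,
    ⟨hfv.trans_ne (mul_ne_zero hν0 hN), l, hfD⟩, ?_, ?_⟩
  · rw [← conj_rf, ← conj_rf,
      show x⁻¹ * rf Q (v q₁) * x⁻¹⁻¹ * (x⁻¹ * rf Q (v q₂) * x⁻¹⁻¹) = x⁻¹ * (rf Q (v q₁) * rf Q (v q₂)) * x by group]
    exact mul_mem (mul_mem (inv_mem hxJ) (S.rf_pair ⟨(hvv q₁).trans_ne hv0, q₁, hvD q₁⟩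
      ⟨(hvv q₂).trans_ne hv0, q₂, hvD q₂⟩ ((hvv q₂).trans (hvv q₁).symm))) hxJ
  · obtain ⟨s, s', h1, -⟩ := B.small_of_isSt (((x⁻¹).2 _).trans_ne ((hvv q₁).trans_ne hv0))
      (((x⁻¹).2 _).trans_ne ((hvv q₂).trans_ne hv0)) (fun a b h => by
        rw [← map_smul, ← map_smul, ← map_add, LinearEquiv.map_eq_zero_iff] at h
        have hk := congrArg (B.pr q₁) h
        have hl := congrArg (B.pr q₂) h
        rw [map_add, map_smul, map_smul, B.pr_self (hvD q₁), B.pr_ne hq12 (hvD q₂), smul_zero, add_zero, map_zero,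
          smul_eq_zero] at hk
        rw [map_add, map_smul, map_smul, B.pr_self (hvD q₂), B.pr_ne hq12.symm (hvD q₁), smul_zero, zero_add,
          map_zero, smul_eq_zero] at hl
        exact ⟨hk.resolve_right fun e => hv0 (by rw [← hvv q₁, e, QuadraticMap.map_zero]),
          hl.resolve_right fun e => hv0 (by rw [← hvv q₂, e, QuadraticMap.map_zero])⟩) hst
    obtain ⟨k, -, hk⟩ := Finset.exists_mem_notMem_of_card_lt_card (s := ({s, s', q₁, p} : Finset (Fin t)))
      (t := Finset.univ) (Finset.card_le_four.trans_lt (by rw [Finset.card_univ, Fintype.card_fin]; omega))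
    simp only [Finset.mem_insert, Finset.mem_singleton, not_or] at hk
    have h0 := B.pr_pair_zero h1 hk.1 hk.2.1
    rw [hxinv, map_add, B.pr_ne hk.2.2.1 (hvD q₁), zero_add] at h0
    refine hne _ _ ?_ k hk.2.2.2 h0
    by_contra hcon
    push Not at hcon
    obtain ⟨e1, e2⟩ := hcon
    rw [neg_eq_zero, div_eq_zero_iff, or_iff_left hN] at e1
    rw [e1, zero_mul, sub_zero, neg_eq_zero, div_eq_zero_iff, or_iff_left hN] at e2
    rw [B.polar_pr (hvD q₁), hr'k q₁ hq₁.2] at e2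
    rw [B.polar_pr (hvD q₁)] at e1
    simp only [hv, polar_smul_right, polar_add_left, polar_add_right, polar_smul_left, hre, polar_comm Q (e q₁),
      polar_self_two, hwe, smul_eq_mul] at e1 e2
    have hs := hsc0 q₁
    have hb0 : β' = 0 := by
      refine (mul_eq_zero.mp (?_ : sc q₁ * (2 * (w * Q (e q₁))) * β' = 0)).resolve_left
        (mul_ne_zero hs (mul_ne_zero h2 (mul_ne_zero hw0 (he0 q₁))))
      linear_combination e1
    have hC0 : C = 0 := by rw [hβ'] at hb0; exact (mul_eq_zero.mp hb0).resolve_right hbe0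
    have hA0 : A = 0 := by
      rw [hb0, hα', hC0] at e2
      refine (mul_eq_zero.mp (?_ : sc q₁ * (2 * (w * Q (e q₁))) * be * A = 0)).resolve_left
        (mul_ne_zero (mul_ne_zero hs (mul_ne_zero h2 (mul_ne_zero hw0 (he0 q₁)))) hbe0)
      linear_combination -e2
    exact hAC (by rw [hA0, hC0]; ring)
  · rw [hfv, mul_div_assoc, div_self hN, mul_one]; exact hν
  · show refl Q _ (refl Q _ f) = f
    rw [refl_fix (show polar Q ((x⁻¹).1 (v q₂)) f = 0 by
        rw [← polar_iso x.2, hxi', polar_comm, hvperp q₂ hq₂.1 hq₂.2]),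
      refl_fix (show polar Q ((x⁻¹).1 (v q₁)) f = 0 by
        rw [← polar_iso x.2, hxi, polar_comm, hvperp q₁ hq₁.1 hq₁.2])]

/-- A subgroup normalised by every reflection of a plane. -/
theorem Planes.Adm.exists_normalised (S : B.Adm H) (hseed : B.Seed H) :
    ∃ J ≤ H, B.Adm J ∧ (∃ x ∈ J, ¬ B.IsSt x) ∧ ∀ v, B.Ax v → NormBy J v := by
  obtain ⟨g, hg, hns, c, hc, hgc⟩ := hseed
  have S₁ := S.conjInf hc
  have hg₁ : g ∈ OPlanes.conjInf H c := by
    refine mem_conjInf.mpr ⟨hg, ?_⟩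
    have hcomm : g * rf Q c * g⁻¹ = rf Q c := by rw [conj_rf, hgc]
    have h : g * rf Q c = rf Q c * g := by
      calc g * rf Q c = g * rf Q c * g⁻¹ * g := by group
        _ = rf Q c * g := by rw [hcomm]
    rwa [← h, mul_assoc, rf_mul_self, mul_one]
  have hn₁ : NormBy (OPlanes.conjInf H c) c := fun x hx => conjInf_conj hx
  by_cases h2 : (2 : F) = 0
  · haveI : CharP F 2 := CharTwo.of_one_ne_zero_of_two_eq_zero one_ne_zero h2
    exact ⟨_, inf_le_left, S₁, ⟨g, hg₁, hns⟩, fun v hv =>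
      S₁.normBy hc hn₁ hv (FiniteField.isSquare_of_char_two (ringChar.eq F 2) _)⟩
  obtain ⟨x, hx, hxn, e, he, hsq, hxe⟩ := S₁.fix_other h2 hc hg₁ hns hgc
  have S₂ := S₁.conjInf he
  have hn₂ : NormBy (OPlanes.conjInf (OPlanes.conjInf H c) e) e := fun x hx => conjInf_conj hx
  have hn₂' : NormBy (OPlanes.conjInf (OPlanes.conjInf H c) e) c := by
    intro y hy
    obtain ⟨hy1, hy2⟩ := mem_conjInf.mp hy
    refine mem_conjInf.mpr ⟨hn₁ y hy1, ?_⟩
    have he' : B.Ax ((rf Q c).1 e) := by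
      obtain ⟨hee, k, hk⟩ := he
      obtain ⟨-, i, hi⟩ := id hc
      obtain ⟨j, hj⟩ := B.isSt_rf hi k
      exact ⟨((rf Q c).2 e).trans_ne hee, j, hj e hk⟩
    have hp := S₁.rf_pair he' he ((rf Q c).2 e).symm
    have h3 : rf Q ((rf Q c).1 e) * y * rf Q ((rf Q c).1 e) ∈ OPlanes.conjInf H c := by
      have h4 := mul_mem (mul_mem hp hy2) (inv_mem hp)
      rwa [show rf Q ((rf Q c).1 e) * rf Q e * (rf Q e * y * rf Q e) * (rf Q ((rf Q c).1 e) * rf Q e)⁻¹ =
        rf Q ((rf Q c).1 e) * (rf Q e * rf Q e) * y * (rf Q e * (rf Q e)⁻¹) * (rf Q ((rf Q c).1 e))⁻¹ by group,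
        rf_mul_self, mul_one, mul_inv_cancel, mul_one, rf_inv] at h4
    have h5 := hn₁ _ h3
    rw [← conj_rf, rf_inv] at h5
    rwa [show rf Q c * (rf Q c * rf Q e * rf Q c * y * (rf Q c * rf Q e * rf Q c)) * rf Q c =
      (rf Q c * rf Q c) * (rf Q e * (rf Q c * y * rf Q c) * rf Q e) * (rf Q c * rf Q c) by group, rf_mul_self,
      one_mul, mul_one] at h5
  refine ⟨_, inf_le_left.trans inf_le_left, S₂, ⟨x, mem_conjInf.mpr ⟨hx, ?_⟩, hxn⟩, fun v hv => ?_⟩
  · have hcomm : x * rf Q e * x⁻¹ = rf Q e := by rw [conj_rf, hxe]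
    have h : x * rf Q e = rf Q e * x := by
      calc x * rf Q e = x * rf Q e * x⁻¹ * x := by group
        _ = rf Q e * x := by rw [hcomm]
    rwa [← h, mul_assoc, rf_mul_self, mul_one]
  by_cases hv' : IsSquare (Q v / Q c)
  · exact S₂.normBy hc hn₂' hv hv'
  · refine S₂.normBy he hn₂ hv ?_
    rw [show Q v / Q e = Q v / Q c / (Q e / Q c) by have := hc.1; have := he.1; field_simp, div_eq_mul_inv,
      isSquare_iff_mul h2 (div_ne_zero hv.1 hc.1) (inv_ne_zero (div_ne_zero he.1 hc.1)), isSquare_inv]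
    exact iff_of_false hv' hsq

end Cfsg.Agent.Classical.OPlanes
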