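import Cfsg.Agent.Lib.Classical.OPlanes.Values

/-!
# An element permuting the planes no longer but fixing an anisotropic vector of a plane
-/

set_option autoImplicit false
set_option linter.unusedSectionVars false

namespace Cfsg.Agent.Classical.OPlanes

open Module QuadraticMap OCount ORefl OOmega

variable {F : Type*} [Field F] [Fintype F] {V : Type*} [AddCommGroup V] [Module F V] [Finite V]
  [FiniteDimensional F V] {Q : QuadraticForm F V} {t : ℕ}
variable (B : Planes Q t)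

theorem Planes.Ok.weak {B : Planes Q t} (h : B.Ok) : B.Aniso ∨ 4 ≤ Fintype.card F := by
  rcases h with h | h
  · exact Or.inl h.1
  · exact Or.inr (by omega)

omit [Finite V] [FiniteDimensional F V] in
theorem four_le_card (h : B.Ok) (h2 : (2 : F) ≠ 0) : 4 ≤ Fintype.card F := by
  rcases h with h | h
  · have h1 := Fintype.one_lt_card (α := F)
    have h3 : Fintype.card F ≠ 2 := fun e => h2 (by
      have := FiniteField.cast_card_eq_zero F
      rw [e] at this
      exact_mod_cast this)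
    have := h.2
    omega
  · omega

/-- Among three scalars two differ by a square factor. -/
theorem exists_sq_pair (v : Fin 3 → F) (hv : ∀ i, v i ≠ 0) : ∃ i j, i ≠ j ∧ ∃ s : F, v i = s * s * v j := by
  have key : ∀ i j, IsSquare (v i / v j) → ∃ s : F, v i = s * s * v j := fun i j ⟨s, hs⟩ =>
    ⟨s, by rw [← hs, div_mul_cancel₀ _ (hv j)]⟩
  by_cases h2 : (2 : F) = 0
  · exact ⟨0, 1, by decide, key _ _ (FiniteField.isSquare_of_char_two (by
      haveI : CharP F 2 := CharTwo.of_one_ne_zero_of_two_eq_zero one_ne_zero h2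
      exact ringChar.eq F 2) _)⟩
  by_cases h01 : IsSquare (v 0 / v 1)
  · exact ⟨0, 1, by decide, key _ _ h01⟩
  by_cases h12 : IsSquare (v 1 / v 2)
  · exact ⟨1, 2, by decide, key _ _ h12⟩
  refine ⟨0, 2, by decide, key _ _ ?_⟩
  rw [show v 0 / v 2 = v 0 / v 1 * (v 1 / v 2) by have := hv 1; field_simp,
    isSquare_iff_mul h2 (div_ne_zero (hv 0) (hv 1)) (div_ne_zero (hv 1) (hv 2))]
  exact iff_of_false h01 h12

theorem exists_ne_ne (h : 5 ≤ t) (p q : Fin t) : ∃ i : Fin t, i ≠ p ∧ i ≠ q := by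
  obtain ⟨i, -, hi⟩ := Finset.exists_mem_notMem_of_card_lt_card (s := ({p, q} : Finset (Fin t))) (t := Finset.univ)
    (Finset.card_le_two.trans_lt (by rw [Finset.card_univ, Fintype.card_fin]; omega))
  exact ⟨i, by simpa using hi⟩

/-- Two vectors of a plane of one value which are not orthogonal. -/
theorem Planes.exists_skew (hok : B.Ok) (i : Fin t) {a : F} (ha : a ≠ 0) :
    ∃ x ∈ B.D i, ∃ y ∈ B.D i, Q x = a ∧ Q y = a ∧ (∀ s r : F, s • x + r • y = 0 → s = 0 ∧ r = 0) ∧
      polar Q x y ≠ 0 := by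
  classical
  obtain ⟨x, hx, y, hy, hxa, hya, hind⟩ := B.exists_pair_value hok.weak i ha
  by_cases hxy : polar Q x y = 0
  swap
  · exact ⟨x, hx, y, hy, hxa, hya, hind, hxy⟩
  by_cases h2 : (2 : F) = 0
  · obtain ⟨z, hz, hne⟩ := B.nd i x hx (fun e => ha (by rw [← hxa, e, QuadraticMap.map_zero]))
    obtain ⟨s, r, rfl⟩ := B.span_two hx hy hind hz
    exfalso
    refine hne ?_
    rw [polar_add_right, polar_smul_right, polar_smul_right, hxy, polar_self_two, h2]
    simp
  obtain ⟨m, hm0, hm1, hm2⟩ : ∃ m : F, m ≠ 0 ∧ 1 - m * m ≠ 0 ∧ 1 + m * m ≠ 0 := by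
    have hA : ∀ m : F, 1 + m * m = 0 → ¬ B.Aniso := fun m hm hA => by
      have h0 : Q ((1 : F) • x + m • y) = 0 := by
        rw [val_comb, hxa, hya, hxy]; linear_combination a * hm
      exact one_ne_zero (hind 1 m (hA i _ (add_mem ((B.D i).smul_mem _ hx) ((B.D i).smul_mem _ hy)) h0)).1
    rcases id hok with ⟨hAn, -⟩ | ⟨-, h7⟩
    · obtain ⟨m, hm⟩ := exists_field_avoid ({0, 1, -1} : Finset F)
        (Finset.card_le_three.trans_lt (four_le_card B hok h2))
      simp only [Finset.mem_insert, Finset.mem_singleton, not_or] at hm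
      exact ⟨m, hm.1, fun e => (mul_self_eq_one_iff.mp (by linear_combination -e : m * m = 1)).elim hm.2.1 hm.2.2,
        fun e => hA m e hAn⟩
    · obtain ⟨i₀, hi₀⟩ : ∃ i₀ : F, ∀ m : F, 1 + m * m = 0 → m = i₀ ∨ m = -i₀ := by
        by_cases h : ∃ i₀ : F, 1 + i₀ * i₀ = 0
        · obtain ⟨i₀, hi⟩ := h
          exact ⟨i₀, fun m hm => mul_self_eq_mul_self_iff.mp (by linear_combination hm - hi)⟩
        · exact ⟨0, fun m hm => absurd ⟨m, hm⟩ h⟩
      obtain ⟨m, hm⟩ := exists_field_avoid ({0, 1, -1, i₀, -i₀} : Finset F)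
        (Finset.card_le_five.trans_lt (by omega))
      simp only [Finset.mem_insert, Finset.mem_singleton, not_or] at hm
      exact ⟨m, hm.1, fun e => (mul_self_eq_one_iff.mp (by linear_combination -e : m * m = 1)).elim hm.2.1 hm.2.2.1,
        fun e => (hi₀ m e).elim hm.2.2.2.1 hm.2.2.2.2⟩
  refine ⟨x, hx, ((1 - m * m) / (1 + m * m)) • x + (2 * m / (1 + m * m)) • y,
    add_mem ((B.D i).smul_mem _ hx) ((B.D i).smul_mem _ hy), hxa, ?_, fun s r hsr => ?_, ?_⟩
  · rw [val_comb, hxa, hya, hxy, mul_zero, add_zero,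
      div_mul_div_comm, div_mul_div_comm, ← add_mul, ← add_div,
      show (1 - m * m) * (1 - m * m) + 2 * m * (2 * m) = (1 + m * m) * (1 + m * m) by ring,
      div_self (mul_ne_zero hm2 hm2), one_mul]
  · obtain ⟨h1, h3⟩ := hind (s + r * ((1 - m * m) / (1 + m * m))) (r * (2 * m / (1 + m * m)))
      (by rw [← hsr]; module)
    have hr : r = 0 := (mul_eq_zero.mp h3).resolve_right (div_ne_zero (mul_ne_zero h2 hm0) hm2)
    rw [hr, zero_mul, add_zero] at h1
    exact ⟨h1, hr⟩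
  · rw [polar_add_right, polar_smul_right, polar_smul_right, hxy, polar_self_two, hxa, smul_eq_mul, smul_eq_mul,
      mul_zero, add_zero]
    exact mul_ne_zero (div_ne_zero hm1 hm2) (mul_ne_zero h2 ha)

/-- An isometry not permuting the planes moves a vector of prescribed value out of all planes. -/
theorem Planes.exists_nonaxis_image (hok : B.Ok) {g : ↥(Iso Q)} (hg : ¬ B.IsSt g) {a : F} (ha : a ≠ 0) :
    ∃ i, ∃ d ∈ B.D i, Q d = a ∧ ∀ j, g.1 d ∉ B.D j := by
  by_contra hcon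
  simp only [not_exists, not_and, not_forall, not_not] at hcon
  refine hg fun i => ?_
  obtain ⟨x, hx, y, hy, hxa, hya, hind, hxy⟩ := B.exists_skew hok i ha
  obtain ⟨j, hj⟩ := hcon i x hx hxa
  obtain ⟨l, hl⟩ := hcon i y hy hya
  have hjl : l = j := by
    by_contra hne
    exact hxy (by rw [← polar_iso g.2]; exact B.orth j l (Ne.symm hne) _ hj _ hl)
  subst hjl
  refine ⟨l, fun z hz => ?_⟩
  obtain ⟨s, r, rfl⟩ := B.span_two hx hy hind hz
  rw [map_add, map_smul, map_smul]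
  exact add_mem ((B.D l).smul_mem _ hj) ((B.D l).smul_mem _ hl)

/-- The hypotheses on a subgroup above the stabiliser of the planes. -/
structure Planes.Adm (H : Subgroup ↥(Iso Q)) : Prop where
  ok : B.Ok
  le : H ≤ commutator ↥(Iso Q)
  st : ∀ g ∈ commutator ↥(Iso Q), B.IsSt g → g ∈ H

/-- A member not permuting the planes and fixing an anisotropic vector of a plane. -/
def Planes.Seed (H : Subgroup ↥(Iso Q)) : Prop := ∃ x ∈ H, ¬ B.IsSt x ∧ ∃ c, B.Ax c ∧ x.1 c = c

theorem Planes.not_isSt_mul {m g : ↥(Iso Q)} (hm : B.IsSt m) (hg : ¬ B.IsSt g) : ¬ B.IsSt (m * g) := fun h =>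
  hg (by simpa using (hm.inv B).mul B h)

variable {B} {H : Subgroup ↥(Iso Q)}

/-- Two reflections in planes with equal values give a member. -/
theorem Planes.Adm.rf_pair (S : B.Adm H) {a b : V} (ha : B.Ax a) (hb : B.Ax b) (h : Q b = Q a) :
    rf Q a * rf Q b ∈ H := by
  obtain ⟨haa, i, hai⟩ := ha
  obtain ⟨hbb, j, hbj⟩ := hb
  exact S.st _ (B.pair_mem hbb h.symm) ((B.isSt_rf hai).mul B (B.isSt_rf hbj))

theorem Planes.Adm.seed_of_axis (S : B.Adm H) {g : ↥(Iso Q)} (hg : g ∈ H) (hns : ¬ B.IsSt g) {c : V}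
    (hc : B.Ax c) {j : Fin t} (h : g.1 c ∈ B.D j) : B.Seed H := by
  obtain ⟨hcc, i, hci⟩ := hc
  obtain ⟨m, hm, hmst, hmc⟩ := B.exists_mono_move S.ok.weak h hci (by rwa [g.2]) (g.2 c).symm
  exact ⟨m * g, mul_mem (S.st m hm hmst) hg, B.not_isSt_mul hmst hns, c, ⟨hcc, i, hci⟩, hmc⟩

/-- Two anisotropic vectors of equal value in different planes orthogonal to an image give a seed. -/
theorem Planes.Adm.seed_of_pair (S : B.Adm H) {g : ↥(Iso Q)} (hg : g ∈ H) (hns : ¬ B.IsSt g) {c : V}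
    (hc : B.Ax c) {k l : Fin t} (hkl : k ≠ l) {a b : V} (ha : a ∈ B.D k) (hb : b ∈ B.D l) (haa : Q a ≠ 0)
    (hab : Q b = Q a) (hua : polar Q (g.1 c) a = 0) (hub : polar Q (g.1 c) b = 0) : B.Seed H := by
  classical
  have hga : g.1 ((g⁻¹).1 a) = a := g.1.apply_symm_apply a
  have hgb : g.1 ((g⁻¹).1 b) = b := g.1.apply_symm_apply b
  by_cases hx : B.IsSt (rf Q ((g⁻¹).1 a) * rf Q ((g⁻¹).1 b))
  swap
  · refine ⟨_, ?_, hx, c, hc, ?_⟩
    · rw [← conj_rf, ← conj_rf,
        show g⁻¹ * rf Q a * g⁻¹⁻¹ * (g⁻¹ * rf Q b * g⁻¹⁻¹) = g⁻¹ * (rf Q a * rf Q b) * g by group]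
      exact mul_mem (mul_mem (inv_mem hg) (S.rf_pair ⟨haa, k, ha⟩ ⟨hab.trans_ne haa, l, hb⟩ hab)) hg
    · show refl Q _ (refl Q _ c) = c
      rw [refl_fix (show polar Q ((g⁻¹).1 b) c = 0 by rw [← polar_iso g.2, hgb, polar_comm, hub]),
        refl_fix (show polar Q ((g⁻¹).1 a) c = 0 by rw [← polar_iso g.2, hga, polar_comm, hua])]
  have haa' : Q ((g⁻¹).1 a) = Q a := (g⁻¹).2 a
  obtain ⟨p, q, hap, -⟩ := B.small_of_isSt (haa'.trans_ne haa) (((g⁻¹).2 b).trans hab |>.trans_ne haa)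
    (fun s r h => by
      have h1 := congrArg g.1 h
      rw [map_add, map_smul, map_smul, hga, hgb, map_zero] at h1
      have hk := congrArg (B.pr k) h1
      have hl := congrArg (B.pr l) h1
      rw [map_add, map_smul, map_smul, B.pr_self ha, B.pr_ne hkl hb, smul_zero, add_zero, map_zero,
        smul_eq_zero] at hk
      rw [map_add, map_smul, map_smul, B.pr_self hb, B.pr_ne hkl.symm ha, smul_zero, zero_add, map_zero,
        smul_eq_zero] at hl
      exact ⟨hk.resolve_right fun e => haa (by rw [e, QuadraticMap.map_zero]),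
        hl.resolve_right fun e => haa (by rw [← hab, e, QuadraticMap.map_zero])⟩) hx
  by_cases hax : ∃ j, (g⁻¹).1 a ∈ B.D j
  · obtain ⟨j, hj⟩ := hax
    exact S.seed_of_axis hg hns ⟨haa'.trans_ne haa, j, hj⟩ (j := k) (by rw [hga]; exact ha)
  by_contra hno
  have nonax : ∀ r : Fin t, ∀ f ∈ B.D r, Q f = 1 → ∀ j, g.1 f ∉ B.D j := fun r f hf hf1 j hj =>
    hno (S.seed_of_axis hg hns ⟨hf1.trans_ne one_ne_zero, r, hf⟩ hj)
  have hsupp : ∀ s s' : Fin t, ∀ z ∈ B.D s ⊔ B.D s', (∀ j, z ∉ B.D j) → B.supp z = {s, s'} := by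
    intro s s' z hz hzn
    refine Finset.eq_of_subset_of_card_le (fun j hj => ?_) (Finset.card_le_two.trans ?_)
    · by_contra hne
      simp only [Finset.mem_insert, Finset.mem_singleton, not_or] at hne
      exact B.mem_supp.mp hj (B.pr_pair_zero hz hne.1 hne.2)
    · by_contra hlt
      rcases (B.supp z).eq_empty_or_nonempty with h0 | ⟨j, hj⟩
      · exact hzn s (B.mem_of_supp fun i _ => by_contra fun hi => by
          have := B.mem_supp.mpr hi; rw [h0] at this; simp at this)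
      · refine hzn j (B.mem_of_supp fun i hi => by_contra fun hne => hlt ?_)
        exact Finset.one_lt_card.mpr ⟨i, B.mem_supp.mpr hne, j, hj, hi⟩
  have rel : ∀ r r' : Fin t, r ≠ r' → r ≠ p → r ≠ q → r' ≠ p → r' ≠ q → ∀ f ∈ B.D r, ∀ d ∈ B.D r',
      Q f = 1 → Q d = 1 → ∃ s s', B.supp (g.1 f) = {s, s'} ∧ B.supp (g.1 d) = {s, s'} := by
    intro r r' hne hrp hrq hr'p hr'q f hf d hd hf1 hd1
    have hperp : ∀ z : V, ∀ i : Fin t, i ≠ p → i ≠ q → z ∈ B.D i → polar Q z ((g⁻¹).1 a) = 0 := fun z i hip hiq hz => by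
      rw [polar_comm, B.polar_pr hz, B.pr_pair_zero hap hip hiq, polar_zero_left]
    have hSt' : B.IsSt (rf Q (g.1 f) * rf Q (g.1 d)) := by
      by_contra hns'
      refine hno ⟨_, ?_, hns', a, ⟨haa, k, ha⟩, ?_⟩
      · rw [← conj_rf, ← conj_rf, show g * rf Q f * g⁻¹ * (g * rf Q d * g⁻¹) = g * (rf Q f * rf Q d) * g⁻¹ by group]
        exact mul_mem (mul_mem hg (S.rf_pair ⟨hf1.trans_ne one_ne_zero, r, hf⟩ ⟨hd1.trans_ne one_ne_zero, r', hd⟩
          (hd1.trans hf1.symm))) (inv_mem hg)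
      · show refl Q _ (refl Q _ a) = a
        rw [refl_fix (show polar Q (g.1 d) a = 0 by
            conv_lhs => rw [← hga]
            rw [polar_iso g.2, hperp d r' hr'p hr'q hd]),
          refl_fix (show polar Q (g.1 f) a = 0 by
            conv_lhs => rw [← hga]
            rw [polar_iso g.2, hperp f r hrp hrq hf])]
    obtain ⟨s, s', h1, h2⟩ := B.small_of_isSt ((g.2 f).trans_ne (hf1.trans_ne one_ne_zero))
      ((g.2 d).trans_ne (hd1.trans_ne one_ne_zero)) (fun x y h => by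
        rw [← map_smul, ← map_smul, ← map_add, LinearEquiv.map_eq_zero_iff] at h
        have hk := congrArg (B.pr r) h
        have hl := congrArg (B.pr r') h
        rw [map_add, map_smul, map_smul, B.pr_self hf, B.pr_ne hne hd, smul_zero, add_zero, map_zero,
          smul_eq_zero] at hk
        rw [map_add, map_smul, map_smul, B.pr_self hd, B.pr_ne hne.symm hf, smul_zero, zero_add, map_zero,
          smul_eq_zero] at hl
        exact ⟨hk.resolve_right fun e => hf1.trans_ne one_ne_zero (by rw [e, QuadraticMap.map_zero]),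
          hl.resolve_right fun e => hd1.trans_ne one_ne_zero (by rw [e, QuadraticMap.map_zero])⟩) hSt'
    exact ⟨s, s', hsupp s s' _ h1 (nonax r f hf hf1), hsupp s s' _ h2 (nonax r' d hd hd1)⟩
  -- three further planes
  obtain ⟨r₁, r₂, r₃, hr₁, hr₂, hr₃, h12, h13, h23⟩ :=
    Finset.two_lt_card_iff.mp (show 2 < (Finset.univ \ ({p, q} : Finset (Fin t))).card by
      rw [Finset.card_sdiff_of_subset (Finset.subset_univ _), Finset.card_univ, Fintype.card_fin]
      have := Finset.card_le_two (a := p) (b := q)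
      have := B.five
      omega)
  simp only [Finset.mem_sdiff, Finset.mem_univ, true_and, Finset.mem_insert, Finset.mem_singleton, not_or] at hr₁ hr₂ hr₃
  obtain ⟨f₁, hf₁, hf₁1⟩ := B.exists_value S.ok.weak r₁ one_ne_zero
  obtain ⟨f₂, hf₂, hf₂1⟩ := B.exists_value S.ok.weak r₂ one_ne_zero
  obtain ⟨f₃, hf₃, hf₃1⟩ := B.exists_value S.ok.weak r₃ one_ne_zero
  obtain ⟨s, s', hss, -⟩ := rel r₁ r₂ h12 hr₁.1 hr₁.2 hr₂.1 hr₂.2 f₁ hf₁ f₂ hf₂ hf₁1 hf₂1
  have rel' : ∀ r r' : Fin t, r ≠ r' → r ≠ p → r ≠ q → r' ≠ p → r' ≠ q → ∀ f ∈ B.D r, ∀ d ∈ B.D r',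
      Q f = 1 → Q d = 1 → B.supp (g.1 f) = B.supp (g.1 d) := fun r r' h1 h2 h3 h4 h5 f h6 d h7 h8 h9 => by
    obtain ⟨_, _, e1, e2⟩ := rel r r' h1 h2 h3 h4 h5 f h6 d h7 h8 h9
    rw [e1, e2]
  have hall : ∀ r ∈ ({r₁, r₂, r₃} : Finset (Fin t)), ∀ z ∈ B.D r, g.1 z ∈ B.D s ⊔ B.D s' := by
    intro r hr z hz
    have hval : ∀ f ∈ B.D r, Q f = 1 → g.1 f ∈ B.D s ⊔ B.D s' := by
      intro f hf hf1
      have he : B.supp (g.1 f) = B.supp (g.1 f₁) := by
        simp only [Finset.mem_insert, Finset.mem_singleton] at hr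
        rcases hr with rfl | rfl | rfl
        · rw [rel' r r₂ h12 hr₁.1 hr₁.2 hr₂.1 hr₂.2 f hf f₂ hf₂ hf1 hf₂1,
            rel' r r₂ h12 hr₁.1 hr₁.2 hr₂.1 hr₂.2 f₁ hf₁ f₂ hf₂ hf₁1 hf₂1]
        · exact rel' r r₁ h12.symm hr₂.1 hr₂.2 hr₁.1 hr₁.2 f hf f₁ hf₁ hf1 hf₁1
        · exact rel' r r₁ h13.symm hr₃.1 hr₃.2 hr₁.1 hr₁.2 f hf f₁ hf₁ hf1 hf₁1
      exact B.mem_pair fun j hjs hjs' => by_contra fun hne => by
        have := hss ▸ he ▸ B.mem_supp.mpr hne
        simp [hjs, hjs'] at this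
    obtain ⟨x, hx', y, hy, hx1, hy1, hind⟩ := B.exists_pair_value S.ok.weak r one_ne_zero
    obtain ⟨u, v, rfl⟩ := B.span_two hx' hy hind hz
    rw [map_add, map_smul, map_smul]
    exact add_mem (Submodule.smul_mem _ _ (hval x hx' hx1)) (Submodule.smul_mem _ _ (hval y hy hy1))
  have hdis : B.D r₁ ⊓ B.D r₂ = ⊥ :=
    (Submodule.eq_bot_iff _).mpr fun z hz => B.eq_zero_of_mem h12 hz.1 hz.2
  have h4 : finrank F ↥(B.D r₁ ⊔ B.D r₂) = 4 := by
    have := Submodule.finrank_sup_add_finrank_inf_eq (B.D r₁) (B.D r₂)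
    rw [hdis, finrank_bot, B.rank, B.rank] at this
    omega
  have hle : (B.D r₁ ⊔ B.D r₂).map (g.1 : V →ₗ[F] V) ≤ B.D s ⊔ B.D s' := by
    rw [Submodule.map_sup]
    refine sup_le ?_ ?_ <;> rintro _ ⟨z, hz, rfl⟩
    · exact hall r₁ (by simp) z hz
    · exact hall r₂ (by simp) z hz
  have heq := Submodule.eq_of_le_of_finrank_le hle (by
    rw [LinearEquiv.finrank_map_eq, h4]
    have := Submodule.finrank_add_le_finrank_add_finrank (B.D s) (B.D s')
    rw [B.rank, B.rank] at this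
    omega)
  have hmem : g.1 f₃ ∈ (B.D r₁ ⊔ B.D r₂).map (g.1 : V →ₗ[F] V) := heq ▸ hall r₃ (by simp) f₃ hf₃
  obtain ⟨z, hz, hz'⟩ := hmem
  have hzf : z = f₃ := g.1.injective hz'
  have h0 := B.pr_pair_zero hz h13.symm h23.symm
  rw [hzf, B.pr_self hf₃] at h0
  exact one_ne_zero (by rw [← hf₃1, h0, QuadraticMap.map_zero])

/-- Three planes in which the image is zero or anisotropic give a seed. -/
theorem Planes.Adm.seed_of_three (S : B.Adm H) {g : ↥(Iso Q)} (hg : g ∈ H) (hns : ¬ B.IsSt g) {c : V}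
    (hc : B.Ax c) (k : Fin 3 → Fin t) (hk : Function.Injective k)
    (h : ∀ i, B.pr (k i) (g.1 c) = 0 ∨ Q (B.pr (k i) (g.1 c)) ≠ 0) : B.Seed H := by
  have hv : ∀ i, ∃ a ∈ B.D (k i), Q a ≠ 0 ∧ polar Q (g.1 c) a = 0 := fun i => by
    obtain ⟨x, hx, hx1⟩ := B.exists_value S.ok.weak (k i) one_ne_zero
    exact B.exists_toggle _ (h i) hx (hx1.trans_ne one_ne_zero)
  choose a ha haa hperp using hv
  obtain ⟨i, j, hij, s, hs⟩ := exists_sq_pair (fun i => Q (a i)) haa
  exact S.seed_of_pair hg hns hc (hk.ne hij) (ha i) ((B.D (k j)).smul_mem s (ha j)) (haa i)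
    (by rw [QuadraticMap.map_smul, smul_eq_mul]; exact hs.symm) (hperp i)
    (by rw [polar_smul_right, hperp j, smul_zero])

/-- An image with a zero component gives a seed. -/
theorem Planes.Adm.seed_of_zero (S : B.Adm H) {g : ↥(Iso Q)} (hg : g ∈ H) (hns : ¬ B.IsSt g) {c : V}
    (hc : B.Ax c) {p : Fin t} (h : B.pr p (g.1 c) = 0) : B.Seed H := by
  by_cases hl : ∃ l, l ≠ p ∧ (B.pr l (g.1 c) = 0 ∨ Q (B.pr l (g.1 c)) ≠ 0)
  · obtain ⟨l, hlp, hl⟩ := hl
    obtain ⟨x, hx, hx1⟩ := B.exists_value S.ok.weak l one_ne_zero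
    obtain ⟨a, ha, haa, hperp⟩ := B.exists_toggle _ hl hx (hx1.trans_ne one_ne_zero)
    obtain ⟨b, hb, hbv⟩ := B.exists_value S.ok.weak p haa
    exact S.seed_of_pair hg hns hc hlp ha hb haa hbv hperp (by rw [B.polar_pr hb, h, polar_zero_left])
  push Not at hl
  exfalso
  refine hc.1 ?_
  rw [← g.2, B.val_eq]
  refine Finset.sum_eq_zero fun l _ => ?_
  by_cases hlp : l = p
  · rw [hlp, h, QuadraticMap.map_zero]
  · exact (hl l hlp).2

/-- The step for two images singular on one line of a plane. -/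
theorem Planes.Adm.seed_of_slot (S : B.Adm H) {g : ↥(Iso Q)} (hg : g ∈ H) {c d : V} (hc : B.Ax c) (hd : B.Ax d)
    (hc1 : Q c = 1) (hd1 : Q d = 1) (hind : ∀ s r : F, s • c + r • d = 0 → s = 0 ∧ r = 0)
    (hfull : ∀ i, B.pr i (g.1 c) ≠ 0) {p : Fin t} {e : V} (hee : Q e = 0) {α α' : F}
    (hu : B.pr p (g.1 c) = α • e) (hu2 : B.pr p (g.1 d) = α' • e)
    (hK : α ^ 2 + α' ^ 2 - α * α' * polar Q c d ≠ 0) : B.Seed H := by
  classical
  obtain ⟨x, hxdef⟩ : ∃ x, x = rf Q (g.1 c) * rf Q (g.1 d) := ⟨_, rfl⟩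
  have hxH : x ∈ H := by
    rw [hxdef, ← conj_rf, ← conj_rf, show g * rf Q c * g⁻¹ * (g * rf Q d * g⁻¹) = g * (rf Q c * rf Q d) * g⁻¹ by group]
    exact mul_mem (mul_mem hg (S.rf_pair hc hd (hd1.trans hc1.symm))) (inv_mem hg)
  have hxns : ¬ B.IsSt x := fun h => by
    obtain ⟨s, s', h1, -⟩ := B.small_of_isSt ((g.2 c).trans_ne (hc1.trans_ne one_ne_zero))
      ((g.2 d).trans_ne (hd1.trans_ne one_ne_zero)) (fun a b h => hind a b (by
        rw [← map_smul, ← map_smul, ← map_add, LinearEquiv.map_eq_zero_iff] at h; exact h)) (hxdef ▸ h)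
    obtain ⟨j, hj⟩ := exists_ne_ne (t := t) B.five s s'
    exact hfull j (B.pr_pair_zero h1 hj.1 hj.2)
  obtain ⟨w, hw⟩ : ∃ w, w = α • g.1 c + (α' - α * polar Q c d) • g.1 d := ⟨_, rfl⟩
  have hwp : B.pr p w = (α ^ 2 + α' ^ 2 - α * α' * polar Q c d) • e := by
    rw [hw, map_add, map_smul, map_smul, hu, hu2]; module
  obtain ⟨l, hl⟩ : ∃ l, Q (B.pr l w) ≠ 0 := by
    by_contra hcon
    push Not at hcon
    refine hK ?_
    have h1 : Q w = 0 := by rw [B.val_eq]; exact Finset.sum_eq_zero fun i _ => hcon i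
    rw [hw, val_comb, g.2, g.2, polar_iso g.2, hc1, hd1] at h1
    linear_combination h1
  have hlp : l ≠ p := fun e' => hl (by rw [e', hwp, QuadraticMap.map_smul, hee, smul_zero])
  obtain ⟨f, hf, hwf, hff⟩ := B.exists_perp (B.pr_mem l w) hl
  rw [← B.polar_pr hf] at hwf
  rw [hw, polar_add_left, polar_smul_left, polar_smul_left, smul_eq_mul, smul_eq_mul] at hwf
  refine S.seed_of_zero hxH hxns ⟨hff, l, hf⟩ (p := p) ?_
  have h1 : x.1 f = f - polar Q (g.1 d) f • g.1 d -
      (polar Q (g.1 c) f - polar Q (g.1 d) f * polar Q c d) • g.1 c := by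
    rw [hxdef]
    show refl Q _ (refl Q _ f) = _
    rw [refl_apply, refl_apply, g.2, g.2, hc1, hd1, inv_one, one_mul, one_mul, polar_sub_right, polar_smul_right,
      polar_iso g.2, smul_eq_mul]
  rw [h1, map_sub, map_sub, map_smul, map_smul, B.pr_ne (Ne.symm hlp) hf, hu, hu2]
  linear_combination (norm := module) -hwf • e

/-- Some member moves no further than fixing an anisotropic vector of a plane. -/
theorem Planes.Adm.seed (S : B.Adm H) {g : ↥(Iso Q)} (hg : g ∈ H) (hns : ¬ B.IsSt g) : B.Seed H := by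
  classical
  by_contra hno
  have hfull : ∀ c, B.Ax c → ∀ i, B.pr i (g.1 c) ≠ 0 := fun c hc i h => hno (S.seed_of_zero hg hns hc h)
  have hfew : ∀ c, B.Ax c → ∀ k : Fin 3 → Fin t, Function.Injective k → ∃ i, Q (B.pr (k i) (g.1 c)) = 0 := by
    intro c hc k hk
    by_contra hcon
    push Not at hcon
    exact hno (S.seed_of_three hg hns hc k hk fun i => Or.inr (hcon i))
  have hsmall : ∀ c, B.Ax c → (Finset.univ.filter fun i => Q (B.pr i (g.1 c)) ≠ 0).card ≤
      if (2 : F) = 0 then 1 else 2 := by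
    intro c hc
    split_ifs with h2
    · refine Finset.card_le_one.mpr fun i hi j hj => by_contra fun hij => hno ?_
      simp only [Finset.mem_filter, Finset.mem_univ, true_and] at hi hj
      obtain ⟨x, hx, hx1⟩ := B.exists_value S.ok.weak i one_ne_zero
      obtain ⟨a, ha, haa, hpa⟩ := B.exists_toggle _ (Or.inr hi) hx (hx1.trans_ne one_ne_zero)
      obtain ⟨y, hy, hy1⟩ := B.exists_value S.ok.weak j one_ne_zero
      obtain ⟨b, hb, hbb, hpb⟩ := B.exists_toggle _ (Or.inr hj) hy (hy1.trans_ne one_ne_zero)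
      haveI : CharP F 2 := CharTwo.of_one_ne_zero_of_two_eq_zero one_ne_zero h2
      obtain ⟨s, hs⟩ := FiniteField.isSquare_of_char_two (ringChar.eq F 2) (Q a / Q b)
      exact S.seed_of_pair hg hns hc hij ha ((B.D j).smul_mem s hb) haa
        (by rw [QuadraticMap.map_smul, smul_eq_mul, ← hs, div_mul_cancel₀ _ hbb]) hpa
        (by rw [polar_smul_right, hpb, smul_zero])
    · by_contra hlt
      push Not at hlt
      obtain ⟨a, b, d, ha, hb, hd, hab, had, hbd⟩ := Finset.two_lt_card_iff.mp hlt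
      simp only [Finset.mem_filter, Finset.mem_univ, true_and] at ha hb hd
      obtain ⟨i, hi⟩ := hfew c hc ![a, b, d] (by intro x y; fin_cases x <;> fin_cases y <;> simp [*, Ne.symm])
      fin_cases i <;> simp_all
  have hA : ¬ B.Aniso := fun hA => by
    have hf := B.five
    obtain ⟨v, hv, hv1⟩ := B.exists_value S.ok.weak ⟨0, by omega⟩ one_ne_zero
    have hax : B.Ax v := ⟨hv1.trans_ne one_ne_zero, _, hv⟩
    obtain ⟨i, hi⟩ := hfew v hax (fun i => ⟨i.1, by omega⟩) (fun x y h => Fin.ext (by simpa using h))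
    exact hfull v hax _ (hA _ _ (B.pr_mem _ _) hi)
  have h7 : 7 ≤ Fintype.card F := by
    rcases S.ok with h | h
    · exact absurd h.1 hA
    · exact h.2
  choose e f he hf hee hff hef hsp using fun i => B.exists_hyp hA i
  obtain ⟨N, hN⟩ : ∃ N : ℕ, N = if (2 : F) = 0 then 3 else 2 := ⟨_, rfl⟩
  obtain ⟨Λ, hΛ0, hΛ⟩ : ∃ Λ : Fin N → F, (∀ n, Λ n ≠ 0) ∧ ∀ n m, Λ n * Λ n = Λ m * Λ m → n = m := by
    have h0 : ((0 : F) ∈ (Finset.univ : Finset F)) := Finset.mem_univ _
    by_cases h2 : (2 : F) = 0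
    · obtain ⟨s, hs, hcard⟩ := Finset.exists_subset_card_eq (s := (Finset.univ : Finset F).erase 0) (n := 3)
        (by rw [Finset.card_erase_of_mem h0, Finset.card_univ]; omega)
      rw [if_pos h2] at hN
      subst hN
      refine ⟨fun n => (s.equivFin.symm (Fin.cast hcard.symm n) : F),
        fun n => (Finset.mem_erase.mp (hs (s.equivFin.symm (Fin.cast hcard.symm n)).2)).1, fun n m h => ?_⟩
      have h' : (s.equivFin.symm (Fin.cast hcard.symm n) : F) = s.equivFin.symm (Fin.cast hcard.symm m) := by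
        rcases mul_self_eq_mul_self_iff.mp h with h | h
        · exact h
        · dsimp only at h
          rw [h, neg_eq_iff_add_eq_zero, ← two_mul, h2, zero_mul]
      exact Fin.cast_injective _ (s.equivFin.symm.injective (Subtype.ext h'))
    · obtain ⟨m, hm⟩ := exists_field_avoid ({0, 1, -1} : Finset F) (Finset.card_le_three.trans_lt (by omega))
      simp only [Finset.mem_insert, Finset.mem_singleton, not_or] at hm
      rw [if_neg h2] at hN
      subst hN
      refine ⟨![1, m], fun n => by fin_cases n <;> simp [hm.1], fun n k h => ?_⟩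
      fin_cases n <;> fin_cases k
      · rfl
      · exact absurd h (fun h => (mul_self_eq_one_iff.mp (by simpa using h.symm)).elim hm.2.1 hm.2.2)
      · exact absurd h (fun h => (mul_self_eq_one_iff.mp (by simpa using h)).elim hm.2.1 hm.2.2)
      · rfl
  obtain ⟨vec, hvec⟩ : ∃ vec : Fin t × Fin N → V, vec = fun x => Λ x.2 • e x.1 + (Λ x.2)⁻¹ • f x.1 := ⟨_, rfl⟩
  have hvD : ∀ x, vec x ∈ B.D x.1 := fun x => by
    rw [hvec]; exact add_mem ((B.D _).smul_mem _ (he _)) ((B.D _).smul_mem _ (hf _))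
  have hv1 : ∀ x, Q (vec x) = 1 := fun x => by
    rw [hvec, val_comb, hee, hff, hef, mul_inv_cancel₀ (hΛ0 _)]; ring
  have hvax : ∀ x, B.Ax (vec x) := fun x => ⟨(hv1 x).trans_ne one_ne_zero, _, hvD x⟩
  have hv0 : ∀ x, vec x ≠ 0 := fun x h => one_ne_zero (by rw [← hv1 x, h, QuadraticMap.map_zero])
  have hind : ∀ x y, x ≠ y → ∀ s r : F, s • vec x + r • vec y = 0 → s = 0 ∧ r = 0 := by
    intro x y hxy s r h
    by_cases h1 : x.1 = y.1
    · obtain ⟨i, n⟩ := x
      obtain ⟨j, m⟩ := y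
      subst h1
      have hnm : n ≠ m := fun e => hxy (by rw [e])
      have ep : ∀ a b : F, polar Q (a • e i + b • f i) (f i) = a := fun a b => by
        rw [polar_add_left, polar_smul_left, polar_smul_left, hef, polar_self_zero (hff i)]; simp
      have eq' : ∀ a b : F, polar Q (a • e i + b • f i) (e i) = b := fun a b => by
        rw [polar_add_left, polar_smul_left, polar_smul_left, polar_comm Q (f i), hef, polar_self_zero (hee i)]; simp
      have h3 : (s * Λ n + r * Λ m) • e i + (s * (Λ n)⁻¹ + r * (Λ m)⁻¹) • f i = 0 := by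
        rw [← h, hvec]; module
      have a1 := ep (s * Λ n + r * Λ m) (s * (Λ n)⁻¹ + r * (Λ m)⁻¹)
      have a2 := eq' (s * Λ n + r * Λ m) (s * (Λ n)⁻¹ + r * (Λ m)⁻¹)
      rw [h3, polar_zero_left] at a1 a2
      have hn0 := hΛ0 n
      have hm0 := hΛ0 m
      have hne : Λ n * Λ n - Λ m * Λ m ≠ 0 := sub_ne_zero.mpr fun e => hnm (hΛ n m e)
      field_simp at a2
      have hs : s = 0 := (mul_eq_zero.mp (by linear_combination (norm := ring_nf) -Λ n * a1 + Λ m * a2 :
        s * (Λ n * Λ n - Λ m * Λ m) = 0)).resolve_right hne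
      subst hs
      exact ⟨rfl, (mul_eq_zero.mp (by linear_combination -a1 : r * Λ m = 0)).resolve_right hm0⟩
    · have hk := congrArg (B.pr x.1) h
      have hl := congrArg (B.pr y.1) h
      rw [map_add, map_smul, map_smul, B.pr_self (hvD x), B.pr_ne h1 (hvD y), smul_zero, add_zero, map_zero,
        smul_eq_zero] at hk
      rw [map_add, map_smul, map_smul, B.pr_self (hvD y), B.pr_ne (Ne.symm h1) (hvD x), smul_zero, zero_add, map_zero,
        smul_eq_zero] at hl
      exact ⟨hk.resolve_right (hv0 x), hl.resolve_right (hv0 y)⟩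
  -- the singular components fall into slots
  obtain ⟨L, hL⟩ : ∃ L : Fin t × Bool → V, L = fun s => if s.2 then e s.1 else f s.1 := ⟨_, rfl⟩
  have hLD : ∀ s, L s ∈ B.D s.1 ∧ Q (L s) = 0 := fun ⟨i, b⟩ => by
    cases b <;> simp [hL, he, hf, hee, hff]
  have hslot : ∀ p, ∀ z ∈ B.D p, Q z = 0 → ∃ b, ∃ α : F, z = α • L (p, b) := by
    intro p z hz hzz
    obtain ⟨s, r, rfl⟩ := hsp p z hz
    rw [val_comb, hee, hff, hef] at hzz
    rcases mul_eq_zero.mp (by linear_combination hzz : s * r = 0) with h | h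
    · exact ⟨false, r, by rw [hL, h]; simp⟩
    · exact ⟨true, s, by rw [hL, h]; simp⟩
  obtain ⟨P, hP⟩ : ∃ P : Finset ((Fin t × Fin N) × Fin t),
      P = Finset.univ.filter fun z => Q (B.pr z.2 (g.1 (vec z.1))) = 0 := ⟨_, rfl⟩
  choose bb αα hbα using fun z : P => hslot z.1.2 (B.pr z.1.2 (g.1 (vec z.1.1))) (B.pr_mem _ _) (by
    have := z.2; simp only [hP, Finset.mem_filter] at this; exact this.2)
  have hcardP : Fintype.card (Fin t × Fin N) * (t - if (2 : F) = 0 then 1 else 2) ≤ P.card := by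
    rw [hP, Finset.card_filter, Fintype.sum_prod_type]
    refine le_trans (le_of_eq (by rw [Finset.sum_const, Finset.card_univ, smul_eq_mul])) (Finset.sum_le_sum fun x _ => ?_)
    rw [← Finset.card_filter]
    have h1 := Finset.card_filter_add_card_filter_not (s := (Finset.univ : Finset (Fin t)))
      fun i => Q (B.pr i (g.1 (vec x))) = 0
    rw [Finset.card_univ, Fintype.card_fin] at h1
    have := hsmall _ (hvax x)
    simp only [ne_eq] at this h1 ⊢
    omega
  obtain ⟨M, hM⟩ : ∃ M : ℕ, M = if (2 : F) = 0 then t else 2 := ⟨_, rfl⟩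
  obtain ⟨s₀, -, hs₀⟩ := Finset.exists_lt_card_fiber_of_mul_lt_card_of_maps_to
    (s := (Finset.univ : Finset P)) (t := (Finset.univ : Finset (Fin t × Bool))) (n := M)
    (f := fun z : P => (z.1.2, bb z)) (fun _ _ => Finset.mem_univ _) (by
      rw [Finset.card_univ, Finset.card_univ, Fintype.card_coe, Fintype.card_prod, Fintype.card_fin, Fintype.card_bool]
      refine lt_of_lt_of_le ?_ hcardP
      rw [Fintype.card_prod, Fintype.card_fin, Fintype.card_fin, hM, hN]
      have := B.five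
      obtain ⟨m, rfl⟩ := Nat.exists_eq_add_of_le this
      split_ifs <;>
      · simp only [show 5 + m - 1 = 4 + m by omega, show 5 + m - 2 = 3 + m by omega]
        nlinarith)
  obtain ⟨I, hI⟩ : ∃ I : Finset (Fin t × Fin N), I =
      ((Finset.univ : Finset P).filter fun z => (z.1.2, bb z) = s₀).image fun z => z.1.1 := ⟨_, rfl⟩
  have hIc : M < I.card := by
    rw [hI, Finset.card_image_of_injOn]
    · exact hs₀
    · intro z hz w hw h
      simp only [Finset.coe_filter, Set.mem_ofPred_eq, Finset.mem_univ, true_and] at hz hw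
      exact Subtype.ext (Prod.ext h ((congrArg Prod.fst hz).trans (congrArg Prod.fst hw).symm))
  have hIα : ∀ x ∈ I, ∃ α : F, α ≠ 0 ∧ B.pr s₀.1 (g.1 (vec x)) = α • L s₀ := by
    intro x hx
    rw [hI, Finset.mem_image] at hx
    obtain ⟨z, hz, rfl⟩ := hx
    rw [Finset.mem_filter] at hz
    refine ⟨αα z, fun h0 => hfull _ (hvax z.1.1) z.1.2 (by rw [hbα, h0, zero_smul]), ?_⟩
    rw [← hz.2]; exact hbα z
  choose! α hα0 hα using hIα
  have hzero : ∀ x ∈ I, ∀ y ∈ I, x ≠ y → α x ^ 2 + α y ^ 2 - α x * α y * polar Q (vec x) (vec y) = 0 := by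
    intro x hx y hy hxy
    by_contra hK
    exact hno (S.seed_of_slot hg (hvax x) (hvax y) (hv1 x) (hv1 y) (hind x y hxy) (hfull _ (hvax x)) (hLD s₀).2
      (hα x hx) (hα y hy) hK)
  have hNN : ∀ p : Fin t, (I.filter fun x => x.1 = p).card ≤ N := fun p => by
    refine (Finset.card_le_card (fun x hx => ?_)).trans
      ((Finset.card_image_le (s := (Finset.univ : Finset (Fin N))) (f := fun n => (p, n))).trans (by simp))
    exact Finset.mem_image.mpr ⟨x.2, Finset.mem_univ _, by rw [← (Finset.mem_filter.mp hx).2]⟩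
  -- three indices, one of them in another plane
  obtain ⟨i, hi, j, hj, k, hk, hij, hik, hjk, hpl⟩ : ∃ i ∈ I, ∃ j ∈ I, ∃ k ∈ I, i ≠ j ∧ i.1 ≠ k.1 ∧ j.1 ≠ k.1 ∧
      (i.1 = j.1 ∨ (2 : F) ≠ 0) := by
    have hf5 := B.five
    by_cases h2 : (2 : F) = 0
    · rw [if_pos h2] at hM hN
      obtain ⟨i, hi, j, hj, hij, hp⟩ := Finset.exists_ne_map_eq_of_card_lt_of_maps_to
        (s := I) (t := (Finset.univ : Finset (Fin t))) (f := Prod.fst)
        (by rw [Finset.card_univ, Fintype.card_fin]; omega) (fun _ _ => Finset.mem_univ _)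
      obtain ⟨k, hk, hkp⟩ : ∃ k ∈ I, k.1 ≠ i.1 := by
        by_contra hcon
        push Not at hcon
        have := hNN i.1
        rw [Finset.filter_true_of_mem hcon] at this
        omega
      exact ⟨i, hi, j, hj, k, hk, hij, hkp.symm, fun e => hkp ((e.symm.trans hp.symm)), Or.inl hp⟩
    · rw [if_neg h2] at hM hN
      obtain ⟨i, hi⟩ : I.Nonempty := Finset.card_pos.mp (by omega)
      obtain ⟨k, hk, hkp⟩ : ∃ k ∈ I, k.1 ≠ i.1 := by
        by_contra hcon
        push Not at hcon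
        have := hNN i.1
        rw [Finset.filter_true_of_mem hcon] at this
        omega
      obtain ⟨j, hj, hjn⟩ := Finset.exists_mem_notMem_of_card_lt_card (s := ({i, k} : Finset _)) (t := I)
        (Finset.card_le_two.trans_lt (by omega))
      simp only [Finset.mem_insert, Finset.mem_singleton, not_or] at hjn
      by_cases hjp : j.1 = k.1
      · exact ⟨k, hk, j, hj, i, hi, Ne.symm hjn.2, hkp, hjp ▸ hkp, Or.inr h2⟩
      · exact ⟨i, hi, j, hj, k, hk, Ne.symm hjn.1, hkp.symm, hjp, Or.inr h2⟩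
  have e1 := hzero i hi k hk fun e => hik (by rw [e])
  have e2 := hzero j hj k hk fun e => hjk (by rw [e])
  have e3 := hzero i hi j hj hij
  rw [B.orth _ _ hik _ (hvD i) _ (hvD k)] at e1
  rw [B.orth _ _ hjk _ (hvD j) _ (hvD k)] at e2
  obtain ⟨s, hs, hsj⟩ : ∃ s : F, s * s = 1 ∧ α j = s * α i := by
    refine ⟨α j / α i, ?_, (div_mul_cancel₀ _ (hα0 i hi)).symm⟩
    have := hα0 i hi
    field_simp
    linear_combination e2 - e1
  have hB : polar Q (vec i) (vec j) = 2 * s := by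
    rw [hsj] at e3
    refine mul_left_cancel₀ (mul_ne_zero (pow_ne_zero 2 (hα0 i hi)) (fun e => by rw [e] at hs; simp at hs : s ≠ 0)) ?_
    linear_combination -e3 - (α i ^ 2) * hs
  by_cases hp : i.1 = j.1
  · have := B.eq_of_polar_two (hvD i) (hp ▸ hvD j) ((hv1 i).trans_ne one_ne_zero) ((hv1 j).trans (hv1 i).symm) hs
      (by rw [hB, hv1 i, mul_one])
    have h0 := hind i j hij s (-1) (by rw [this, neg_one_smul, add_neg_cancel])
    exact one_ne_zero (by linear_combination -h0.2 : (1 : F) = 0)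
  · rw [B.orth _ _ hp _ (hvD i) _ (hvD j)] at hB
    exact mul_ne_zero (hpl.resolve_left hp) (fun e => by rw [e] at hs; simp at hs) hB.symm

end Cfsg.Agent.Classical.OPlanes
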