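import Cfsg.Agent.Lib.Classical.OPlanes.Plane

/-!
# Values in the planes and reflections modulo the derived group
-/

set_option autoImplicit false
set_option linter.unusedSectionVars false

namespace Cfsg.Agent.Classical.OPlanes

open Module QuadraticMap OCount ORefl OOmega
open scoped commutatorElement

variable {F : Type*} [Field F] [Fintype F] {V : Type*} [AddCommGroup V] [Module F V] [Finite V]
  [FiniteDimensional F V] {Q : QuadraticForm F V} {t : ℕ}
variable (B : Planes Q t)

instance : Finite ↥(Iso Q) :=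
  Finite.of_injective (fun g : ↥(Iso Q) => (g.1 : V → V)) fun _ _ h => Subtype.ext (LinearEquiv.coe_injective h)

/-- The fields allowed for either type of plane. -/
def Planes.Ok : Prop := (B.Aniso ∧ Fintype.card F ≠ 3) ∨ (¬ B.Aniso ∧ 7 ≤ Fintype.card F)

theorem exists_field_avoid (s : Finset F) (h : s.card < Fintype.card F) : ∃ a : F, a ∉ s := by
  classical
  obtain ⟨a, -, ha⟩ := Finset.exists_mem_notMem_of_card_lt_card (s := s) (t := Finset.univ) (by rwa [Finset.card_univ])
  exact ⟨a, ha⟩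

theorem Planes.finrank_eq (B : Planes Q t) : finrank F V = 2 * t := by
  have e : V ≃ₗ[F] ((i : Fin t) → B.D i) :=
    LinearEquiv.ofBijective (LinearMap.pi fun i => (B.pr i).codRestrict (B.D i) (B.pr_mem i))
      ⟨fun x y h => B.ext_pr fun i => congrArg Subtype.val (congrFun h i), fun c => ⟨∑ i, (c i : V), funext fun i =>
        Subtype.ext (B.pr_sum (fun j => (c j).2) i)⟩⟩
  rw [e.finrank_eq, Module.finrank_pi_fintype, Finset.sum_congr rfl fun i _ => B.rank i, Finset.sum_const,
    Finset.card_univ, Fintype.card_fin, smul_eq_mul, mul_comm]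

/-- Two independent vectors of each value. -/
theorem Planes.exists_pair_value (hok : B.Aniso ∨ 4 ≤ Fintype.card F) (i : Fin t) {a : F} (ha : a ≠ 0) :
    ∃ x ∈ B.D i, ∃ y ∈ B.D i, Q x = a ∧ Q y = a ∧ ∀ s r : F, s • x + r • y = 0 → s = 0 ∧ r = 0 := by
  classical
  suffices h : ∃ x ∈ B.D i, ∃ y ∈ B.D i, Q x = a ∧ Q y = a ∧ y ≠ x ∧ y ≠ -x by
    obtain ⟨x, hx, y, hy, hxa, hya, h1, h2⟩ := h
    refine ⟨x, hx, y, hy, hxa, hya, fun s r hsr => ?_⟩
    have hx0 : x ≠ 0 := fun e => ha (by rw [← hxa, e, QuadraticMap.map_zero])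
    have hr : r = 0 := by
      by_contra hr
      have hy' : y = (-(r⁻¹ * s)) • x := by
        have h0 := congrArg (r⁻¹ • ·) hsr
        simp only [smul_add, smul_smul, inv_mul_cancel₀ hr, one_smul, smul_zero] at h0
        rw [neg_smul, eq_neg_iff_add_eq_zero, add_comm]; exact h0
      have h3 := hya
      rw [hy', QuadraticMap.map_smul, hxa, smul_eq_mul] at h3
      rcases mul_self_eq_one_iff.mp (mul_right_cancel₀ ha (h3.trans (one_mul a).symm)) with e | e
      · exact h1 (by rw [hy', e, one_smul])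
      · exact h2 (by rw [hy', e, neg_one_smul])
    rw [hr, zero_smul, add_zero, smul_eq_zero] at hsr
    exact ⟨hsr.resolve_right hx0, hr⟩
  by_cases hA : B.Aniso
  · have hc := B.card_circ hA i ha
    have hq := Fintype.one_lt_card (α := F)
    obtain ⟨⟨x, hx⟩, hxa⟩ := Finset.card_pos.mp (show 0 < (B.circ i a).card by omega)
    obtain ⟨⟨y, hy⟩, hya, hne⟩ := Finset.exists_mem_notMem_of_card_lt_card
      (s := ({⟨x, hx⟩, ⟨-x, neg_mem hx⟩} : Finset (B.D i))) (t := B.circ i a)
      (Finset.card_le_two.trans_lt (by omega))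
    simp only [Finset.mem_insert, Finset.mem_singleton, Subtype.mk.injEq, not_or] at hne
    exact ⟨x, hx, y, hy, B.mem_circ.mp hxa, B.mem_circ.mp hya, hne.1, hne.2⟩
  · obtain ⟨e, f, he, hf, hee, hff, hef, -⟩ := B.exists_hyp hA i
    obtain ⟨l, hl⟩ := exists_field_avoid ({0, 1, -1} : Finset F)
      (Finset.card_le_three.trans_lt (by have := hok.resolve_left hA; omega))
    simp only [Finset.mem_insert, Finset.mem_singleton, not_or] at hl
    refine ⟨(1 : F) • e + a • f, add_mem ((B.D i).smul_mem _ he) ((B.D i).smul_mem _ hf),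
      l • e + (a / l) • f, add_mem ((B.D i).smul_mem _ he) ((B.D i).smul_mem _ hf), ?_, ?_, ?_, ?_⟩
    · rw [val_comb, hee, hff, hef]; ring
    · rw [val_comb, hee, hff, hef]; field_simp [hl.1]; ring
    · intro h
      refine hl.2.1 ?_
      have := congrArg (fun z => polar Q z f) h
      simpa [polar_add_left, polar_smul_left, hef, polar_self_zero hff] using this
    · intro h
      refine hl.2.2 ?_
      have := congrArg (fun z => polar Q z f) h
      simpa [polar_add_left, polar_smul_left, polar_neg_left, hef, polar_self_zero hff] using this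

theorem Planes.exists_value (hok : B.Aniso ∨ 4 ≤ Fintype.card F) (i : Fin t) {a : F} (ha : a ≠ 0) :
    ∃ x ∈ B.D i, Q x = a := by
  obtain ⟨x, hx, -, -, hxa, -, -⟩ := B.exists_pair_value hok i ha
  exact ⟨x, hx, hxa⟩

omit [Fintype F] [Finite V] in
/-- Reflections of equal value agree modulo the derived group. -/
theorem Planes.pair_mem (B : Planes Q t) {a b : V} (ha : Q a ≠ 0) (h : Q b = Q a) :
    rf Q b * rf Q a ∈ commutator ↥(Iso Q) := by
  obtain ⟨g, rfl⟩ := exists_conj B.pnd (fun e => ha (by rw [e, QuadraticMap.map_zero]))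
    (fun e => ha (by rw [← h, e, QuadraticMap.map_zero])) h
  have hc : ⁅g, rf Q a⁆ ∈ commutator ↥(Iso Q) :=
    Subgroup.commutator_mem_commutator (Subgroup.mem_top g) (Subgroup.mem_top _)
  rwa [commutatorElement_def, conj_rf, rf_inv] at hc

omit [Fintype F] [Finite V] [FiniteDimensional F V] in
/-- Products of reflections in one plane fix the vectors outside it and permute the planes. -/
theorem Planes.closure_local [Finite ↥(Iso Q)] {p : Fin t} {g : ↥(Iso Q)}
    (hg : g ∈ Subgroup.closure {g | ∃ v ∈ B.D p, Q v ≠ 0 ∧ g = rf Q v}) :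
    B.IsSt g ∧ ∀ i, i ≠ p → ∀ x ∈ B.D i, g.1 x = x := by
  induction hg using Subgroup.closure_induction with
  | mem x hx =>
    obtain ⟨v, hv, -, rfl⟩ := hx
    exact ⟨B.isSt_rf hv, fun i hi y hy => refl_fix (B.orth p i (Ne.symm hi) v hv y hy)⟩
  | one => exact ⟨B.isSt_one, fun _ _ _ _ => rfl⟩
  | mul x y _ _ hx hy =>
    refine ⟨hx.1.mul B hy.1, fun i hi z hz => ?_⟩
    show x.1 (y.1 z) = z
    rw [hy.2 i hi z hz, hx.2 i hi z hz]
  | inv x _ hx =>
    refine ⟨hx.1.inv B, fun i hi z hz => ?_⟩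
    have h := x.1.symm_apply_apply z
    rw [hx.2 i hi z hz] at h
    exact h

/-- Modulo the derived group every isometry is a product of reflections of one plane. -/
theorem Planes.exists_factor (hok : B.Aniso ∨ 4 ≤ Fintype.card F) (p : Fin t) (g : ↥(Iso Q)) :
    ∃ a ∈ Subgroup.closure {g | ∃ v ∈ B.D p, Q v ≠ 0 ∧ g = rf Q v}, g * a ∈ commutator ↥(Iso Q) := by
  refine induction_on (motive := fun g => ∃ a ∈ Subgroup.closure {g | ∃ v ∈ B.D p, Q v ≠ 0 ∧ g = rf Q v},
    g * a ∈ commutator ↥(Iso Q)) B.pnd (Or.inr (by rw [B.finrank_eq]; have := B.five; omega)) g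
    ⟨1, one_mem _, by rw [mul_one]; exact one_mem _⟩ fun v g hv ⟨a, ha, hga⟩ => ?_
  obtain ⟨w, hw, hwv⟩ := B.exists_value hok p hv
  refine ⟨a * rf Q w, mul_mem ha (Subgroup.subset_closure ⟨w, hw, hwv ▸ hv, rfl⟩), ?_⟩
  have h1 := (inferInstance : (commutator ↥(Iso Q)).Normal).conj_mem _ hga (rf Q v)
  have h2 : rf Q v * rf Q w ∈ commutator ↥(Iso Q) := B.pair_mem (hwv ▸ hv) hwv.symm
  have h3 := mul_mem h1 h2
  rwa [rf_inv, show rf Q v * (g * a) * rf Q v * (rf Q v * rf Q w) =
    rf Q v * g * a * (rf Q v * rf Q v) * rf Q w by group, rf_mul_self, mul_one, mul_assoc (rf Q v * g)] at h3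

/-- The monomial part of the derived group moves any axis vector to any other of the same value. -/
theorem Planes.exists_mono_move (hok : B.Aniso ∨ 4 ≤ Fintype.card F) {i j : Fin t} {c c' : V} (hc : c ∈ B.D i)
    (hc' : c' ∈ B.D j) (hcc : Q c ≠ 0) (h : Q c' = Q c) :
    ∃ m ∈ commutator ↥(Iso Q), B.IsSt m ∧ m.1 c = c' := by
  obtain ⟨τ, hτ, -, -, hst⟩ := B.exists_swap i j
  obtain ⟨μ, hμ, hμc⟩ := B.exists_move (hτ c hc) hc' (by rw [τ.2]; exact hcc) (by rw [τ.2, h])
  obtain ⟨p, hpj⟩ : ∃ p : Fin t, p ≠ j := by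
    have := B.five
    by_cases h0 : j.1 = 0
    · exact ⟨⟨1, by omega⟩, fun e => by rw [← e] at h0; simp at h0⟩
    · exact ⟨⟨0, by omega⟩, fun e => h0 (by rw [← e])⟩
  obtain ⟨a, ha, hmem⟩ := B.exists_factor hok p (μ * τ)⁻¹
  refine ⟨a⁻¹ * (μ * τ), ?_, ((B.closure_local ha).1.inv B).mul B ((B.closure_local hμ).1.mul B hst), ?_⟩
  · have := inv_mem hmem; rwa [mul_inv_rev, inv_inv] at this
  · show (a⁻¹).1 (μ.1 (τ.1 c)) = c'
    rw [hμc]
    exact (B.closure_local (inv_mem ha)).2 j (Ne.symm hpj) c' hc'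

end Cfsg.Agent.Classical.OPlanes
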